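import Mathlib
import Cfsg.Prelude.Def_Solvable
import Cfsg.Agent.Solv.Core
import Cfsg.Agent.SigF.Coprime
import Cfsg.Agent.Frob.Aut
import Cfsg.Agent.H4.Final

/-! Structure of nonsolvable groups in which the centralizers of involutions are 2-groups. -/

set_option autoImplicit false
set_option linter.unusedSectionVars false
set_option linter.style.haveILetI false

namespace Cfsg.Agent.JY

open Subgroup Cfsg

universe u

/-- centralizers of involutions are 2-groups -/
def CIT (G : Type*) [Group G] : Prop :=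
  ∀ t : G, orderOf t = 2 → IsPGroup 2 (Subgroup.centralizer ({t} : Set G))

/-- groups of odd order are solvable -/
def OS : Prop := ∀ (W : Type u) [Group W] [Finite W], Odd (Nat.card W) → Group.IsSolvable W

theorem solvable_of_nilpotent {G : Type*} [Group G] (h : Group.IsNilpotent G) : Group.IsSolvable G :=
  inferInstance

theorem mem_centr {G : Type*} [Group G] {x y : G} : y ∈ centralizer ({x} : Set G) ↔ x * y = y * x := by
  rw [mem_centralizer_iff]
  constructor
  · intro h; exact h x rfl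
  · rintro h _ rfl; exact h

section Basic

variable {G : Type*} [Group G] [Finite G]

/-- a nontrivial 2-element has a power which is an involution -/
theorem exists_pow_inv {t : G} (ht : t ≠ 1) {k : ℕ} (hk : t ^ 2 ^ k = 1) : ∃ j : ℕ, orderOf (t ^ j) = 2 := by
  obtain ⟨j, -, hj⟩ := (Nat.dvd_prime_pow Nat.prime_two).1 (orderOf_dvd_of_pow_eq_one hk)
  have hj0 : j ≠ 0 := by
    rintro rfl
    rw [pow_zero, orderOf_eq_one_iff] at hj
    exact ht hj
  obtain ⟨i, rfl⟩ := Nat.exists_eq_succ_of_ne_zero hj0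
  refine ⟨2 ^ i, ?_⟩
  rw [orderOf_pow_of_dvd (by positivity) (by rw [hj]; exact pow_dvd_pow 2 (Nat.le_succ i)), hj,
    Nat.succ_eq_add_one, pow_succ, Nat.mul_div_cancel_left _ (by positivity)]

theorem CIT.two_pow (hG : CIT G) {t x : G} (ht : t ≠ 1) {k : ℕ} (hk : t ^ 2 ^ k = 1) (hc : t * x = x * t) :
    ∃ j : ℕ, x ^ 2 ^ j = 1 := by
  obtain ⟨j, hj⟩ := exists_pow_inv ht hk
  have h1 : x ∈ centralizer ({t ^ j} : Set G) := mem_centr.2 ((Commute.pow_left hc j))
  obtain ⟨i, hi⟩ := hG _ hj ⟨x, h1⟩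
  exact ⟨i, congrArg Subtype.val hi⟩

/-- no nontrivial element of odd prime order commutes with a nontrivial 2-element -/
theorem CIT.not_comm (hG : CIT G) {t x : G} (ht : t ≠ 1) {k : ℕ} (hk : t ^ 2 ^ k = 1) {p : ℕ} (hp : p.Prime)
    (hp2 : p ≠ 2) (hx : orderOf x = p) : t * x ≠ x * t := by
  intro hc
  obtain ⟨j, hj⟩ := hG.two_pow ht hk hc
  have h1 := orderOf_dvd_of_pow_eq_one hj
  rw [hx] at h1
  exact hp2 ((Nat.prime_dvd_prime_iff_eq hp Nat.prime_two).1 (hp.dvd_of_dvd_pow h1))

theorem CIT.odd_comm (hG : CIT G) {t x : G} (ht : t ≠ 1) {k : ℕ} (hk : t ^ 2 ^ k = 1) (hx : ¬ 2 ∣ orderOf x)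
    (hc : t * x = x * t) : x = 1 := by
  obtain ⟨j, hj⟩ := hG.two_pow ht hk hc
  have h1 := orderOf_dvd_of_pow_eq_one hj
  obtain ⟨i, -, hi⟩ := (Nat.dvd_prime_pow Nat.prime_two).1 h1
  rcases Nat.eq_zero_or_pos i with rfl | hi0
  · rw [pow_zero, orderOf_eq_one_iff] at hi
    exact hi
  · exfalso
    apply hx
    rw [hi]
    exact dvd_pow_self 2 hi0.ne'

theorem CIT.subgroup (hG : CIT G) (H : Subgroup G) : CIT H := by
  intro t ht x
  have h1 : orderOf (t : G) = 2 := by rw [Subgroup.orderOf_coe, ht]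
  have h2 : ((x : H) : G) ∈ centralizer ({(t : G)} : Set G) := by
    have := mem_centr.1 x.2
    exact mem_centr.2 (congrArg Subtype.val this)
  obtain ⟨i, hi⟩ := hG _ h1 ⟨_, h2⟩
  have h3 : ((x : H) : G) ^ 2 ^ i = 1 := congrArg Subtype.val hi
  refine ⟨i, ?_⟩
  apply Subtype.ext
  apply Subtype.ext
  simpa using h3

theorem CIT.quot (hG : CIT G) (Q : Subgroup G) [hQn : Q.Normal] (hQ : IsPGroup 2 Q) : CIT (G ⧸ Q) := by
  intro t ht
  obtain ⟨s, rfl⟩ := QuotientGroup.mk_surjective t
  by_contra hno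
  -- an element of odd prime order in the centralizer
  obtain ⟨p, hp, hp2, x, hx, hxc⟩ : ∃ p : ℕ, p.Prime ∧ p ≠ 2 ∧ ∃ x : G ⧸ Q, orderOf x = p ∧
      x ∈ centralizer ({(QuotientGroup.mk s : G ⧸ Q)} : Set (G ⧸ Q)) := by
    by_contra hno2
    push Not at hno2
    apply hno
    set C := centralizer ({(QuotientGroup.mk s : G ⧸ Q)} : Set (G ⧸ Q)) with hC
    rw [IsPGroup.iff_card]
    refine ⟨(Nat.card C).factorization 2, ?_⟩
    have h0 : Nat.card C ≠ 0 := Nat.card_pos.ne'
    have h1 : ∀ p : ℕ, p.Prime → p ∣ Nat.card C → p = 2 := by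
      intro p hp hpC
      by_contra hp2
      haveI := Fact.mk hp
      obtain ⟨y, hy⟩ := exists_prime_orderOf_dvd_card' p hpC
      exact hno2 p hp hp2 y (by rw [Subgroup.orderOf_coe, hy]) y.2
    apply Nat.eq_of_factorization_eq h0 (by positivity)
    intro p
    by_cases hp : p.Prime
    · by_cases hpM : p ∣ Nat.card C
      · rw [h1 p hp hpM, Nat.Prime.factorization_pow Nat.prime_two]; simp
      · rw [Nat.factorization_eq_zero_of_not_dvd hpM, Nat.Prime.factorization_pow Nat.prime_two]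
        have : p ≠ 2 ∨ (Nat.card C).factorization 2 = 0 := by
          by_cases hp2 : p = 2
          · right; rw [← hp2]; exact Nat.factorization_eq_zero_of_not_dvd hpM
          · left; exact hp2
        rcases this with h5 | h5
        · rw [Finsupp.single_eq_of_ne h5]
        · rw [h5]; simp
    · rw [Nat.factorization_eq_zero_of_not_prime _ hp, Nat.factorization_eq_zero_of_not_prime _ hp]
  obtain ⟨g, rfl⟩ := QuotientGroup.mk_surjective x
  haveI := Fact.mk hp
  -- replace `g` by an element of order `p`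
  have hgp : g ^ p ∈ Q := by
    rw [← QuotientGroup.eq_one_iff, QuotientGroup.mk_pow, ← hx, pow_orderOf_eq_one]
  obtain ⟨k, hk⟩ := hQ ⟨_, hgp⟩
  have hk' : (g ^ p) ^ 2 ^ k = 1 := congrArg Subtype.val hk
  have hg1 : (g ^ 2 ^ k) ^ p = 1 := by rw [← pow_mul, mul_comm, pow_mul, hk']
  have hcop : Nat.Coprime p (2 ^ k) := Nat.Coprime.pow_right k ((Nat.coprime_primes hp Nat.prime_two).2 hp2)
  have hg2 : (QuotientGroup.mk (g ^ 2 ^ k) : G ⧸ Q) ≠ 1 := by
    intro e
    rw [QuotientGroup.mk_pow] at e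
    have h1 := orderOf_dvd_of_pow_eq_one e
    rw [hx] at h1
    have := Nat.eq_one_of_dvd_coprimes hcop dvd_rfl h1
    exact hp.one_lt.ne' this
  have hg3 : orderOf (g ^ 2 ^ k) = p := by
    apply orderOf_eq_prime hg1
    intro e
    apply hg2
    rw [e]; rfl
  have hg4 : (QuotientGroup.mk s : G ⧸ Q) * QuotientGroup.mk (g ^ 2 ^ k) =
      QuotientGroup.mk (g ^ 2 ^ k) * QuotientGroup.mk s := by
    rw [QuotientGroup.mk_pow]
    exact Commute.pow_right (mem_centr.1 hxc) _
  have hA : IsPGroup p (zpowers (g ^ 2 ^ k)) := by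
    apply IsPGroup.of_card (n := 1)
    rw [Nat.card_zpowers, hg3, pow_one]
  obtain ⟨y, hy1, hy2⟩ := SigF.exists_fixed_coset (A := zpowers (g ^ 2 ^ k)) (D := Q) hA
    (by
      intro h1
      obtain ⟨n, hn⟩ := hQ.exists_card_eq
      rw [hn] at h1
      exact hp2 ((Nat.prime_dvd_prime_iff_eq hp Nat.prime_two).1 (hp.dvd_of_dvd_pow h1)))
    (by rw [normalizer_eq_top]; exact le_top) (x := s)
    (by
      rintro a ⟨i, rfl⟩
      simp only
      rw [← QuotientGroup.eq_one_iff]
      have h1 : (QuotientGroup.mk s : G ⧸ Q) * (QuotientGroup.mk (g ^ 2 ^ k)) ^ i =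
        (QuotientGroup.mk (g ^ 2 ^ k)) ^ i * QuotientGroup.mk s := Commute.zpow_right hg4 i
      have h2 : (QuotientGroup.mk (s⁻¹ * ((g ^ 2 ^ k) ^ i * s * ((g ^ 2 ^ k) ^ i)⁻¹)) : G ⧸ Q) =
        (QuotientGroup.mk s)⁻¹ * (((QuotientGroup.mk (g ^ 2 ^ k)) ^ i * QuotientGroup.mk s) *
          ((QuotientGroup.mk (g ^ 2 ^ k)) ^ i)⁻¹) := rfl
      rw [h2, ← h1]; group)
  have hys : (QuotientGroup.mk y : G ⧸ Q) = QuotientGroup.mk s := (QuotientGroup.eq.2 hy1).symm
  have hy3 : y ≠ 1 := by
    rintro rfl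
    have h1 : (QuotientGroup.mk s : G ⧸ Q) = 1 := hys.symm
    rw [h1, orderOf_one] at ht
    omega
  have hy4 : y ^ 2 ∈ Q := by
    rw [← QuotientGroup.eq_one_iff, QuotientGroup.mk_pow, hys, ← ht, pow_orderOf_eq_one]
  obtain ⟨j, hj⟩ := hQ ⟨_, hy4⟩
  have hj' : (y ^ 2) ^ 2 ^ j = 1 := congrArg Subtype.val hj
  rw [← pow_mul, ← pow_succ'] at hj'
  exact hG.not_comm hy3 hj' hp hp2 hg3 (hy2 _ (mem_zpowers _)).symm

end Basic

section Main

variable {G : Type u} [Group G] [Finite G]

/-- an involution acting freely on a subgroup inverts it -/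
theorem inverts {t : G} (ht : t * t = 1) {N : Subgroup G} (hN : ∀ n ∈ N, t * n * t⁻¹ ∈ N)
    (hf : ∀ n ∈ N, t * n = n * t → n = 1) {y : G} (hy : y ∈ N) : t * y * t⁻¹ = y⁻¹ := by
  let f : N → N := fun n => ⟨(n : G)⁻¹ * (t * n * t⁻¹), N.mul_mem (N.inv_mem n.2) (hN n n.2)⟩
  have hf1 : Function.Injective f := by
    intro n m e
    have e1 : (n : G)⁻¹ * (t * n * t⁻¹) = (m : G)⁻¹ * (t * m * t⁻¹) := congrArg Subtype.val e
    have h1 : (n : G) * (m : G)⁻¹ = 1 := by
      apply hf _ (N.mul_mem n.2 (N.inv_mem m.2))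
      calc t * ((n : G) * (m : G)⁻¹) = n * ((n : G)⁻¹ * (t * n * t⁻¹)) * t * (m : G)⁻¹ := by group
        _ = n * ((m : G)⁻¹ * (t * m * t⁻¹)) * t * (m : G)⁻¹ := by rw [e1]
        _ = (n : G) * (m : G)⁻¹ * t := by group
    exact Subtype.ext (mul_inv_eq_one.1 h1)
  obtain ⟨n, hn⟩ := (Finite.injective_iff_surjective.1 hf1) ⟨y, hy⟩
  have e1 : (n : G)⁻¹ * (t * n * t⁻¹) = y := congrArg Subtype.val hn
  have ht' : t⁻¹ = t := inv_eq_of_mul_eq_one_left ht
  rw [← e1, ht']
  calc t * ((n : G)⁻¹ * (t * n * t)) * t = t * (n : G)⁻¹ * t * n * (t * t) := by group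
    _ = t * (n : G)⁻¹ * t * n := by rw [ht, mul_one]
    _ = ((n : G)⁻¹ * (t * n * t))⁻¹ := by
      rw [mul_inv_rev, mul_inv_rev, mul_inv_rev, ht']; group

theorem even_card (hFT : OS.{u}) (hns : ¬ Group.IsSolvable G) : 2 ∣ Nat.card G := by
  by_contra h
  exact hns (hFT G (by rw [← Nat.not_even_iff_odd, even_iff_two_dvd]; exact h))

/-- a nonsolvable CIT group has no nontrivial normal subgroup of odd order -/
theorem CIT.core_bot (hG : CIT G) (hFT : OS.{u}) (hns : ¬ Group.IsSolvable G) {N : Subgroup G} (hN : N.Normal)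
    (hodd : ¬ 2 ∣ Nat.card N) : N = ⊥ := by
  haveI := Fact.mk Nat.prime_two
  obtain ⟨t, ht⟩ := exists_prime_orderOf_dvd_card' (G := G) 2 (even_card hFT hns)
  obtain ⟨P⟩ : Nonempty (Sylow 2 G) := inferInstance
  -- a conjugate of `t` lies in `P`
  have hfree : ∀ t : G, orderOf t = 2 → ∀ n ∈ N, t * n = n * t → n = 1 := by
    intro t ht n hn hc
    have ht1 : t ≠ 1 := by rintro rfl; rw [orderOf_one] at ht; omega
    apply hG.odd_comm ht1 (k := 1) (by rw [pow_one, ← ht, pow_orderOf_eq_one]) _ hc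
    intro h2
    apply hodd
    exact h2.trans (by
      have := orderOf_dvd_natCard (⟨n, hn⟩ : N)
      rwa [Subgroup.orderOf_mk] at this)
  by_cases hcomm : ∃ s t : G, orderOf s = 2 ∧ orderOf t = 2 ∧ s ≠ t ∧ s * t = t * s
  · obtain ⟨s, t, hs, ht, hst, hc⟩ := hcomm
    rw [eq_bot_iff]
    intro y hy
    have hss : s * s = 1 := by rw [← pow_two, ← hs, pow_orderOf_eq_one]
    have htt : t * t = 1 := by rw [← pow_two, ← ht, pow_orderOf_eq_one]
    have h1 : orderOf (s * t) = 2 := by
      apply orderOf_eq_prime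
      · rw [pow_two]
        calc s * t * (s * t) = s * (t * s) * t := by group
          _ = s * (s * t) * t := by rw [hc]
          _ = (s * s) * (t * t) := by group
          _ = 1 := by rw [hss, htt, one_mul]
      · intro e
        apply hst
        calc s = s * (t * t) := by rw [htt, mul_one]
          _ = s * t * t := by group
          _ = t := by rw [e, one_mul]
    have e1 := inverts hss (fun n hn => hN.conj_mem n hn s) (hfree s hs) hy
    have e2 := inverts htt (fun n hn => hN.conj_mem n hn t) (hfree t ht) hy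
    have e3 := inverts (t := s * t) (by rw [← pow_two, ← h1, pow_orderOf_eq_one])
      (fun n hn => hN.conj_mem n hn (s * t)) (hfree _ h1) hy
    have e4 : s * t * y * (s * t)⁻¹ = y := by
      calc s * t * y * (s * t)⁻¹ = s * (t * y * t⁻¹) * s⁻¹ := by group
        _ = s * y⁻¹ * s⁻¹ := by rw [e2]
        _ = (s * y * s⁻¹)⁻¹ := by group
        _ = y := by rw [e1, inv_inv]
    rw [mem_bot]
    apply hfree _ h1 y hy
    rw [← mul_inv_eq_iff_eq_mul]
    exact e4
  · push Not at hcomm
    exfalso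
    -- unique involution in `P`
    have hzp : IsPGroup 2 (zpowers t) := by
      apply IsPGroup.of_card (n := 1)
      rw [Nat.card_zpowers, ht, pow_one]
    obtain ⟨P, hP⟩ := hzp.exists_le_sylow
    haveI : Nontrivial (P : Subgroup G) := by
      refine ⟨⟨t, hP (mem_zpowers t)⟩, 1, ?_⟩
      intro e
      have : t = 1 := congrArg Subtype.val e
      rw [this, orderOf_one] at ht
      omega
    obtain ⟨n, hn, hn1⟩ := (P.isPGroup'.to_subgroup (center (P : Subgroup G))).nontrivial_iff_card.1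
      P.isPGroup'.center_nontrivial
    obtain ⟨z, hz⟩ := exists_prime_orderOf_dvd_card' (G := center (P : Subgroup G)) 2
      (by rw [hn1]; exact dvd_pow_self 2 (by omega))
    have hzo : orderOf ((z : (P : Subgroup G)) : G) = 2 := by
      rw [Subgroup.orderOf_coe, Subgroup.orderOf_coe, hz]
    have huniq : ∀ v ∈ P, orderOf v = 2 → v = ((z : (P : Subgroup G)) : G) := by
      intro v hv hvo
      by_contra hne
      apply hcomm v _ hvo hzo hne
      exact congrArg Subtype.val (mem_center_iff.1 z.2 ⟨v, hv⟩)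
    set w : G := ((z : (P : Subgroup G)) : G) with hw
    have hZ := H4.zstar_uniq P hzo huniq
    have hw1 : w ≠ 1 := by intro e; rw [e, orderOf_one] at hzo; omega
    set K := pPrimeCore 2 G with hK
    have hKodd : ¬ 2 ∣ Nat.card K := by
      have := H4.odd_card_pPrimeCore_two (G := G)
      rw [← even_iff_two_dvd, Nat.not_even_iff_odd]
      exact this
    -- odd elements lie in `K`
    have hmem : ∀ x : G, ¬ 2 ∣ orderOf x → x ∈ K := by
      intro x hx
      have hA : IsPGroup 2 (zpowers w) := by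
        apply IsPGroup.of_card (n := 1)
        rw [Nat.card_zpowers, hzo, pow_one]
      obtain ⟨y, hy1, hy2⟩ := SigF.exists_fixed_coset (A := zpowers w) (D := K) hA hKodd
        (by rw [normalizer_eq_top]; exact le_top) (x := x) (by
          rintro a ⟨i, rfl⟩
          simp only
          rw [← QuotientGroup.eq_one_iff]
          have h0 : (QuotientGroup.mk w : G ⧸ K) * QuotientGroup.mk x = QuotientGroup.mk x * QuotientGroup.mk w := by
            have := (QuotientGroup.eq_one_iff (N := K) _).2 (hZ x)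
            have h1 : (QuotientGroup.mk w : G ⧸ K) * QuotientGroup.mk x * (QuotientGroup.mk w)⁻¹ * (QuotientGroup.mk x)⁻¹ = 1 := this
            rw [mul_inv_eq_one, mul_inv_eq_iff_eq_mul] at h1
            exact h1
          have h1 : (QuotientGroup.mk w : G ⧸ K) ^ i * (QuotientGroup.mk x) =
            QuotientGroup.mk x * (QuotientGroup.mk w) ^ i := Commute.zpow_left h0 i
          have h2 : (QuotientGroup.mk (x⁻¹ * (w ^ i * x * (w ^ i)⁻¹)) : G ⧸ K) =
            (QuotientGroup.mk x)⁻¹ * (((QuotientGroup.mk w) ^ i * QuotientGroup.mk x) *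
              ((QuotientGroup.mk w) ^ i)⁻¹) := rfl
          rw [h2, h1]; group)
      -- `y` is a 2-element, and its image in `G / K` has odd order
      obtain ⟨j, hj⟩ := hG.two_pow hw1 (k := 1) (by rw [pow_one, ← hzo, pow_orderOf_eq_one]) (hy2 w (mem_zpowers w))
      have hyx : (QuotientGroup.mk y : G ⧸ K) = QuotientGroup.mk x := (QuotientGroup.eq.2 hy1).symm
      rw [← QuotientGroup.eq_one_iff]
      have h1 : orderOf (QuotientGroup.mk x : G ⧸ K) ∣ orderOf x := by
        apply orderOf_dvd_of_pow_eq_one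
        rw [← QuotientGroup.mk_pow, pow_orderOf_eq_one]; rfl
      have h2 : orderOf (QuotientGroup.mk x : G ⧸ K) ∣ 2 ^ j := by
        apply orderOf_dvd_of_pow_eq_one
        rw [← hyx, ← QuotientGroup.mk_pow, hj]; rfl
      have h3 : Nat.Coprime (orderOf x) (2 ^ j) :=
        Nat.Coprime.pow_right j ((Nat.Prime.coprime_iff_not_dvd Nat.prime_two).2 hx).symm
      have := Nat.eq_one_of_dvd_coprimes h3 h1 h2
      rwa [orderOf_eq_one_iff] at this
    -- so `G / K` is a 2-group
    apply hns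
    have hq : IsPGroup 2 (G ⧸ K) := by
      intro x
      obtain ⟨g, rfl⟩ := QuotientGroup.mk_surjective x
      obtain ⟨k, m, hm, hkm⟩ := Nat.exists_eq_two_pow_mul_odd (n := orderOf g) (orderOf_pos g).ne'
      refine ⟨k, ?_⟩
      rw [← QuotientGroup.mk_pow, QuotientGroup.eq_one_iff]
      apply hmem
      have h1 : orderOf (g ^ 2 ^ k) = m := by
        rw [orderOf_pow_of_dvd (by positivity) ⟨m, hkm⟩, hkm, Nat.mul_div_cancel_left _ (by positivity)]
      rw [h1, ← even_iff_two_dvd, Nat.not_even_iff_odd]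
      exact hm
    have h1 : Group.IsSolvable K := hFT K H4.odd_card_pPrimeCore_two
    have h2 : Group.IsSolvable (G ⧸ K) := by
      haveI := hq.isNilpotent
      infer_instance
    exact Group.isSolvable_of_ker_le_range K.subtype (QuotientGroup.mk' K) (by
      rw [QuotientGroup.ker_mk', Subgroup.range_subtype])

end Main

end Cfsg.Agent.JY
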