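import Mathlib
import Cfsg.Agent.JY.Struct

/-! Nonsolvable CIT groups: the simple normal subgroup. -/

set_option autoImplicit false
set_option linter.unusedSectionVars false
set_option linter.style.haveILetI false

namespace Cfsg.Agent.JY

open Subgroup Cfsg

universe u

variable {G : Type u} [Group G] [Finite G]

theorem CIT.solv_bot (hG : CIT G) (hFT : OS.{u}) (hns : ¬ Group.IsSolvable G) (h2 : pCore 2 G = ⊥)
    {N : Subgroup G} (hN : N.Normal) (hs : Group.IsSolvable N) : N = ⊥ := by
  by_contra hne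
  haveI : Nontrivial N := (nontrivial_iff_ne_bot N).2 hne
  obtain ⟨r, V, hr, hV, hVc, hVr, hV1, -⟩ := Frob.exists_characteristic_abelian (G := N) hs
  have h1 : (V.map N.subtype).Normal := inferInstance
  have hb : V.map N.subtype = ⊥ := by
    by_cases hr2 : r = 2
    · subst hr2
      rw [eq_bot_iff, ← h2]
      exact Solv.le_pCore h1 (hVr.map _)
    · apply hG.core_bot hFT hns h1
      intro h3
      haveI := Fact.mk hr
      obtain ⟨k, hk⟩ := (hVr.map N.subtype).exists_card_eq
      rw [hk] at h3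
      exact hr2 ((Nat.prime_dvd_prime_iff_eq Nat.prime_two hr).1 (Nat.prime_two.dvd_of_dvd_pow h3)).symm
  rw [map_eq_bot_iff_of_injective _ N.subtype_injective] at hb
  exact hV1 hb

theorem exists_min (K : Subgroup G) (hK : K.Normal) (h1 : K ≠ ⊥) :
    ∃ N : Subgroup G, N ≤ K ∧ N.Normal ∧ N ≠ ⊥ ∧ ∀ M : Subgroup G, M ≤ N → M.Normal → M ≠ ⊥ → M = N := by
  classical
  obtain ⟨N, ⟨hNK, hN, hN1⟩, hmin⟩ := Set.exists_min_image {N : Subgroup G | N ≤ K ∧ N.Normal ∧ N ≠ ⊥}
    (fun N => Nat.card N) (Set.toFinite _) ⟨K, le_rfl, hK, h1⟩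
  refine ⟨N, hNK, hN, hN1, ?_⟩
  intro M hMN hM hM1
  have := hmin M ⟨hMN.trans hNK, hM, hM1⟩
  exact Subgroup.eq_of_le_of_card_ge hMN this

theorem CIT.exists_simple (hG : CIT G) (hFT : OS.{u}) (hns : ¬ Group.IsSolvable G) (h2 : pCore 2 G = ⊥) :
    ∃ L : Subgroup G, L.Normal ∧ IsSimpleGroup L ∧ (∃ a b : L, a * b ≠ b * a) ∧
      centralizer (L : Set G) = ⊥ := by
  classical
  have hsb : ∀ N : Subgroup G, N.Normal → Group.IsSolvable N → N = ⊥ := fun N hN hs =>
    hG.solv_bot hFT hns h2 hN hs
  have htop : (⊤ : Subgroup G) ≠ ⊥ := by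
    intro e
    apply hns
    haveI : Subsingleton G := Subgroup.subsingleton_iff.1 (subsingleton_of_bot_eq_top e.symm)
    infer_instance
  obtain ⟨N, -, hN, hN1, hmin⟩ := exists_min (⊤ : Subgroup G) inferInstance htop
  haveI := hN
  haveI : Nontrivial N := (nontrivial_iff_ne_bot N).2 hN1
  -- nonsolvable subgroups contain involutions
  have hev : ∀ K : Subgroup G, ¬ Group.IsSolvable K → ∃ t ∈ K, orderOf t = 2 := by
    intro K hK
    haveI := Fact.mk Nat.prime_two
    obtain ⟨t, ht⟩ := exists_prime_orderOf_dvd_card' (G := K) 2 (even_card hFT hK)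
    exact ⟨t, t.2, by rw [Subgroup.orderOf_coe, ht]⟩
  -- commuting nonsolvable subgroups do not exist
  have hcn : ∀ K K' : Subgroup G, ¬ Group.IsSolvable K → ¬ Group.IsSolvable K' →
      (∀ x ∈ K, ∀ y ∈ K', x * y = y * x) → False := by
    intro K K' hK hK' hc
    obtain ⟨t, htK, ht⟩ := hev K hK
    apply hK'
    have h1 : K' ≤ centralizer ({t} : Set G) := fun y hy => mem_centr.2 (hc t htK y hy)
    have h3 : IsPGroup 2 K' := (hG t ht).to_le h1
    haveI := h3.isNilpotent
    infer_instance
  -- minimal normal subgroups of `N` are everything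
  have hsimple : ∀ K : Subgroup N, K.Normal → K ≠ ⊥ → K = ⊤ := by
    intro K hK hK1
    obtain ⟨K0, hK0K, hK0, hK01, hmin0⟩ := exists_min K hK hK1
    rw [eq_top_iff]
    refine le_trans ?_ hK0K
    -- `K0` is not solvable
    have hns0 : ¬ Group.IsSolvable K0 := by
      intro hs
      haveI : Nontrivial K0 := (nontrivial_iff_ne_bot K0).2 hK01
      obtain ⟨r, V, hr, hV, hVc, hVr, hV1, -⟩ := Frob.exists_characteristic_abelian (G := K0) hs
      haveI := hK0
      have h1 : (V.map K0.subtype).Normal := inferInstance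
      have h3 : V.map K0.subtype ≤ pCore r N := Solv.le_pCore h1 (hVr.map _)
      have h4 : ((pCore r N).map N.subtype).Normal := inferInstance
      have h5 := hsb _ h4 (by
        haveI := Fact.mk hr
        haveI := ((Solv.pCore_isPGroup (G := N) r).map N.subtype).isNilpotent
        infer_instance)
      rw [map_eq_bot_iff_of_injective _ N.subtype_injective] at h5
      rw [h5, le_bot_iff, map_eq_bot_iff_of_injective _ K0.subtype_injective] at h3
      exact hV1 h3
    -- conjugates of `K0`
    have hnorm : ∀ g : G, ∀ x ∈ K0, (⟨g * (x : G) * g⁻¹, hN.conj_mem _ x.2 g⟩ : N) ∈ K0 := by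
      intro g
      let f : N ≃* N := MulAut.conjNormal g
      have hf : ∀ x : N, ((f x : N) : G) = g * x * g⁻¹ := fun x => MulAut.conjNormal_apply g x
      let K1 : Subgroup N := K0.map f.toMonoidHom
      have hK1n : K1.Normal := hK0.map _ f.surjective
      have hK1c : Nat.card K1 = Nat.card K0 := Subgroup.card_map_of_injective f.injective
      have hK1s : ¬ Group.IsSolvable K1 := by
        intro hs
        apply hns0
        let e : K0 ≃* K1 := K0.equivMapOfInjective f.toMonoidHom f.injective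
        haveI := hs
        exact Group.isSolvable_of_isSolvable_injective (f := e.toMonoidHom) e.injective
      have hK1e : K1 = K0 := by
        by_contra hne
        have hinf : K0 ⊓ K1 = ⊥ := by
          by_contra hi
          haveI := hK0
          haveI := hK1n
          have h1 := hmin0 (K0 ⊓ K1) inf_le_left inferInstance hi
          have h3 : K0 ≤ K1 := by rw [← h1]; exact inf_le_right
          exact hne (Subgroup.eq_of_le_of_card_ge h3 (by rw [hK1c])).symm
        apply hcn (K0.map N.subtype) (K1.map N.subtype)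
        · intro hs
          apply hns0
          let e : K0 ≃* K0.map N.subtype := K0.equivMapOfInjective N.subtype N.subtype_injective
          haveI := hs
          exact Group.isSolvable_of_isSolvable_injective (f := e.toMonoidHom) e.injective
        · intro hs
          apply hK1s
          let e : K1 ≃* K1.map N.subtype := K1.equivMapOfInjective N.subtype N.subtype_injective
          haveI := hs
          exact Group.isSolvable_of_isSolvable_injective (f := e.toMonoidHom) e.injective
        · rintro _ ⟨x, hx, rfl⟩ _ ⟨y, hy, rfl⟩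
          have h1 : x * y * x⁻¹ * y⁻¹ ∈ K0 ⊓ K1 := by
            refine ⟨?_, ?_⟩
            · have : x * y * x⁻¹ * y⁻¹ = x * (y * x⁻¹ * y⁻¹) := by group
              rw [this]
              exact K0.mul_mem hx (hK0.conj_mem _ (K0.inv_mem hx) y)
            · exact K1.mul_mem (hK1n.conj_mem _ hy x) (K1.inv_mem hy)
          rw [hinf, mem_bot, mul_inv_eq_one, mul_inv_eq_iff_eq_mul] at h1
          exact congrArg Subtype.val h1
      intro x hx
      have h1 : f x ∈ K1 := mem_map_of_mem _ hx
      rw [hK1e] at h1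
      have h3 : f x = (⟨g * (x : G) * g⁻¹, hN.conj_mem _ x.2 g⟩ : N) := Subtype.ext (hf x)
      rwa [h3] at h1
    have hKn : (K0.map N.subtype).Normal := by
      constructor
      rintro _ ⟨x, hx, rfl⟩ g
      exact ⟨_, hnorm g x hx, rfl⟩
    have h3 := hmin (K0.map N.subtype) (map_subtype_le _) hKn (by
      rw [Ne, map_eq_bot_iff_of_injective _ N.subtype_injective]; exact hK01)
    intro x _
    have h4 : (x : G) ∈ K0.map N.subtype := by rw [h3]; exact x.2
    obtain ⟨y, hy, hyx⟩ := h4
    have : y = x := Subtype.ext hyx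
    rwa [← this]
  have hNs : ¬ Group.IsSolvable N := fun hs => hN1 (hsb N hN hs)
  have hsimp : IsSimpleGroup N := by
    constructor
    intro K hK
    by_cases h : K = ⊥
    · exact Or.inl h
    · exact Or.inr (hsimple K hK h)
  refine ⟨N, hN, hsimp, ?_, ?_⟩
  · by_contra hc
    push Not at hc
    apply hNs
    exact Group.isSolvable_of_comm hc
  · by_contra hC
    have hCn : (centralizer (N : Set G)).Normal := inferInstance
    have hCs : ¬ Group.IsSolvable (centralizer (N : Set G)) := fun hs => hC (hsb _ hCn hs)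
    exact hcn _ _ hCs hNs (fun x hx y hy => (mem_centralizer_iff.1 hx y hy).symm)

/-- if the involutions of `L` are conjugate in `L` then the index of `L` is a power of 2. -/
theorem CIT.quot_two (hG : CIT G) (L : Subgroup G) [hL : L.Normal] {t : G} (ht : t ∈ L) (hto : orderOf t = 2)
    (hconj : ∀ s ∈ L, orderOf s = 2 → ∃ l ∈ L, l * s * l⁻¹ = t) : IsPGroup 2 (G ⧸ L) := by
  have h1 : ∀ g : G, ∃ l ∈ L, ∃ c ∈ centralizer ({t} : Set G), g = l * c := by
    intro g
    obtain ⟨l, hl, hlt⟩ := hconj (g * t * g⁻¹) (hL.conj_mem t ht g) (by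
      rw [← hto]
      exact orderOf_injective (MulAut.conj g).toMonoidHom (MulAut.conj g).injective t)
    refine ⟨l⁻¹, L.inv_mem hl, l * g, ?_, by group⟩
    rw [mem_centr]
    nth_rw 1 [← hlt]
    group
  intro x
  obtain ⟨g, rfl⟩ := QuotientGroup.mk_surjective x
  obtain ⟨l, hl, c, hc, rfl⟩ := h1 g
  obtain ⟨k, hk⟩ := hG t hto ⟨c, hc⟩
  have hk' : c ^ 2 ^ k = 1 := congrArg Subtype.val hk
  refine ⟨k, ?_⟩
  have h3 : (QuotientGroup.mk (l * c) : G ⧸ L) = QuotientGroup.mk c := by
    rw [QuotientGroup.mk_mul, (QuotientGroup.eq_one_iff l).2 hl, one_mul]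
  rw [h3, ← QuotientGroup.mk_pow, hk']; rfl

theorem not_solvable_quot {N : Subgroup G} [N.Normal] (hN : Group.IsSolvable N) (hns : ¬ Group.IsSolvable G) :
    ¬ Group.IsSolvable (G ⧸ N) := by
  intro h
  apply hns
  exact Group.isSolvable_of_ker_le_range N.subtype (QuotientGroup.mk' N) (by
    rw [QuotientGroup.ker_mk', Subgroup.range_subtype])

theorem pCore_quot_bot : pCore 2 (G ⧸ pCore 2 G) = ⊥ := Solv.pCore_quotient_pCore 2

theorem CIT.structure (hG : CIT G) (hFT : OS.{u}) (hns : ¬ Group.IsSolvable G) :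
    CIT (G ⧸ pCore 2 G) ∧ ∃ L : Subgroup (G ⧸ pCore 2 G), L.Normal ∧ IsSimpleGroup L ∧
      (∃ a b : L, a * b ≠ b * a) ∧ centralizer (L : Set (G ⧸ pCore 2 G)) = ⊥ ∧ CIT L := by
  haveI := Fact.mk Nat.prime_two
  have hp : IsPGroup 2 (pCore 2 G) := Solv.pCore_isPGroup 2
  have h1 : CIT (G ⧸ pCore 2 G) := hG.quot _ hp
  have h2 : Group.IsSolvable (pCore 2 G) := by
    haveI := hp.isNilpotent
    infer_instance
  obtain ⟨L, hL, hs, hab, hc⟩ := h1.exists_simple hFT (not_solvable_quot h2 hns) pCore_quot_bot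
  exact ⟨h1, L, hL, hs, hab, hc, h1.subgroup L⟩

end Cfsg.Agent.JY
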