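import Mathlib
import Cfsg.Prelude.Def_Sz
import Cfsg.Agent.Suzuki.Cent
import Cfsg.Agent.Suzuki.LieIso
import Cfsg.Agent.Suzuki.FieldAut
import Cfsg.Agent.JY.Struct

/-! Facts on the Suzuki groups used for recognition theorems. -/

set_option autoImplicit false
set_option linter.unusedSectionVars false
set_option linter.style.haveILetI false

namespace Cfsg.Agent.JY

open Subgroup Cfsg Cfsg.Agent.Suz

section A

variable {F : Type*} [Field F] [Fintype F] [CharP F 2] {m : ℕ}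
  (hm : 1 ≤ m) (hF : Fintype.card F = 2 ^ (2 * m + 1))

include hm in
/-- every 2-subgroup element is conjugate into `TT` -/
theorem exists_tS_of_two {s : Cfsg.Sz F m} {k : ℕ} (hs : s ^ 2 ^ k = 1) :
    ∃ (g : Cfsg.Sz F m) (a b : F), s = g * tS hF a b * g⁻¹ := by
  haveI := Fact.mk Nat.prime_two
  have h1 : IsPGroup 2 (zpowers s) := by
    obtain ⟨j, -, hj⟩ := (Nat.dvd_prime_pow Nat.prime_two).1 (orderOf_dvd_of_pow_eq_one hs)
    exact IsPGroup.of_card (n := j) (by rw [Nat.card_zpowers, hj])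
  obtain ⟨P, hP⟩ := h1.exists_le_sylow
  obtain ⟨g, hg⟩ := MulAction.exists_smul_eq (Cfsg.Sz F m) (sylTT hF hm) P
  have h2 : s ∈ (P : Subgroup (Cfsg.Sz F m)) := hP (mem_zpowers s)
  rw [← hg] at h2
  change s ∈ (sylTT hF hm : Subgroup (Cfsg.Sz F m)).map (MulAut.conj g).toMonoidHom at h2
  rw [coe_sylTT] at h2
  obtain ⟨x, hx, rfl⟩ := h2
  obtain ⟨a, b, rfl⟩ := (mem_TT hF).1 hx
  exact ⟨g, a, b, rfl⟩

include hF in
theorem exists_sq_theta {b : F} (hb : b ≠ 0) : ∃ μ : Fˣ, (μ : F) ^ 2 * th F m (μ : F) = b := by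
  let f : Fˣ →* Fˣ :=
    { toFun := fun μ => μ ^ 2 * Units.map (th F m).toMonoidHom μ
      map_one' := by simp
      map_mul' := by
        intro x y
        rw [map_mul, mul_pow]
        exact mul_mul_mul_comm _ _ _ _ }
  have hf : Function.Injective f := by
    rw [injective_iff_map_eq_one]
    intro μ hμ
    apply unit_eq_one_of_sq hF (μ := μ)
    exact congrArg Units.val hμ
  obtain ⟨μ, hμ⟩ := (Finite.injective_iff_surjective.1 hf) (Units.mk0 b hb)
  exact ⟨μ, congrArg Units.val hμ⟩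

include hm hF in
theorem exists_inv_form {s : Cfsg.Sz F m} (hs : orderOf s = 2) :
    ∃ g : Cfsg.Sz F m, s = g * tS hF 0 1 * g⁻¹ := by
  obtain ⟨g, a, b, rfl⟩ := exists_tS_of_two hm hF (s := s) (k := 1) (by rw [pow_one, ← hs, pow_orderOf_eq_one])
  have h1 : orderOf (tS hF a b) = 2 := by
    rw [← hs]
    exact (orderOf_injective (MulAut.conj g).toMonoidHom (MulAut.conj g).injective _).symm
  have h2 : tS hF a b * tS hF a b = 1 := by rw [← pow_two, ← h1, pow_orderOf_eq_one]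
  rw [tS_sq] at h2
  have h3 := ((tS_eq_one_iff hF).1 h2).2
  have ha : a = 0 := by
    rcases mul_eq_zero.1 h3 with h | h
    · exact th_injective (m := m) (by rw [h, map_zero])
    · exact h
  subst ha
  have hb : b ≠ 0 := by
    rintro rfl
    rw [tS_zero, orderOf_one] at h1
    omega
  obtain ⟨μ, hμ⟩ := exists_sq_theta (m := m) hF hb
  refine ⟨g * hS hF μ, ?_⟩
  have h4 := hS_mul_tS hF μ 0 1
  rw [mul_one, mul_zero, hμ] at h4
  calc g * tS hF 0 b * g⁻¹ = g * (tS hF 0 b * hS hF μ) * (hS hF μ)⁻¹ * g⁻¹ := by group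
    _ = g * (hS hF μ * tS hF 0 1) * (hS hF μ)⁻¹ * g⁻¹ := by rw [h4]
    _ = g * hS hF μ * tS hF 0 1 * (g * hS hF μ)⁻¹ := by group

include hm hF in
theorem sz_cit : CIT (Cfsg.Sz F m) := by
  intro s hs
  obtain ⟨g, rfl⟩ := exists_inv_form hm hF hs
  have h1 : tS hF (0 : F) 1 ≠ 1 := by
    intro h
    exact one_ne_zero ((tS_eq_one_iff hF).1 h).2
  rw [SC.conj_centralizer]
  exact (((isPGroup_TT hF).to_le (centralizer_le_TT hF hm (tS_mem_TT hF 0 1) h1)).map _)

end A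

section B

variable {F : Type*} [Field F] [Fintype F] {m : ℕ}
  (hm : 1 ≤ m) (hF : Fintype.card F = 2 ^ (2 * m + 1))

include hm hF in
theorem sz_one_class {s t : Cfsg.Sz F m} (hs : orderOf s = 2) (ht : orderOf t = 2) :
    ∃ g : Cfsg.Sz F m, g * s * g⁻¹ = t := by
  have := charP_two hF
  obtain ⟨g, hg⟩ := exists_inv_form hm hF hs
  obtain ⟨k, hk⟩ := exists_inv_form hm hF ht
  refine ⟨k * g⁻¹, ?_⟩
  rw [hk]
  nth_rw 1 [hg]
  group

include hm hF in
theorem sz_card : Nat.card (Cfsg.Sz F m) =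
    (2 ^ (2 * m + 1)) ^ 2 * ((2 ^ (2 * m + 1)) ^ 2 + 1) * (2 ^ (2 * m + 1) - 1) := by
  have := charP_two hF
  exact card_Sz hm hF

include hm hF in
/-- an element whose order is a prime dividing `q - 1` has centralizer of order `q - 1` -/
theorem card_centr_of_dvd {x : Cfsg.Sz F m} {r : ℕ} (hr : r.Prime) (hrd : r ∣ 2 ^ (2 * m + 1) - 1)
    (hx : orderOf x = r) : Nat.card (centralizer ({x} : Set (Cfsg.Sz F m))) = 2 ^ (2 * m + 1) - 1 := by
  have := charP_two hF
  haveI := Fact.mk hr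
  have h1 : IsPGroup r (zpowers x) := IsPGroup.of_card (n := 1) (by rw [Nat.card_zpowers, hx, pow_one])
  obtain ⟨P, hP⟩ := h1.exists_le_sylow
  obtain ⟨R⟩ : Nonempty (Sylow r (HH hF)) := inferInstance
  have hodd : ¬ 2 ∣ 2 ^ (2 * m + 1) - 1 := by
    rw [pow_succ]
    have := Nat.one_le_two_pow (n := 2 * m)
    omega
  have hr2 : r ≠ 2 := by rintro rfl; exact hodd hrd
  have hq1 : 1 < 2 ^ (2 * m + 1) := Nat.one_lt_two_pow (by omega)
  have hidx : ¬ r ∣ (HH hF).index := by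
    have h2 := card_mul_index (HH hF)
    rw [card_HH, card_Sz hm hF, mul_comm] at h2
    have h3 : (HH hF).index = (2 ^ (2 * m + 1)) ^ 2 * ((2 ^ (2 * m + 1)) ^ 2 + 1) :=
      Nat.eq_of_mul_eq_mul_right (by omega) h2
    rw [h3]
    intro h4
    rcases (Nat.Prime.dvd_mul hr).1 h4 with h5 | h5
    · exact hr2 ((Nat.prime_dvd_prime_iff_eq hr Nat.prime_two).1 (hr.dvd_of_dvd_pow (hr.dvd_of_dvd_pow h5)))
    · have h6 : r ∣ (2 ^ (2 * m + 1)) ^ 2 - 1 := by
        have : (2 ^ (2 * m + 1)) ^ 2 - 1 = (2 ^ (2 * m + 1) - 1) * (2 ^ (2 * m + 1) + 1) := by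
          have h := Nat.sq_sub_sq (2 ^ (2 * m + 1)) 1
          rw [one_pow] at h
          rw [h, mul_comm (2 ^ (2 * m + 1) + 1)]
        rw [this]
        exact dvd_mul_of_dvd_left hrd _
      have h7 : r ∣ 2 := by
        have h8 := Nat.dvd_sub h5 h6
        have h9 : 1 ≤ (2 ^ (2 * m + 1)) ^ 2 := Nat.one_le_pow _ _ (by omega)
        have h10 : (2 ^ (2 * m + 1)) ^ 2 + 1 - ((2 ^ (2 * m + 1)) ^ 2 - 1) = 2 := by omega
        rwa [h10] at h8
      exact hr2 ((Nat.prime_dvd_prime_iff_eq hr Nat.prime_two).1 h7)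
  -- a Sylow subgroup of `HH` is a Sylow subgroup
  have hcard : Nat.card P = Nat.card R := by
    rw [Sylow.card_eq_multiplicity P, Sylow.card_eq_multiplicity R]
    congr 1
    rw [← card_mul_index (HH hF), Nat.factorization_mul Nat.card_pos.ne' index_ne_zero_of_finite,
      Finsupp.add_apply, Nat.factorization_eq_zero_of_not_dvd hidx, add_zero]
  let R' : Subgroup (Cfsg.Sz F m) := (R : Subgroup (HH hF)).map (HH hF).subtype
  have hR' : IsPGroup r R' := R.2.map _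
  obtain ⟨Q, hQ⟩ := hR'.exists_le_sylow
  have hQR : (Q : Subgroup (Cfsg.Sz F m)) = R' := by
    symm
    apply Subgroup.eq_of_le_of_card_ge hQ
    rw [Subgroup.card_map_of_injective (HH hF).subtype_injective, ← hcard, Sylow.card_eq_multiplicity P,
      Sylow.card_eq_multiplicity Q]
  obtain ⟨g, hg⟩ := MulAction.exists_smul_eq (Cfsg.Sz F m) Q P
  have h2 : x ∈ (P : Subgroup (Cfsg.Sz F m)) := hP (mem_zpowers x)
  rw [← hg] at h2
  change x ∈ (Q : Subgroup (Cfsg.Sz F m)).map (MulAut.conj g).toMonoidHom at h2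
  rw [hQR] at h2
  obtain ⟨y, ⟨z, -, hz⟩, hy⟩ := h2
  have hyH : y ∈ HH hF := by rw [← hz]; exact z.2
  have hy1 : y ≠ 1 := by
    rintro rfl
    rw [map_one] at hy
    rw [← hy, orderOf_one] at hx
    exact hr.one_lt.ne hx
  have hxy : x = g * y * g⁻¹ := hy.symm
  rw [hxy, SC.conj_centralizer, Subgroup.card_map_of_injective (MulAut.conj g).injective,
    selfCent_HH hF hm y hyH hy1, card_HH]

include hm hF in
theorem exists_orderOf_HH : ∃ x : Cfsg.Sz F m, orderOf x = 2 ^ (2 * m + 1) - 1 := by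
  have := charP_two hF
  obtain ⟨x, hx⟩ := IsCyclic.exists_generator (α := HH hF)
  refine ⟨x, ?_⟩
  rw [Subgroup.orderOf_coe, ← card_HH hF]
  exact orderOf_eq_card_of_forall_mem_zpowers hx

end B

/-- the Suzuki group only depends on the order of the field -/
theorem sz_congr {K F : Type*} [Field K] [Fintype K] [Field F] [Fintype F] {m : ℕ} (hm : 1 ≤ m)
    (hK : Fintype.card K = 2 ^ (2 * m + 1)) (hF : Fintype.card F = 2 ^ (2 * m + 1)) :
    Nonempty (Cfsg.Sz K m ≃* Cfsg.Sz F m) := by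
  haveI := charP_two hK
  haveI := charP_two hF
  obtain ⟨σ⟩ := exists_embedding hK hF dvd_rfl
  have hσ := theta_comm hK dvd_rfl σ
  have h1 := fieldHom_injective hK hm hF σ hσ
  have h2 : Nat.card (Cfsg.Sz K m) = Nat.card (Cfsg.Sz F m) := by rw [sz_card hm hK, sz_card hm hF]
  exact ⟨MulEquiv.ofBijective _ ((Nat.bijective_iff_injective_and_card _).2 ⟨h1, h2⟩)⟩

theorem lie_congr {K F : Type*} [Field K] [Fintype K] [Field F] [Fintype F] {m : ℕ} (hm : 1 ≤ m)
    (hK : Fintype.card K = 2 ^ (2 * m + 1)) (hF : Fintype.card F = 2 ^ (2 * m + 1)) :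
    Nonempty (Cfsg.Lie.Sz K (2 ^ (m + 1)) ≃* Cfsg.Lie.Sz F (2 ^ (m + 1))) := by
  obtain ⟨e⟩ := sz_congr hm hK hF
  obtain ⟨a⟩ := nonempty_lieEquiv hm hK
  obtain ⟨b⟩ := nonempty_lieEquiv hm hF
  exact ⟨(a.symm.trans e).trans b⟩

end Cfsg.Agent.JY
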