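import Mathlib
import Cfsg.Prelude.Def_Sz
import Cfsg.Agent.JY.SzC
import Cfsg.Agent.JY.Simple
import Cfsg.Agent.S0809
import Cfsg.Agent.S0820
import Cfsg.Agent.S2302
import Cfsg.Agent.H68.SelfNormE

/-! The list of simple CIT groups; one class of involutions. -/

set_option autoImplicit false
set_option linter.unusedSectionVars false
set_option linter.style.haveILetI false

namespace Cfsg.Agent.JY

open Subgroup Cfsg Cfsg.Agent.Suz

/-- the list of nonabelian simple CIT groups -/
def CitList (G : Type*) [Group G] : Prop :=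
  (∃ (F : Type) (_ : Field F) (_ : Fintype F),
        (Fintype.card F = 9 ∨ (∃ n : ℕ, Fintype.card F = 2 ^ n) ∨
          ((Fintype.card F).Prime ∧ ∃ k : ℕ, Fintype.card F = 2 ^ k + 1 ∨ Fintype.card F + 1 = 2 ^ k)) ∧
        Nonempty (G ≃* Matrix.ProjectiveSpecialLinearGroup (Fin 2) F)) ∨
    (∃ (F : Type) (_ : Field F) (_ : Fintype F), Fintype.card F = 4 ∧
        Nonempty (G ≃* Matrix.ProjectiveSpecialLinearGroup (Fin 3) F)) ∨
    Cfsg.Lie.IsoSuzuki G

theorem one_class_transport {G H : Type*} [Group G] [Group H] (e : G ≃* H)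
    (h : ∀ s t : H, orderOf s = 2 → orderOf t = 2 → ∃ g : H, g * s * g⁻¹ = t) {s t : G}
    (hs : orderOf s = 2) (ht : orderOf t = 2) : ∃ g : G, g * s * g⁻¹ = t := by
  obtain ⟨g, hg⟩ := h (e s) (e t) (by rw [MulEquiv.orderOf_eq, hs]) (by rw [MulEquiv.orderOf_eq, ht])
  refine ⟨e.symm g, ?_⟩
  apply e.injective
  rw [map_mul, map_mul, map_inv, e.apply_symm_apply, hg]

theorem exists_conj_of_isConj {G : Type*} [Group G] {s t : G} (h : IsConj s t) : ∃ g : G, g * s * g⁻¹ = t :=
  isConj_iff.1 h

theorem exists_card_four {F : Type*} [Field F] [Fintype F] (hodd : Odd (Fintype.card F)) :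
    ∃ A : Subgroup (Matrix.SpecialLinearGroup (Fin 2) F), Nat.card A = 4 := by
  let x : Matrix.SpecialLinearGroup (Fin 2) F := ⟨!![0, 1; -1, 0], by simp⟩
  have h2 : (-1 : F) ≠ 1 := by
    intro h
    have h3 : (2 : F) = 0 := by linear_combination -h
    have h4 : ringChar F ∣ 2 := by
      rw [← ringChar.spec]
      exact_mod_cast h3
    have h5 := FiniteField.even_card_iff_char_two (F := F)
    have h6 : ringChar F = 2 := by
      rcases (Nat.dvd_prime Nat.prime_two).1 h4 with h | h
      · exact absurd h CharP.ringChar_ne_one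
      · exact h
    rw [← Nat.not_even_iff_odd] at hodd
    exact hodd (Nat.even_iff.2 (h5.1 h6))
  have hx : orderOf x = 4 := by
    have h1 : x ^ 2 = -1 := by
      rw [pow_two]
      apply Subtype.ext
      change !![0, 1; -1, 0] * !![0, 1; -1, 0] = -(1 : Matrix (Fin 2) (Fin 2) F)
      rw [← Matrix.ext_iff]
      intro i j
      fin_cases i <;> fin_cases j <;> simp
    have h4 : x ^ 2 ^ 1 ≠ 1 := by
      rw [pow_one, h1]
      intro h
      apply h2
      have := congrArg (fun y : Matrix.SpecialLinearGroup (Fin 2) F => y.1 0 0) h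
      simpa using this
    exact orderOf_eq_prime_pow (p := 2) (n := 1) h4 (by
      have : (2 : ℕ) ^ (1 + 1) = 2 * 2 := by norm_num
      rw [this, pow_mul, h1]
      simp)
  exact ⟨zpowers x, by rw [Nat.card_zpowers, hx]⟩

theorem psl2_one_class {F : Type*} [Field F] [Fintype F] (s t : Matrix.ProjectiveSpecialLinearGroup (Fin 2) F)
    (hs : orderOf s = 2) (ht : orderOf t = 2) : ∃ g, g * s * g⁻¹ = t := by
  by_cases h2 : CharP F 2
  · obtain ⟨e⟩ := H21.nonempty_mulEquiv_psl2 (F := F)
    exact one_class_transport e.symm (fun a b ha hb => exists_conj_of_isConj (S2302.result a b ha hb).1) hs ht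
  · have hodd : Odd (Fintype.card F) := by
      rw [← Nat.not_even_iff_odd]
      intro he
      apply h2
      have h5 := (FiniteField.even_card_iff_char_two (F := F)).2 (Nat.even_iff.1 he)
      rw [← h5]
      exact ringChar.charP F
    obtain ⟨A, hA⟩ := exists_card_four hodd
    exact exists_conj_of_isConj ((S0809.result rfl hodd A hA).2.2.2 s t hs ht)

theorem lie_one_class {F : Type*} [Field F] [Fintype F] {m : ℕ}
    (hm : 1 ≤ m) (hF : Fintype.card F = 2 ^ (2 * m + 1)) (s t : Cfsg.Lie.Sz F (2 ^ (m + 1)))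
    (hs : orderOf s = 2) (ht : orderOf t = 2) : ∃ g, g * s * g⁻¹ = t := by
  obtain ⟨e⟩ := nonempty_lieEquiv hm hF
  exact one_class_transport e.symm (fun a b ha hb => sz_one_class hm hF ha hb) hs ht

theorem CitList.one_class {G : Type*} [Group G] (h : CitList G) (s t : G)
    (hs : orderOf s = 2) (ht : orderOf t = 2) : ∃ g, g * s * g⁻¹ = t := by
  rcases h with ⟨F, i1, i2, -, ⟨e⟩⟩ | ⟨F, i1, i2, hc, ⟨e⟩⟩ | ⟨F, i1, i2, m, hm, hc, ⟨e⟩⟩
  · exact one_class_transport e psl2_one_class hs ht
  · exact one_class_transport e (fun a b ha hb => exists_conj_of_isConj (S0820.result hc a b ha hb)) hs ht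
  · exact one_class_transport e (lie_one_class hm hc) hs ht

end Cfsg.Agent.JY
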