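import Mathlib
import Cfsg.Agent.JY.List
import Cfsg.Agent.S1475
import Cfsg.Agent.S3633

/-! Prime graphs and element orders of nonsolvable CIT groups. -/

set_option autoImplicit false
set_option linter.unusedSectionVars false
set_option linter.style.haveILetI false

namespace Cfsg.Agent.JY

open Subgroup Cfsg

universe u

/-- the CIT theorem -/
def CT : Prop := ∀ (W : Type u) [Group W] [Finite W], IsSimpleGroup W → (∃ a b : W, a * b ≠ b * a) →
  CIT W → CitList W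

variable {G : Type u} [Group G] [Finite G]

/-- orders of elements of odd order are the same in a quotient by a normal 2-group -/
theorem orderOf_quot {Q : Subgroup G} [Q.Normal] (hQ : IsPGroup 2 Q) {y : G} (hy : ¬ 2 ∣ orderOf y) :
    orderOf (QuotientGroup.mk y : G ⧸ Q) = orderOf y := by
  apply Nat.dvd_antisymm
  · apply orderOf_dvd_of_pow_eq_one
    rw [← QuotientGroup.mk_pow, pow_orderOf_eq_one]; rfl
  · set n := orderOf (QuotientGroup.mk y : G ⧸ Q) with hn
    have h1 : y ^ n ∈ Q := by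
      rw [← QuotientGroup.eq_one_iff, QuotientGroup.mk_pow, hn, pow_orderOf_eq_one]
    obtain ⟨k, hk⟩ := hQ ⟨_, h1⟩
    have hk' : (y ^ n) ^ 2 ^ k = 1 := congrArg Subtype.val hk
    rw [← pow_mul] at hk'
    have h2 := orderOf_dvd_of_pow_eq_one hk'
    have h3 : Nat.Coprime (orderOf y) (2 ^ k) :=
      Nat.Coprime.pow_right k ((Nat.Prime.coprime_iff_not_dvd Nat.prime_two).2 hy).symm
    exact h3.dvd_of_dvd_mul_right h2

/-- elements of odd order lift -/
theorem exists_lift_odd {Q : Subgroup G} [Q.Normal] (hQ : IsPGroup 2 Q) {x : G ⧸ Q} (hx : ¬ 2 ∣ orderOf x) :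
    ∃ y : G, orderOf y = orderOf x := by
  obtain ⟨g, rfl⟩ := QuotientGroup.mk_surjective x
  set n := orderOf (QuotientGroup.mk g : G ⧸ Q) with hn
  have h1 : g ^ n ∈ Q := by
    rw [← QuotientGroup.eq_one_iff, QuotientGroup.mk_pow, hn, pow_orderOf_eq_one]
  obtain ⟨k, hk⟩ := hQ ⟨_, h1⟩
  have hk' : (g ^ n) ^ 2 ^ k = 1 := congrArg Subtype.val hk
  refine ⟨g ^ 2 ^ k, ?_⟩
  apply Nat.dvd_antisymm
  · apply orderOf_dvd_of_pow_eq_one
    rw [← pow_mul, mul_comm, pow_mul, hk']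
  · have h2 : orderOf ((QuotientGroup.mk g : G ⧸ Q) ^ 2 ^ k) = n := by
      rw [orderOf_pow, ← hn]
      have : Nat.gcd n (2 ^ k) = 1 :=
        Nat.Coprime.pow_right k ((Nat.Prime.coprime_iff_not_dvd Nat.prime_two).2 hx).symm
      rw [this, Nat.div_one]
    rw [← h2]
    apply orderOf_dvd_of_pow_eq_one
    rw [← QuotientGroup.mk_pow, ← QuotientGroup.mk_pow, pow_orderOf_eq_one]; rfl

theorem mem_of_odd {L : Subgroup G} [L.Normal] (hL : IsPGroup 2 (G ⧸ L)) {x : G} (hx : ¬ 2 ∣ orderOf x) :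
    x ∈ L := by
  obtain ⟨k, hk⟩ := hL (QuotientGroup.mk x)
  have h1 := orderOf_dvd_of_pow_eq_one hk
  have h2 : orderOf (QuotientGroup.mk x : G ⧸ L) ∣ orderOf x := by
    apply orderOf_dvd_of_pow_eq_one
    rw [← QuotientGroup.mk_pow, pow_orderOf_eq_one]; rfl
  have h3 : Nat.Coprime (orderOf x) (2 ^ k) :=
    Nat.Coprime.pow_right k ((Nat.Prime.coprime_iff_not_dvd Nat.prime_two).2 hx).symm
  have := Nat.eq_one_of_dvd_coprimes h3 h2 h1
  rwa [orderOf_eq_one_iff, QuotientGroup.eq_one_iff] at this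

/-- data of a nonsolvable CIT group -/
structure Dat (G : Type u) [Group G] (L : Subgroup (G ⧸ pCore 2 G)) : Prop where
  citX : CIT (G ⧸ pCore 2 G)
  normal : L.Normal
  simple : IsSimpleGroup L
  comm : ∃ a b : L, a * b ≠ b * a
  centr : centralizer (L : Set (G ⧸ pCore 2 G)) = ⊥
  citL : CIT L
  list : CitList L
  quot : ∀ [L.Normal], IsPGroup 2 ((G ⧸ pCore 2 G) ⧸ L)

theorem CIT.main (hCT : CT.{u}) (hFT : OS.{u}) (hG : CIT G) (hns : ¬ Group.IsSolvable G) :
    ∃ L : Subgroup (G ⧸ pCore 2 G), Dat G L := by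
  obtain ⟨hX, L, hL, hs, hab, hc, hcL⟩ := hG.structure hFT hns
  have hlist := hCT L hs hab hcL
  have hLs : ¬ Group.IsSolvable L := by
    intro h
    obtain ⟨a, b, hne⟩ := hab
    haveI := hs
    exact hne ((IsSimpleGroup.comm_iff_isSolvable.2 h) a b)
  haveI := Fact.mk Nat.prime_two
  obtain ⟨t, ht⟩ := exists_prime_orderOf_dvd_card' (G := L) 2 (even_card hFT hLs)
  refine ⟨L, hX, hL, hs, hab, hc, hcL, hlist, ?_⟩
  intro _
  refine hX.quot_two L t.2 (by rw [Subgroup.orderOf_coe, ht]) ?_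
  intro s hsL hs2
  obtain ⟨g, hg⟩ := hlist.one_class ⟨s, hsL⟩ t (by rw [Subgroup.orderOf_mk, hs2]) ht
  exact ⟨g, g.2, congrArg Subtype.val hg⟩

theorem pCore_two : IsPGroup 2 (pCore 2 G) := by
  haveI := Fact.mk Nat.prime_two
  exact Solv.pCore_isPGroup 2

/-- elements of odd order in `G` and in `L` have the same orders -/
theorem Dat.odd_iff {L : Subgroup (G ⧸ pCore 2 G)} (h : Dat G L) {n : ℕ} (hn : ¬ 2 ∣ n) :
    (∃ x : L, orderOf x = n) ↔ ∃ y : G, orderOf y = n := by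
  haveI := h.normal
  constructor
  · rintro ⟨x, rfl⟩
    obtain ⟨y, hy⟩ := exists_lift_odd (G := G) pCore_two (x := (x : G ⧸ pCore 2 G)) (by
      rw [Subgroup.orderOf_coe]; exact hn)
    exact ⟨y, by rw [hy, Subgroup.orderOf_coe]⟩
  · rintro ⟨y, rfl⟩
    have h1 := orderOf_quot (G := G) pCore_two hn
    exact ⟨⟨QuotientGroup.mk y, mem_of_odd h.quot (by rw [h1]; exact hn)⟩, by rw [Subgroup.orderOf_mk, h1]⟩

theorem prime_dvd_iff {r : ℕ} (hr : r.Prime) : r ∣ Nat.card G ↔ ∃ y : G, orderOf y = r := by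
  haveI := Fact.mk hr
  constructor
  · intro h
    exact exists_prime_orderOf_dvd_card' r h
  · rintro ⟨y, rfl⟩
    exact orderOf_dvd_natCard y

theorem Dat.even {L : Subgroup (G ⧸ pCore 2 G)} (h : Dat G L) (hFT : OS.{u}) : 2 ∣ Nat.card L := by
  apply even_card hFT
  intro hs
  obtain ⟨a, b, hne⟩ := h.comm
  haveI := h.simple
  exact hne ((IsSimpleGroup.comm_iff_isSolvable.2 hs) a b)

theorem Dat.card_dvd {L : Subgroup (G ⧸ pCore 2 G)} (_h : Dat G L) : Nat.card L ∣ Nat.card G :=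
  (Subgroup.card_subgroup_dvd_card L).trans (Subgroup.card_quotient_dvd_card (pCore 2 G))

theorem Dat.prime_iff {L : Subgroup (G ⧸ pCore 2 G)} (h : Dat G L) (hFT : OS.{u}) {r : ℕ} (hr : r.Prime) :
    r ∣ Nat.card L ↔ r ∣ Nat.card G := by
  by_cases hr2 : r = 2
  · subst hr2
    exact ⟨fun _ => (h.even hFT).trans h.card_dvd, fun _ => h.even hFT⟩
  · rw [prime_dvd_iff hr, prime_dvd_iff (G := G) hr]
    exact h.odd_iff (fun h2 => hr2 ((Nat.prime_dvd_prime_iff_eq Nat.prime_two hr).1 h2).symm)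

theorem Dat.primeFactors {L : Subgroup (G ⧸ pCore 2 G)} (h : Dat G L) (hFT : OS.{u}) :
    (Nat.card L).primeFactors = (Nat.card G).primeFactors := by
  ext r
  rw [Nat.mem_primeFactors_of_ne_zero Nat.card_pos.ne', Nat.mem_primeFactors_of_ne_zero Nat.card_pos.ne']
  constructor
  · rintro ⟨h1, h2⟩; exact ⟨h1, (h.prime_iff hFT h1).1 h2⟩
  · rintro ⟨h1, h2⟩; exact ⟨h1, (h.prime_iff hFT h1).2 h2⟩

/-! EPPO groups -/

/-- elements have prime power order -/
def EPPO (G : Type*) [Group G] : Prop := ∀ g : G, g ≠ 1 → IsPrimePow (orderOf g)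

theorem isPrimePow_of_dvd {a b : ℕ} (ha : IsPrimePow a) (hb : b ∣ a) (hb1 : b ≠ 1) : IsPrimePow b := by
  obtain ⟨p, k, hp, hk, rfl⟩ := ha
  obtain ⟨i, hi, rfl⟩ := (Nat.dvd_prime_pow hp.nat_prime).1 hb
  refine ⟨p, i, hp, ?_, rfl⟩
  rcases Nat.eq_zero_or_pos i with rfl | h
  · exact absurd (pow_zero p) hb1
  · exact h

theorem EPPO.quot {G : Type*} [Group G] (h : EPPO G) (N : Subgroup G) [N.Normal] : EPPO (G ⧸ N) := by
  intro x hx
  obtain ⟨g, rfl⟩ := QuotientGroup.mk_surjective x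
  have hg : g ≠ 1 := by rintro rfl; exact hx rfl
  apply isPrimePow_of_dvd (h g hg)
  · apply orderOf_dvd_of_pow_eq_one
    rw [← QuotientGroup.mk_pow, pow_orderOf_eq_one]; rfl
  · rwa [Ne, orderOf_eq_one_iff]

theorem EPPO.subgroup {G : Type*} [Group G] (h : EPPO G) (H : Subgroup G) : EPPO H := by
  intro x hx
  rw [← Subgroup.orderOf_coe]
  apply h
  intro e
  exact hx (Subtype.ext e)

theorem EPPO.of_equiv {G H : Type*} [Group G] [Group H] (h : EPPO G) (e : G ≃* H) : EPPO H := by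
  intro x hx
  rw [← MulEquiv.orderOf_eq e.symm]
  apply h
  intro e1
  apply hx
  apply e.symm.injective
  rw [e1, map_one]

/-- in an EPPO group, elements commuting with a nontrivial `p`-element are `p`-elements -/
theorem EPPO.comm {G : Type*} [Group G] [Finite G] (h : EPPO G) {p : ℕ} (hp : p.Prime) {x y : G} (hx1 : x ≠ 1)
    (hx : ∃ k, x ^ p ^ k = 1) (hc : x * y = y * x) : ∃ k, y ^ p ^ k = 1 := by
  by_cases hy : y = 1
  · exact ⟨0, by rw [hy, one_pow]⟩
  obtain ⟨k, hk⟩ := hx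
  obtain ⟨i, -, hi⟩ := (Nat.dvd_prime_pow hp).1 (orderOf_dvd_of_pow_eq_one hk)
  have hi0 : i ≠ 0 := by
    rintro rfl
    rw [pow_zero, orderOf_eq_one_iff] at hi
    exact hx1 hi
  obtain ⟨q, j, hq, hj, hqj⟩ := h y hy
  have hq' := hq.nat_prime
  by_cases hqp : q = p
  · subst hqp
    exact ⟨j, by rw [hqj, pow_orderOf_eq_one]⟩
  · exfalso
    obtain ⟨z, hz⟩ := Cfsg.Agent.H60.exists_orderOf_mul hc hp hq' (Ne.symm hqp) (by rw [hi]; exact dvd_pow_self p hi0)
      (by rw [← hqj]; exact dvd_pow_self q hj.ne') (orderOf_pos x).ne' (orderOf_pos y).ne'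
    have hz1 : z ≠ 1 := by
      rintro rfl
      rw [orderOf_one] at hz
      have := hp.one_lt
      have h2 := hq'.one_lt
      nlinarith
    have h3 := h z hz1
    rw [hz] at h3
    obtain ⟨r, l, hr, hl, hrl⟩ := h3
    have h4 : p = r := (Nat.prime_dvd_prime_iff_eq hp hr.nat_prime).1
      (hp.dvd_of_dvd_pow (by rw [hrl]; exact dvd_mul_right p q))
    have h5 : q = r := (Nat.prime_dvd_prime_iff_eq hq' hr.nat_prime).1
      (hq'.dvd_of_dvd_pow (by rw [hrl]; exact dvd_mul_left q p))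
    exact hqp (h5.trans h4.symm)

theorem EPPO.cit {G : Type*} [Group G] [Finite G] (h : EPPO G) : CIT G := by
  intro t ht x
  have ht1 : t ≠ 1 := by rintro rfl; rw [orderOf_one] at ht; omega
  obtain ⟨k, hk⟩ := h.comm Nat.prime_two ht1 ⟨1, by rw [pow_one, ← ht, pow_orderOf_eq_one]⟩ (mem_centr.1 x.2)
  exact ⟨k, Subtype.ext hk⟩

theorem EPPO.centr_pgroup {G : Type*} [Group G] [Finite G] (h : EPPO G) {p : ℕ} (hp : p.Prime) {x : G} (hx1 : x ≠ 1)
    (hx : ∃ k, x ^ p ^ k = 1) : IsPGroup p (centralizer ({x} : Set G)) := by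
  intro y
  obtain ⟨k, hk⟩ := h.comm hp hx1 hx (mem_centr.1 y.2)
  exact ⟨k, Subtype.ext hk⟩

theorem EPPO.not_solvable {G : Type*} [Group G] [Finite G] (h : EPPO G) (h3 : 3 ≤ (Nat.card G).primeFactors.card) :
    ¬ Group.IsSolvable G := by
  intro hs
  have := S1475.result (G := G) (fun g => by
    by_cases hg : g = 1
    · exact Or.inr hg
    · exact Or.inl (h g hg))
  omega

end Cfsg.Agent.JY
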