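import Mathlib
import Cfsg.Agent.CIT.Final2
import Cfsg.Agent.RK.SE
import Cfsg.Agent.RK.Simple
import Cfsg.Agent.JY.Recog
import Cfsg.Agent.FT.Base

/-! The CIT theorem, with the Suzuki groups identified. -/

set_option autoImplicit false
set_option linter.style.haveILetI false

namespace Cfsg.Agent.JY

open Subgroup Cfsg Cfsg.Agent.H80 Cfsg.Agent.H32 Cfsg.Agent.CIT

universe u

theorem cit_strong {G : Type u} [Group G] [Finite G] [IsSimpleGroup G] (hG : CIT.IsCIT G)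
    (hna : ¬ IsMulCommutative G) (h2 : 2 ∣ Nat.card G) : CitList G := by
  classical
  haveI : Fact (Nat.Prime 2) := ⟨Nat.prime_two⟩
  obtain ⟨S⟩ : Nonempty (Sylow 2 G) := inferInstance
  have hne : (S : Subgroup G) ≠ ⊥ := S.ne_bot_of_dvd_card h2
  have hna' : ∃ a b : G, a * b ≠ b * a := by
    by_contra hcon
    push Not at hcon
    exact hna ⟨⟨hcon⟩⟩
  rcases CIT.dich hG S hne with ⟨Q, hQ1, hQS, hSQ, hQ⟩ | ⟨T, W, W', hTS, hT⟩
  · have hQ2 : IsPGroup 2 Q := S.2.to_le hQS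
    obtain ⟨M, hM, hP⟩ := CIT.exists_se hG hna' hQ1 hQ2 hQ
    obtain ⟨R, hRM, hRn, h3, h4⟩ := CIT.se_reg hG hna' hM hP
    obtain ⟨t, hS⟩ := RK.setup_of_stronglyEmbedded M hM R hRM hRn h3 h4
    rcases RK.simple_classification hS with ⟨F, i1, i2, ⟨n, hn, hc⟩, ⟨f⟩⟩ | h | ⟨F, i1, i2, n, hn, hc, ⟨f⟩⟩
    · exact Or.inl ⟨F, i1, i2, Or.inr (Or.inl ⟨n, hc⟩), ⟨f⟩⟩
    · exact Or.inr (Or.inr h)
    · refine absurd (CIT.IsCIT.of_equiv f hG) (CIT.not_cit_psu hc ?_ ?_)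
      · rw [Nat.even_pow]; exact ⟨even_two, by omega⟩
      · calc 4 = 2 ^ 2 := by norm_num
          _ ≤ 2 ^ n := Nat.pow_le_pow_right (by norm_num) hn
  · rcases hT.q_eq hG with hq | hq
    · exact Or.inl (hT.psl_two hna hG S hTS hq)
    · exact Or.inr (Or.inl (CIT.psl_three hG hna S hT hTS hq))

theorem os : OS.{u} := fun W _ _ h => Cfsg.Agent.FT.solvable_of_odd h

theorem ct : CT.{u} := by
  intro W _ _ hs hab hC
  haveI := hs
  refine cit_strong ?_ ?_ (even_card os ?_)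
  · intro t ht
    exact hC t ht
  · rintro h
    obtain ⟨a, b, hne⟩ := hab
    exact hne (h.is_comm.comm a b)
  · intro h
    obtain ⟨a, b, hne⟩ := hab
    exact hne ((IsSimpleGroup.comm_iff_isSolvable.2 h) a b)

end Cfsg.Agent.JY
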