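import Mathlib

/-! Arithmetic for the recognition theorems. -/

set_option autoImplicit false

namespace Cfsg.Agent.JY

theorem three_pow_mod_eight (a : ℕ) : 3 ^ a % 8 = 1 ∨ 3 ^ a % 8 = 3 := by
  induction a with
  | zero => left; rfl
  | succ a ih => rw [pow_succ]; omega

/-- `2 ^ n - 1` a power of three -/
theorem two_pow_eq_three_pow_add {n a : ℕ} (h : 2 ^ n = 3 ^ a + 1) : n ≤ 2 := by
  by_contra hn
  push Not at hn
  obtain ⟨k, rfl⟩ := Nat.exists_eq_add_of_le hn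
  have h1 := three_pow_mod_eight a
  rw [pow_add] at h
  have : (2 : ℕ) ^ (2 + 1) = 8 := by norm_num
  rw [show (Nat.succ 2) = 2 + 1 from rfl, this] at h
  omega

theorem three_pow_mod_sixteen {a : ℕ} (h : 3 ^ a % 16 = 1) : 3 ^ a % 5 = 1 := by
  have h1 : ∀ k : ℕ, 3 ^ (4 * k) % 16 = 1 ∧ 3 ^ (4 * k) % 5 = 1 := by
    intro k
    induction k with
    | zero => exact ⟨rfl, rfl⟩
    | succ k ih =>
      rw [mul_add, pow_add]
      norm_num
      omega
  have h2 := h1 (a / 4)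
  have h3 : a = 4 * (a / 4) + a % 4 := (Nat.div_add_mod a 4).symm
  have h4 : a % 4 < 4 := Nat.mod_lt _ (by norm_num)
  rw [h3, pow_add] at h ⊢
  interval_cases a % 4 <;> omega

/-- `2 ^ n + 1` a power of three -/
theorem two_pow_add_eq_three_pow {n a : ℕ} (h : 2 ^ n + 1 = 3 ^ a) : n = 1 ∨ n = 3 := by
  rcases Nat.lt_or_ge n 4 with hn | hn
  · interval_cases n
    · exfalso
      have := Odd.pow (n := a) (show Odd 3 by decide)
      rw [← h] at this
      exact absurd this (by decide)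
    · exact Or.inl rfl
    · exfalso
      rcases a with _ | _ | a
      · norm_num at h
      · norm_num at h
      · have : 3 ^ (a + 1 + 1) = 9 * 3 ^ a := by ring
        rw [this] at h
        have h2 := Nat.one_le_pow a 3 (by norm_num)
        omega
    · exact Or.inr rfl
  · exfalso
    obtain ⟨k, rfl⟩ := Nat.exists_eq_add_of_le hn
    rw [pow_add] at h
    norm_num at h
    have h1 : 3 ^ a % 5 = 1 := three_pow_mod_sixteen (by omega)
    have h2 : 16 * 2 ^ k % 5 = 0 := by omega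
    have h3 : 5 ∣ 16 * 2 ^ k := Nat.dvd_of_mod_eq_zero h2
    have h4 : 5 ∣ 2 ^ k := by
      rcases (Nat.Prime.dvd_mul (by norm_num)).1 h3 with h | h
      · norm_num at h
      · exact h
    have := Nat.Prime.dvd_of_dvd_pow (by norm_num) h4
    norm_num at this

theorem eq_pow_of_isPrimePow {n p : ℕ} (hp : p.Prime) (h : IsPrimePow n) (hd : p ∣ n) : ∃ a, n = p ^ a := by
  obtain ⟨q, k, hq, -, rfl⟩ := h
  have := (Nat.prime_dvd_prime_iff_eq hp hq.nat_prime).1 (hp.dvd_of_dvd_pow hd)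
  exact ⟨k, by rw [this]⟩

theorem three_dvd (n : ℕ) : 3 ∣ 2 ^ n - 1 ∨ 3 ∣ 2 ^ n + 1 := by
  have h : ∀ n : ℕ, 2 ^ n % 3 = 1 ∨ 2 ^ n % 3 = 2 := by
    intro n
    induction n with
    | zero => left; rfl
    | succ n ih => rw [pow_succ]; omega
  rcases h n with h | h
  · left; omega
  · right; omega

/-- both `2 ^ n ± 1` prime powers -/
theorem even_case {n : ℕ} (hn : 2 ≤ n) (h1 : IsPrimePow (2 ^ n - 1)) (h2 : IsPrimePow (2 ^ n + 1)) :
    n = 2 ∨ n = 3 := by
  rcases three_dvd n with h | h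
  · obtain ⟨a, ha⟩ := eq_pow_of_isPrimePow Nat.prime_three h1 h
    have := Nat.one_le_two_pow (n := n)
    have := two_pow_eq_three_pow_add (n := n) (a := a) (by omega)
    omega
  · obtain ⟨a, ha⟩ := eq_pow_of_isPrimePow Nat.prime_three h2 h
    have := two_pow_add_eq_three_pow ha
    omega

/-- `p = 2 ^ k + 1` -/
theorem fermat_case {p k : ℕ} (hp : p.Prime) (hp3 : 3 < p) (hk : p = 2 ^ k + 1) (h : IsPrimePow ((p + 1) / 2)) :
    p = 5 ∨ p = 17 := by
  have hk1 : 1 ≤ k := by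
    by_contra h0
    have : k = 0 := by omega
    subst this
    norm_num at hk
    omega
  obtain ⟨j, rfl⟩ := Nat.exists_eq_add_of_le' hk1
  have h2 : (p + 1) / 2 = 2 ^ j + 1 := by rw [hk, pow_succ]; omega
  rw [h2] at h
  have h3 : 3 ∣ 2 ^ j + 1 := by
    rcases three_dvd j with h | h
    · exfalso
      have h4 : 3 ∣ p := by
        have := Nat.one_le_two_pow (n := j)
        rw [hk, pow_succ]; omega
      have := (Nat.prime_dvd_prime_iff_eq Nat.prime_three hp).1 h4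
      omega
    · exact h
  obtain ⟨a, ha⟩ := eq_pow_of_isPrimePow Nat.prime_three h h3
  rcases two_pow_add_eq_three_pow ha with rfl | rfl
  · left; rw [hk]; norm_num
  · right; rw [hk]; norm_num

/-- `p = 2 ^ k - 1` -/
theorem mersenne_case {p k : ℕ} (hp : p.Prime) (hp3 : 3 < p) (hk : p + 1 = 2 ^ k) (h : IsPrimePow ((p - 1) / 2)) :
    p = 7 := by
  have hk1 : 1 ≤ k := by
    by_contra h0
    have : k = 0 := by omega
    subst this
    norm_num at hk
    omega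
  obtain ⟨j, rfl⟩ := Nat.exists_eq_add_of_le' hk1
  have h2 : (p - 1) / 2 = 2 ^ j - 1 := by rw [pow_succ] at hk; omega
  rw [h2] at h
  have hj := Nat.one_le_two_pow (n := j)
  have h3 : 3 ∣ 2 ^ j - 1 := by
    rcases three_dvd j with h | h
    · exact h
    · exfalso
      have h4 : 3 ∣ p := by
        rw [pow_succ] at hk; omega
      have := (Nat.prime_dvd_prime_iff_eq Nat.prime_three hp).1 h4
      omega
  obtain ⟨a, ha⟩ := eq_pow_of_isPrimePow Nat.prime_three h h3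
  have h5 := two_pow_eq_three_pow_add (n := j) (a := a) (by omega)
  have h6 : 1 ≤ j := by
    by_contra h0
    have : j = 0 := by omega
    subst this
    norm_num at hk
    omega
  interval_cases j
  · norm_num at hk; omega
  · norm_num at hk; omega

theorem two_pow_dvd_of_five {a j : ℕ} (h : 2 ^ (j + 2) ∣ 5 ^ a - 1) : 2 ^ j ∣ a := by
  rw [← ZMod.orderOf_five j]
  apply orderOf_dvd_of_pow_eq_one
  have h1 : ((5 ^ a - 1 : ℕ) : ZMod (2 ^ (j + 2))) = 0 := (ZMod.natCast_eq_zero_iff _ _).2 h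
  rw [Nat.cast_sub (Nat.one_le_pow _ _ (by norm_num))] at h1
  push_cast at h1
  linear_combination h1

theorem two_pow_ge {m : ℕ} (hm : 3 ≤ m) : m + 1 ≤ 2 ^ (m - 1) := by
  induction m, hm using Nat.le_induction with
  | base => norm_num
  | succ m hm ih =>
    have : 2 ^ (m + 1 - 1) = 2 * 2 ^ (m - 1) := by
      rw [← pow_succ']
      congr 1
      omega
    rw [this]
    omega

/-- Suzuki orders -/
theorem suzuki_case {m a : ℕ} (ε : ℕ) (hε : ε = 1 ∨ ε = 0)
    (h : 2 ^ (2 * m + 1) + ε * 2 ^ (m + 1) + 1 = 5 ^ a + (1 - ε) * 2 ^ (m + 1)) : m ≤ 2 := by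
  by_contra hm
  push Not at hm
  have hm3 : 3 ≤ m := hm
  have e1 : 2 ^ (2 * m + 1) = 2 ^ (m + 1) * 2 ^ m := by rw [← pow_add]; congr 1; omega
  have h1 : 2 ^ (m - 1 + 2) ∣ 5 ^ a - 1 := by
    have e2 : m - 1 + 2 = m + 1 := by omega
    rw [e2]
    have hx := Nat.one_le_pow a 5 (by norm_num)
    have hy := Nat.one_le_two_pow (n := m)
    rcases hε with rfl | rfl
    · refine ⟨2 ^ m + 1, ?_⟩
      rw [mul_add, ← e1]
      omega
    · refine ⟨2 ^ m - 1, ?_⟩
      rw [Nat.mul_sub, ← e1]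
      omega
  have h2 := two_pow_dvd_of_five h1
  have ha : a ≠ 0 := by
    rintro rfl
    rw [pow_zero] at h
    have hx := Nat.one_le_two_pow (n := m + 1)
    have hy : 2 ≤ 2 ^ m := by
      calc 2 = 2 ^ 1 := by norm_num
        _ ≤ 2 ^ m := Nat.pow_le_pow_right (by norm_num) (by omega)
    rcases hε with rfl | rfl
    · norm_num at h
    · rw [e1] at h; nlinarith
  have h3 : 2 ^ (m - 1) ≤ a := Nat.le_of_dvd (Nat.pos_of_ne_zero ha) h2
  have h4 : 4 ^ (m + 1) ≤ 5 ^ a := by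
    calc 4 ^ (m + 1) ≤ 4 ^ a := Nat.pow_le_pow_right (by norm_num) (le_trans (two_pow_ge hm3) h3)
      _ ≤ 5 ^ a := Nat.pow_le_pow_left (by norm_num) a
  have h5 : (4 : ℕ) ^ (m + 1) = 2 * 2 ^ (2 * m + 1) := by
    rw [show (4 : ℕ) = 2 ^ 2 by norm_num, ← pow_mul, ← pow_succ']
    congr 1
  have h6 : 2 ^ (m + 1) + 1 < 2 ^ (2 * m + 1) := by
    have h7 : 2 ^ (m + 2) ≤ 2 ^ (2 * m + 1) := Nat.pow_le_pow_right (by norm_num) (by omega)
    have h8 : 2 ^ (m + 2) = 2 * 2 ^ (m + 1) := by rw [← pow_succ']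
    have h9 : 2 ≤ 2 ^ (m + 1) := by
      calc 2 = 2 ^ 1 := by norm_num
        _ ≤ 2 ^ (m + 1) := Nat.pow_le_pow_right (by norm_num) (by omega)
    omega
  rcases hε with rfl | rfl <;> omega

theorem five_dvd (m : ℕ) : 5 ∣ 2 ^ (2 * m + 1) + 2 ^ (m + 1) + 1 ∨ 5 ∣ 2 ^ (2 * m + 1) - 2 ^ (m + 1) + 1 := by
  have h : ∀ m : ℕ, 2 ^ m % 5 = 1 ∨ 2 ^ m % 5 = 2 ∨ 2 ^ m % 5 = 4 ∨ 2 ^ m % 5 = 3 := by
    intro m
    induction m with
    | zero => left; rfl
    | succ n ih => rw [pow_succ]; omega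
  have e1 : 2 ^ (2 * m + 1) = 2 * (2 ^ m * 2 ^ m) := by rw [← pow_add, ← pow_succ']; congr 1; omega
  have e2 : 2 ^ (m + 1) = 2 * 2 ^ m := by rw [pow_succ']
  have h3 : 2 ^ m ≤ 2 ^ m * 2 ^ m := Nat.le_mul_self _
  have h4 : 2 ^ m * 2 ^ m % 5 = (2 ^ m % 5) * (2 ^ m % 5) % 5 := Nat.mul_mod _ _ _
  rw [e1, e2]
  generalize 2 ^ m * 2 ^ m = y at *
  rcases h m with h | h | h | h <;> rw [h] at h4 <;> norm_num at h4 <;> omega

end Cfsg.Agent.JY
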