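import Mathlib
import Cfsg.Agent.JY.Recog
import Cfsg.Agent.JY.Arith
import Cfsg.Agent.S0144
import Cfsg.Agent.S2540
import Cfsg.Agent.S0333
import Cfsg.Agent.S2475
import Cfsg.Agent.S0494
import Cfsg.Agent.S0497
import Cfsg.Agent.H14.SubField

/-! Simple groups in the CIT list all of whose elements have prime power order. -/

set_option autoImplicit false
set_option linter.unusedSectionVars false
set_option linter.style.haveILetI false

namespace Cfsg.Agent.JY

open Subgroup Cfsg Cfsg.Agent.Suz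

/-- the list of simple EPPO groups -/
def EppoList (G : Type*) [Group G] : Prop :=
    Nonempty (G ≃* alternatingGroup (Fin 6)) ∨
    (∃ (F : Type) (_ : Field F) (_ : Fintype F), Fintype.card F ∈ ({4, 7, 8, 17} : Finset ℕ) ∧
      Nonempty (G ≃* Matrix.ProjectiveSpecialLinearGroup (Fin 2) F)) ∨
    (∃ (F : Type) (_ : Field F) (_ : Fintype F), Fintype.card F = 4 ∧
      Nonempty (G ≃* Matrix.ProjectiveSpecialLinearGroup (Fin 3) F)) ∨
    (∃ (F : Type) (_ : Field F) (_ : Fintype F),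
      (Fintype.card F = 8 ∧ Nonempty (G ≃* ↥(Cfsg.Lie.Sz F 4))) ∨ (Fintype.card F = 32 ∧ Nonempty (G ≃* ↥(Cfsg.Lie.Sz F 8))))

theorem not_solvable_of {G : Type*} [Group G] [IsSimpleGroup G] (hna : ∃ a b : G, a * b ≠ b * a) :
    ¬ Group.IsSolvable G := by
  intro h
  obtain ⟨a, b, hne⟩ := hna
  exact hne ((IsSimpleGroup.comm_iff_isSolvable.2 h) a b)

theorem four_le {G : Type*} [Group G] [Finite G] (hns : ¬ Group.IsSolvable G) {F : Type*} [Field F] [Fintype F]
    (e : G ≃* Matrix.ProjectiveSpecialLinearGroup (Fin 2) F) : 4 ≤ Fintype.card F := by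
  by_contra h
  push Not at h
  have h1 := Fintype.one_lt_card (α := F)
  have hc := Nat.card_congr e.toEquiv
  apply hns
  interval_cases h2 : Fintype.card F
  · have h3 := H14.SubField.card_PSL2_even (F := F) (by rw [h2]; decide)
    rw [h2] at h3
    exact S0144.result 2 3 1 1 Nat.prime_two Nat.prime_three (by rw [hc, h3]; norm_num)
  · have h3 := H14.SubField.card_PSL2_odd (F := F) (by rw [h2]; decide)
    rw [h2] at h3
    exact S0144.result 2 3 2 1 Nat.prime_two Nat.prime_three (by rw [hc]; omega)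

theorem psl_simple_four {F : Type*} [Field F] [Fintype F] (h : Fintype.card F = 4) :
    Nonempty (Matrix.ProjectiveSpecialLinearGroup (Fin 2) F ≃* alternatingGroup (Fin 5)) := by
  haveI := S2540.psl_simple (F := F) 2 le_rfl (by rintro ⟨-, h1⟩; omega)
  apply S0494.result
  rw [H14.SubField.card_PSL2_even (by rw [h]; decide), h]

theorem alt_five_psl : ∃ (F : Type) (_ : Field F) (_ : Fintype F), Fintype.card F = 4 ∧
    Nonempty (alternatingGroup (Fin 5) ≃* Matrix.ProjectiveSpecialLinearGroup (Fin 2) F) := by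
  haveI : Fact (Nat.Prime 2) := ⟨Nat.prime_two⟩
  have h : Nat.card (GaloisField 2 2) = 4 := by rw [GaloisField.card 2 2 (by norm_num)]; norm_num
  haveI : Finite (GaloisField 2 2) := Nat.finite_of_card_ne_zero (by rw [h]; norm_num)
  let i : Fintype (GaloisField 2 2) := Fintype.ofFinite _
  have h2 : Fintype.card (GaloisField 2 2) = 4 := by rw [← Nat.card_eq_fintype_card, h]
  obtain ⟨e⟩ := psl_simple_four h2
  exact ⟨GaloisField 2 2, inferInstance, i, h2, ⟨e.symm⟩⟩

theorem orderOf_mem {G : Type*} [Group G] (h : EPPO G) {n : ℕ} (hn : n ≠ 1) (hx : ∃ x : G, orderOf x = n) :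
    IsPrimePow n := by
  obtain ⟨x, rfl⟩ := hx
  apply h
  rintro rfl
  exact hn orderOf_one

theorem EPPO.psl2 {G : Type*} [Group G] [Finite G] [IsSimpleGroup G] (h : EPPO G)
    (hna : ∃ a b : G, a * b ≠ b * a)
    (hl : ∃ (F : Type) (_ : Field F) (_ : Fintype F),
        (Fintype.card F = 9 ∨ (∃ n : ℕ, Fintype.card F = 2 ^ n) ∨
          ((Fintype.card F).Prime ∧ ∃ k : ℕ, Fintype.card F = 2 ^ k + 1 ∨ Fintype.card F + 1 = 2 ^ k)) ∧
        Nonempty (G ≃* Matrix.ProjectiveSpecialLinearGroup (Fin 2) F)) :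
    Nonempty (G ≃* alternatingGroup (Fin 6)) ∨
    (∃ (F : Type) (_ : Field F) (_ : Fintype F), Fintype.card F ∈ ({4, 7, 8, 17} : Finset ℕ) ∧
      Nonempty (G ≃* Matrix.ProjectiveSpecialLinearGroup (Fin 2) F)) := by
  obtain ⟨F, i1, i2, hF, ⟨e⟩⟩ := hl
  have h4 := four_le (not_solvable_of hna) e
  have hc := Nat.card_congr e.toEquiv
  have hp : ∃ p : ℕ, p.Prime ∧ CharP F p := by
    obtain ⟨p, hp⟩ := CharP.exists F
    exact ⟨p, (CharP.char_is_prime_or_zero F p).resolve_right (CharP.char_ne_zero_of_finite F p), hp⟩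
  obtain ⟨p, hp, hpF⟩ := hp
  haveI := Fact.mk hp
  have hspec := S2475.result (F := F) p h4
  have hord : ∀ m : ℕ, m ∣ p ∨ m ∣ (Fintype.card F - 1) / Nat.gcd 2 (Fintype.card F - 1) ∨
      m ∣ (Fintype.card F + 1) / Nat.gcd 2 (Fintype.card F - 1) → m ≠ 1 → IsPrimePow m := by
    intro m hm hm1
    have h1 : m ∈ Set.range (orderOf : Matrix.ProjectiveSpecialLinearGroup (Fin 2) F → ℕ) := by
      rw [hspec]; exact hm
    obtain ⟨x, hx⟩ := h1
    exact orderOf_mem (h.of_equiv e) hm1 ⟨x, hx⟩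
  rcases hF with h9 | ⟨n, hn⟩ | ⟨hpr, k, hk⟩
  · left
    apply S0497.result
    have h3 := H14.SubField.card_PSL2_odd (F := F) (by rw [h9]; decide)
    rw [h9] at h3
    rw [hc]
    omega
  · right
    refine ⟨F, i1, i2, ?_, ⟨e⟩⟩
    have hn2 : 2 ≤ n := by
      by_contra hcon
      have : n < 2 := by omega
      interval_cases n <;> omega
    have hg : Nat.gcd 2 (2 ^ n - 1) = 1 := by
      have : ¬ 2 ∣ 2 ^ n - 1 := by
        obtain ⟨k, rfl⟩ := Nat.exists_eq_add_of_le' hn2
        rw [pow_add]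
        have := Nat.one_le_two_pow (n := k)
        omega
      exact (Nat.Prime.coprime_iff_not_dvd Nat.prime_two).2 this
    rw [hn, hg, Nat.div_one, Nat.div_one] at hord
    have h16 : 4 ≤ 2 ^ n := by rw [← hn]; exact h4
    have h1 := hord (2 ^ n - 1) (Or.inr (Or.inl dvd_rfl)) (by omega)
    have h2 := hord (2 ^ n + 1) (Or.inr (Or.inr dvd_rfl)) (by omega)
    rcases even_case hn2 h1 h2 with rfl | rfl
    · rw [hn]; decide
    · rw [hn]; decide
  · right
    have hne2 : Fintype.card F ≠ 2 := by omega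
    have hodd : Fintype.card F % 2 = 1 := hpr.eq_two_or_odd.resolve_left hne2
    have hg : Nat.gcd 2 (Fintype.card F - 1) = 2 := Nat.gcd_eq_left (by omega)
    rw [hg] at hord
    rcases hk with hk | hk
    · have h1 := hord ((Fintype.card F + 1) / 2) (Or.inr (Or.inr dvd_rfl)) (by omega)
      rcases fermat_case hpr (by omega) hk h1 with h5 | h17
      · have hA : Nonempty (G ≃* alternatingGroup (Fin 5)) := by
          apply S0494.result
          have h3 := H14.SubField.card_PSL2_odd (F := F) (by rw [h5]; decide)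
          rw [h5] at h3
          rw [hc]
          omega
        obtain ⟨f⟩ := hA
        obtain ⟨K, j1, j2, hK, ⟨g⟩⟩ := alt_five_psl
        exact ⟨K, j1, j2, by rw [hK]; decide, ⟨f.trans g⟩⟩
      · exact ⟨F, i1, i2, by rw [h17]; decide, ⟨e⟩⟩
    · have h1 := hord ((Fintype.card F - 1) / 2) (Or.inr (Or.inl dvd_rfl)) (by omega)
      have h7 := mersenne_case hpr (by omega) hk h1
      exact ⟨F, i1, i2, by rw [h7]; decide, ⟨e⟩⟩

theorem exists_torus_order {F : Type*} [Field F] [Fintype F] {m : ℕ} (hm : 1 ≤ m)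
    (hF : Fintype.card F = 2 ^ (2 * m + 1)) {k : ℕ}
    (hk : k ∈ ({2 ^ (2 * m + 1) + 2 ^ (m + 1) + 1, 2 ^ (2 * m + 1) - 2 ^ (m + 1) + 1} : Set ℕ)) :
    ∃ x : Cfsg.Sz F m, orderOf x = k := by
  obtain ⟨U, hU, hUc, -, -⟩ := S0333.result hm hF k hk
  obtain ⟨x, hx⟩ := IsCyclic.exists_generator (α := U)
  refine ⟨x, ?_⟩
  rw [Subgroup.orderOf_coe, ← hUc]
  exact orderOf_eq_card_of_forall_mem_zpowers hx

theorem suzuki_le {m : ℕ} (hm : 1 ≤ m)
    (h1 : IsPrimePow (2 ^ (2 * m + 1) + 2 ^ (m + 1) + 1)) (h2 : IsPrimePow (2 ^ (2 * m + 1) - 2 ^ (m + 1) + 1)) :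
    m ≤ 2 := by
  have h3 : 2 ^ (m + 1) ≤ 2 ^ (2 * m + 1) := Nat.pow_le_pow_right (by norm_num) (by omega)
  rcases five_dvd m with h | h
  · obtain ⟨a, ha⟩ := eq_pow_of_isPrimePow (by norm_num) h1 h
    exact suzuki_case (a := a) 1 (Or.inl rfl) (by omega)
  · obtain ⟨a, ha⟩ := eq_pow_of_isPrimePow (by norm_num) h2 h
    exact suzuki_case (a := a) 0 (Or.inr rfl) (by omega)

theorem CitList.eppo {G : Type*} [Group G] [Finite G] [IsSimpleGroup G] (hl : CitList G) (h : EPPO G)
    (hna : ∃ a b : G, a * b ≠ b * a) : EppoList G := by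
  rcases hl with hl | hl | ⟨F, i1, i2, m, hm, hF, ⟨e⟩⟩
  · rcases h.psl2 hna hl with h | h
    · exact Or.inl h
    · exact Or.inr (Or.inl h)
  · exact Or.inr (Or.inr (Or.inl hl))
  · right; right; right
    obtain ⟨f⟩ := nonempty_lieEquiv hm hF
    have h' : EPPO (Cfsg.Sz F m) := h.of_equiv (e.trans f.symm)
    have h3 : 2 ^ (m + 1) < 2 ^ (2 * m + 1) := Nat.pow_lt_pow_right (by norm_num) (by omega)
    have h1 := orderOf_mem h' (by have := Nat.one_le_two_pow (n := m + 1); omega) (exists_torus_order hm hF (Or.inl rfl))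
    have h2 := orderOf_mem h' (by omega) (exists_torus_order hm hF (Or.inr rfl))
    have hm2 := suzuki_le hm h1 h2
    refine ⟨F, i1, i2, ?_⟩
    interval_cases m
    · left; exact ⟨by rw [hF]; norm_num, ⟨e⟩⟩
    · right; exact ⟨by rw [hF]; norm_num, ⟨e⟩⟩

end Cfsg.Agent.JY
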