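import Mathlib
import Cfsg.Agent.JY.Recog
import Cfsg.Agent.H17.Orbits

/-! Counting Sylow subgroups in EPPO groups. -/

set_option autoImplicit false
set_option linter.unusedSectionVars false
set_option linter.style.haveILetI false

namespace Cfsg.Agent.JY

open Subgroup Cfsg

variable {X : Type*} [Group X] [Finite X] {p : ℕ} [hp : Fact p.Prime]

/-- in an EPPO group, an abelian Sylow subgroup is the centralizer of its nontrivial elements -/
theorem EPPO.centr_eq (h : EPPO X) (P : Sylow p X) (hab : ∀ a ∈ P, ∀ b ∈ P, a * b = b * a) {x : X}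
    (hx : x ∈ P) (hx1 : x ≠ 1) : centralizer ({x} : Set X) = P := by
  have h1 : (P : Subgroup X) ≤ centralizer ({x} : Set X) := fun y hy => mem_centr.2 (hab x hx y hy)
  have h2 : IsPGroup p (centralizer ({x} : Set X)) := by
    apply h.centr_pgroup hp.out hx1
    obtain ⟨k, hk⟩ := P.2 ⟨x, hx⟩
    exact ⟨k, congrArg Subtype.val hk⟩
  exact P.is_maximal' h2 h1

theorem centr_conj {g x : X} {K : Subgroup X} (h : centralizer ({g⁻¹ * x * g} : Set X) = K) {y : X} :
    y ∈ centralizer ({x} : Set X) ↔ g⁻¹ * y * g ∈ K := by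
  rw [← h, mem_centr, mem_centr]
  constructor
  · intro e
    calc g⁻¹ * x * g * (g⁻¹ * y * g) = g⁻¹ * (x * y) * g := by group
      _ = g⁻¹ * (y * x) * g := by rw [e]
      _ = _ := by group
  · intro e
    calc x * y = g * (g⁻¹ * x * g * (g⁻¹ * y * g)) * g⁻¹ := by group
      _ = g * (g⁻¹ * y * g * (g⁻¹ * x * g)) * g⁻¹ := by rw [e]
      _ = _ := by group

theorem sylow_mod {k : ℕ} (P : Sylow p X) (hk : Nat.card P = p ^ k) (hk0 : k ≠ 0)
    (hP : ∀ x ∈ P, x ≠ 1 → centralizer ({x} : Set X) = P) : Nat.card (Sylow p X) ≡ 1 [MOD p ^ k] := by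
  refine H17.card_sylow_modEq_of_large_index P k fun R hR => ?_
  have h1 : (R : Subgroup X).subgroupOf (P : Subgroup X) = ⊥ := by
    rw [eq_bot_iff]
    intro x hx
    rw [mem_subgroupOf] at hx
    by_contra hx1
    rw [mem_bot] at hx1
    have hx2 : (x : X) ≠ 1 := fun e => hx1 (Subtype.ext e)
    have hC := hP x x.2 hx2
    apply hR
    obtain ⟨g, hg⟩ := MulAction.exists_smul_eq X P R
    have hmem : ∀ y : X, y ∈ R ↔ g⁻¹ * y * g ∈ P := by
      intro y
      rw [← hg]
      change y ∈ (P : Subgroup X).map (MulAut.conj g).toMonoidHom ↔ _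
      constructor
      · rintro ⟨z, hz, rfl⟩
        have : g⁻¹ * (MulAut.conj g) z * g = z := by rw [MulAut.conj_apply]; group
        change g⁻¹ * (MulAut.conj g) z * g ∈ P
        rw [this]; exact hz
      · intro h
        refine ⟨_, h, ?_⟩
        change (MulAut.conj g) (g⁻¹ * y * g) = y
        rw [MulAut.conj_apply]; group
    have h3 : g⁻¹ * (x : X) * g ∈ P := (hmem x).1 hx
    have h4 : g⁻¹ * (x : X) * g ≠ 1 := by
      intro e
      apply hx2
      calc (x : X) = g * (g⁻¹ * (x : X) * g) * g⁻¹ := by group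
        _ = 1 := by rw [e]; group
    have h5 := hP _ h3 h4
    apply Sylow.ext
    ext y
    rw [← hC]
    change y ∈ R ↔ _
    rw [hmem, centr_conj h5]
    rfl
  rw [h1, index_bot, hk]
  exact Nat.pow_lt_pow_right hp.out.one_lt (by omega)

/-- the normalizer of a Sylow subgroup is small -/
theorem card_normalizer_le (P : Sylow p X) {x : X} (hxP : x ∈ P) (hx1 : x ≠ 1)
    (hP : centralizer ({x} : Set X) = P) :
    Nat.card (normalizer ((P : Subgroup X) : Set X)) ≤ Nat.card P * (Nat.card P - 1) := by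
  classical
  set N := normalizer ((P : Subgroup X) : Set X) with hN
  have hPN : (P : Subgroup X) ≤ N := le_normalizer
  have h1 : Nat.card N = Nat.card P * ((P : Subgroup X).subgroupOf N).index := by
    rw [← card_mul_index ((P : Subgroup X).subgroupOf N)]
    congr 1
    exact Nat.card_congr (subgroupOfEquivOfLe hPN).toEquiv
  rw [h1]
  apply Nat.mul_le_mul_left
  let T : Set X := ((P : Subgroup X) : Set X) \ {1}
  have hT : Nat.card T = Nat.card P - 1 := by
    rw [Nat.card_coe_set_eq, Set.ncard_sdiff_singleton_of_mem (one_mem _)]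
    rfl
  rw [← hT]
  haveI : Finite T := Set.toFinite T
  let f : (N ⧸ (P : Subgroup X).subgroupOf N) → T := fun q => Quotient.liftOn' q
    (fun g => ⟨(g : X) * x * (g : X)⁻¹, by
      refine ⟨?_, ?_⟩
      · exact (mem_normalizer_iff.1 g.2 x).1 hxP
      · intro e
        apply hx1
        have e' : (g : X) * x * (g : X)⁻¹ = 1 := e
        calc x = (g : X)⁻¹ * ((g : X) * x * (g : X)⁻¹) * g := by group
          _ = 1 := by rw [e']; group⟩)
    (by
      intro a b hab
      rw [QuotientGroup.leftRel_apply, mem_subgroupOf] at hab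
      have h2 : (a : X)⁻¹ * b ∈ centralizer ({x} : Set X) := by rw [hP]; exact hab
      rw [mem_centr] at h2
      apply Subtype.ext
      change (a : X) * x * (a : X)⁻¹ = (b : X) * x * (b : X)⁻¹
      calc (a : X) * x * (a : X)⁻¹ = (a : X) * (x * ((a : X)⁻¹ * b)) * (b : X)⁻¹ := by group
        _ = (a : X) * ((a : X)⁻¹ * b * x) * (b : X)⁻¹ := by rw [h2]
        _ = _ := by group)
  apply Nat.card_le_card_of_injective f
  intro q r
  induction q using Quotient.inductionOn' with | _ a
  induction r using Quotient.inductionOn' with | _ b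
  intro e
  have e1 : (a : X) * x * (a : X)⁻¹ = (b : X) * x * (b : X)⁻¹ := congrArg Subtype.val e
  apply Quotient.sound'
  rw [QuotientGroup.leftRel_apply, mem_subgroupOf]
  have : (a : X)⁻¹ * b ∈ centralizer ({x} : Set X) := by
    rw [mem_centr]
    calc x * ((a : X)⁻¹ * b) = (a : X)⁻¹ * ((a : X) * x * (a : X)⁻¹) * b := by group
      _ = (a : X)⁻¹ * ((b : X) * x * (b : X)⁻¹) * b := by rw [e1]
      _ = _ := by group
  rw [hP] at this
  exact this

/-- numerical data for a normal subgroup of index prime to `p` in an EPPO group with abelian Sylow subgroups -/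
theorem EPPO.count (h : EPPO X) (P : Sylow p X) (hab : ∀ a ∈ P, ∀ b ∈ P, a * b = b * a) {k : ℕ}
    (hk : Nat.card P = p ^ k) (hk0 : k ≠ 0) (L : Subgroup X) [hL : L.Normal] (hPL : (P : Subgroup X) ≤ L) :
    ∃ n a b : ℕ, n * a = Nat.card L ∧ p ^ k ∣ a ∧ n ≡ 1 [MOD p ^ k] ∧ b ≤ p ^ k * (p ^ k - 1) ∧ a ∣ b ∧
      n * b = Nat.card X ∧ n = Nat.card (Sylow p X) ∧ b = Nat.card (normalizer ((P : Subgroup X) : Set X)) ∧
      a = Nat.card ((normalizer ((P : Subgroup X) : Set X)) ⊓ L : Subgroup X) := by
  set N := normalizer ((P : Subgroup X) : Set X) with hN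
  have hfr : N ⊔ L = ⊤ := by
    have h1 := Sylow.normalizer_sup_eq_top (P.subtype hPL)
    have h2 : ((P.subtype hPL : Sylow p L) : Subgroup L).map L.subtype = P := by
      rw [Sylow.coe_subtype, Subgroup.subgroupOf_map_subtype]
      exact inf_eq_left.2 hPL
    rwa [h2] at h1
  refine ⟨Nat.card (Sylow p X), Nat.card (N ⊓ L : Subgroup X), Nat.card N, ?_, ?_, ?_, ?_, ?_, ?_, rfl, rfl, rfl⟩
  · have h1 : L.relIndex N = L.index := by
      rw [← relIndex_top_right, ← hfr, relIndex_sup_right]
    have h2 : Nat.card (L.subgroupOf N) * L.relIndex N = Nat.card N := card_mul_index _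
    have h3 : Nat.card (L.subgroupOf N) = Nat.card (N ⊓ L : Subgroup X) := by
      rw [inf_comm, ← Subgroup.subgroupOf_map_subtype]
      exact (Subgroup.card_map_of_injective N.subtype_injective).symm
    rw [h1, h3] at h2
    have h4 := card_mul_index N
    have h5 := card_mul_index L
    have h6 : Nat.card (Sylow p X) = N.index := Sylow.card_eq_index_normalizer P
    rw [h6]
    apply Nat.eq_of_mul_eq_mul_right (Nat.pos_of_ne_zero (index_ne_zero_of_finite (H := L)))
    rw [h5, ← h4, ← h2]
    ring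
  · rw [← hk]
    exact Subgroup.card_dvd_of_le (le_inf le_normalizer hPL)
  · exact sylow_mod P hk hk0 (fun x hx hx1 => h.centr_eq P hab hx hx1)
  · haveI : Nontrivial P := by
      rw [← Finite.one_lt_card_iff_nontrivial, hk]
      exact Nat.one_lt_pow hk0 hp.out.one_lt
    obtain ⟨x, hx⟩ := exists_ne (1 : P)
    have := card_normalizer_le P x.2 (fun e => hx (Subtype.ext e)) (h.centr_eq P hab x.2 (fun e => hx (Subtype.ext e)))
    rwa [hk] at this
  · exact Subgroup.card_dvd_of_le inf_le_left
  · have h6 : Nat.card (Sylow p X) = N.index := Sylow.card_eq_index_normalizer P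
    rw [h6, mul_comm]
    exact card_mul_index N

/-- a three primes argument -/
theorem EPPO.no_frob {G : Type*} [Group G] [Finite G] (h : EPPO G) (Q : Subgroup G) [hQ : Q.Normal]
    (P N : Subgroup (G ⧸ Q)) (hPN : P ≤ N) (hN : N ≤ normalizer (P : Set (G ⧸ Q))) {p q r : ℕ} (hp : p.Prime)
    (hq : q.Prime) (hr : r.Prime) (hpq : p ≠ q) (hpr : p ≠ r) (hqr : q ≠ r) (h1 : p ∣ Nat.card Q)
    (h2 : q ∣ Nat.card P) (h3 : r ∣ P.relIndex N) : False := by
  let π := QuotientGroup.mk' Q
  let H : Subgroup G := N.comap π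
  let M : Subgroup G := P.comap π
  have hMH : M ≤ H := comap_mono hPN
  have hQM : Q ≤ M := by
    intro x hx
    rw [mem_comap]
    have : π x = 1 := (QuotientGroup.eq_one_iff x).2 hx
    rw [this]; exact one_mem _
  have hQH : Q ≤ H := hQM.trans hMH
  haveI hMn : (M.subgroupOf H).Normal := by
    constructor
    intro x hx g
    rw [mem_subgroupOf] at hx ⊢
    rw [mem_comap] at hx ⊢
    have hg : π (g : G) ∈ N := g.2
    have h4 := (mem_normalizer_iff.1 (hN hg) (π (x : G))).1 hx
    have h5 : π ((g * x * g⁻¹ : H) : G) = π (g : G) * π (x : G) * (π (g : G))⁻¹ := rfl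
    rw [h5]; exact h4
  haveI hQn : (Q.subgroupOf H).Normal := inferInstance
  have hker : π.ker = Q := QuotientGroup.ker_mk' Q
  have e1 : Nat.card (Q.subgroupOf H) = Nat.card Q := Nat.card_congr (subgroupOfEquivOfLe hQH).toEquiv
  have e2 : (Q.subgroupOf H).relIndex (M.subgroupOf H) = Nat.card P := by
    have h4 : (Q.subgroupOf H).relIndex (M.subgroupOf H) = Q.relIndex M := by
      exact Subgroup.relIndex_subgroupOf hMH
    rw [h4]
    have h5 : (⊥ : Subgroup (G ⧸ Q)).comap π = Q := (MonoidHom.comap_bot π).trans hker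
    have h6 : ((⊥ : Subgroup (G ⧸ Q)).comap π).relIndex M = Nat.card P := by
      rw [Subgroup.relIndex_comap, map_comap_eq_self_of_surjective (QuotientGroup.mk'_surjective Q),
        relIndex_bot_left]
    rw [← h6]
    exact congrArg (fun K => Subgroup.relIndex K M) h5.symm
  have e3 : (M.subgroupOf H).index = P.relIndex N := by
    change (P.comap π).relIndex (N.comap π) = _
    rw [Subgroup.relIndex_comap, map_comap_eq_self_of_surjective (QuotientGroup.mk'_surjective Q)]
  have h4 := Cfsg.Agent.H60.three_primes_series (G := H) (Q.subgroupOf H) (M.subgroupOf H)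
    (by intro x hx; rw [mem_subgroupOf] at hx ⊢; exact hQM hx) p q r hp hq hr hpq hpr hqr
    (by rw [e1]; exact h1) (by rw [e2]; exact h2) (by rw [e3]; exact h3)
  have key : ∀ a b : ℕ, a.Prime → b.Prime → a ≠ b → (∃ x : H, orderOf x = a * b) → False := by
    rintro a b ha hb hab ⟨x, hx⟩
    have hx1 : x ≠ 1 := by
      rintro rfl
      rw [orderOf_one] at hx
      have := ha.one_lt
      have h2 := hb.one_lt
      nlinarith
    have h5 := h.subgroup H x hx1
    rw [hx] at h5
    obtain ⟨r, l, hr, hl, hrl⟩ := h5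
    have h6 : a = r := (Nat.prime_dvd_prime_iff_eq ha hr.nat_prime).1
      (ha.dvd_of_dvd_pow (by rw [hrl]; exact dvd_mul_right a b))
    have h7 : b = r := (Nat.prime_dvd_prime_iff_eq hb hr.nat_prime).1
      (hb.dvd_of_dvd_pow (by rw [hrl]; exact dvd_mul_left b a))
    exact hab (h6.trans h7.symm)
  rcases h4 with h4 | h4 | h4
  · exact key p q hp hq hpq h4
  · exact key p r hp hr hpr h4
  · exact key q r hq hr hqr h4

end Cfsg.Agent.JY
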