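import Mathlib
import Cfsg.Agent.JY.Count
import Cfsg.Agent.JY.Eppo
import Cfsg.Agent.S2126
import Cfsg.Agent.S0243
import Cfsg.Agent.ClassBase.RelHom

/-! Structure of nonsolvable EPPO groups. -/

set_option autoImplicit false
set_option linter.unusedSectionVars false
set_option linter.style.haveILetI false

namespace Cfsg.Agent.JY

open Subgroup Cfsg

universe u

section General

variable {X : Type*} [Group X] [Finite X]

theorem eq_top_of_out_odd (L : Subgroup X) [hL : L.Normal] (hC : centralizer (L : Set X) = ⊥)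
    (hq : IsPGroup 2 (X ⧸ L)) (ho : Odd (Nat.card (Cfsg.Out L))) : L = ⊤ := by
  rw [eq_top_iff]
  intro x _
  let φ : X →* MulAut L := MulAut.conjNormal
  let ψ : X →* Cfsg.Out L := (QuotientGroup.mk' (Cfsg.Inn L)).comp φ
  obtain ⟨k, hk⟩ := hq (QuotientGroup.mk x)
  rw [← QuotientGroup.mk_pow, QuotientGroup.eq_one_iff] at hk
  have hL1 : ∀ l : X, ∀ hl : l ∈ L, ψ l = 1 := by
    intro l hl
    apply (QuotientGroup.eq_one_iff _).2
    refine ⟨⟨l, hl⟩, ?_⟩
    ext y
    simp [φ]
  have h1 : ψ x ^ 2 ^ k = 1 := by rw [← map_pow]; exact hL1 _ hk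
  have h2 : orderOf (ψ x) = 1 := by
    have h3 := orderOf_dvd_of_pow_eq_one h1
    have h4 : orderOf (ψ x) ∣ Nat.card (Cfsg.Out L) := orderOf_dvd_natCard _
    apply Nat.eq_one_of_dvd_coprimes _ h3 h4
    apply Nat.Coprime.pow_left
    exact (Nat.coprime_two_left).2 ho
  rw [orderOf_eq_one_iff] at h2
  have h5 : φ x ∈ Cfsg.Inn L := (QuotientGroup.eq_one_iff _).1 h2
  obtain ⟨l, hl⟩ := h5
  have h6 : (l : X)⁻¹ * x ∈ centralizer (L : Set X) := by
    rw [mem_centralizer_iff]
    intro y hy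
    have h7 := congrArg (fun f : MulAut L => ((f ⟨y, hy⟩ : L) : X)) hl
    simp only [φ] at h7
    change (l : X) * y * (l : X)⁻¹ = x * y * x⁻¹ at h7
    calc y * ((l : X)⁻¹ * x) = (l : X)⁻¹ * ((l : X) * y * (l : X)⁻¹) * x := by group
      _ = (l : X)⁻¹ * (x * y * x⁻¹) * x := by rw [h7]
      _ = _ := by group
  rw [hC, mem_bot] at h6
  have : x = l := by
    calc x = (l : X) * ((l : X)⁻¹ * x) := by group
      _ = l := by rw [h6, mul_one]
  rw [this]
  exact l.2

/-- Sylow subgroups for odd primes lie in `L` -/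
theorem sylow_le {p : ℕ} [hp : Fact p.Prime] (hp2 : p ≠ 2) (L : Subgroup X) [hL : L.Normal]
    (hq : IsPGroup 2 (X ⧸ L)) (P : Sylow p X) :
    (P : Subgroup X) ≤ L ∧ Nat.card P = p ^ (Nat.card L).factorization p := by
  have h1 : (P : Subgroup X) ≤ L := by
    intro x hx
    apply mem_of_odd hq
    intro h2
    obtain ⟨k, hk⟩ := P.2 ⟨x, hx⟩
    have hk' : x ^ p ^ k = 1 := congrArg Subtype.val hk
    have h3 := h2.trans (orderOf_dvd_of_pow_eq_one hk')
    exact hp2 ((Nat.prime_dvd_prime_iff_eq Nat.prime_two hp.out).1 (Nat.prime_two.dvd_of_dvd_pow h3)).symm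
  refine ⟨h1, ?_⟩
  rw [← Sylow.card_eq_multiplicity (P.subtype h1), Sylow.coe_subtype]
  exact (Nat.card_congr (subgroupOfEquivOfLe h1).toEquiv).symm

theorem abelian_of_card_prime {p : ℕ} [hp : Fact p.Prime] (P : Sylow p X) (h : Nat.card P = p) :
    ∀ a ∈ P, ∀ b ∈ P, a * b = b * a := by
  intro a ha b hb
  haveI : IsCyclic P := isCyclic_of_prime_card h
  have h1 := (IsCyclic.commGroup (α := P)).mul_comm ⟨a, ha⟩ ⟨b, hb⟩
  exact congrArg Subtype.val h1

theorem abelian_of_card_sq {p : ℕ} [hp : Fact p.Prime] (P : Sylow p X) (h : Nat.card P = p ^ 2) :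
    ∀ a ∈ P, ∀ b ∈ P, a * b = b * a := by
  intro a ha b hb
  have h1 := IsPGroup.isMulCommutative_of_card_eq_prime_sq (G := P) h
  exact congrArg Subtype.val (h1.is_comm.comm (⟨a, ha⟩ : P) ⟨b, hb⟩)

theorem eq_top_of_card (L : Subgroup X) {n a b : ℕ} (h1 : n * a = Nat.card L) (h2 : n * b = Nat.card X)
    (h3 : a = b) : L = ⊤ := by
  apply Subgroup.eq_top_of_card_eq
  rw [← h1, ← h2, h3]

theorem factorization_eq {n p k m : ℕ} (hp : p.Prime) (h : n = p ^ k * m) (hm : ¬ p ∣ m) : n.factorization p = k := by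
  have hm0 : m ≠ 0 := by rintro rfl; exact hm (dvd_zero p)
  rw [h, Nat.factorization_mul (pow_ne_zero _ hp.pos.ne') hm0, Finsupp.add_apply, hp.factorization_pow,
    Finsupp.single_eq_same, Nat.factorization_eq_zero_of_not_dvd hm, add_zero]

/-- `L` of order 168 or 60 is everything -/
theorem EPPO.top_small (h : EPPO X) (L : Subgroup X) [hL : L.Normal] (hq : IsPGroup 2 (X ⧸ L))
    (hc : Nat.card L = 168 ∨ Nat.card L = 60) : L = ⊤ := by
  haveI : Fact (Nat.Prime 3) := ⟨Nat.prime_three⟩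
  obtain ⟨P⟩ : Nonempty (Sylow 3 X) := inferInstance
  obtain ⟨hPL, hPc⟩ := sylow_le (by norm_num) L hq P
  have hf : (Nat.card L).factorization 3 = 1 := by
    rcases hc with hc | hc
    · exact factorization_eq (m := 56) Nat.prime_three (by rw [hc]; norm_num) (by norm_num)
    · exact factorization_eq (m := 20) Nat.prime_three (by rw [hc]; norm_num) (by norm_num)
  rw [hf] at hPc
  obtain ⟨n, a, b, h1, h2, h3, h4, h5, h6, -⟩ := h.count P (abelian_of_card_prime P (by rw [hPc, pow_one]))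
    hPc one_ne_zero L hPL
  apply eq_top_of_card L h1 h6
  have hb : 0 < b := by
    rcases Nat.eq_zero_or_pos b with rfl | hb
    · rw [mul_zero] at h6
      exact absurd h6.symm Nat.card_pos.ne'
    · exact hb
  have h7 := Nat.le_of_dvd hb h5
  norm_num at h2 h4
  have h3' : n % 3 = 1 := h3
  obtain ⟨c, rfl⟩ := h2
  have hc0 : c ≠ 0 := by
    rintro rfl
    rw [mul_zero] at h1
    rw [mul_zero, zero_dvd_iff] at h5
    omega
  have hc1 : c = 1 ∨ c = 2 := by omega
  rcases hc1 with rfl | rfl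
  · exfalso
    rcases hc with hc | hc <;> rw [hc] at h1 <;> omega
  · omega

theorem EPPO.top_psl34 (h : EPPO X) (L : Subgroup X) [hL : L.Normal] (hq : IsPGroup 2 (X ⧸ L))
    (hc : Nat.card L = 20160) : L = ⊤ := by
  haveI : Fact (Nat.Prime 3) := ⟨Nat.prime_three⟩
  obtain ⟨P⟩ : Nonempty (Sylow 3 X) := inferInstance
  obtain ⟨hPL, hPc⟩ := sylow_le (by norm_num) L hq P
  have hf : (Nat.card L).factorization 3 = 2 :=
    factorization_eq (m := 2240) Nat.prime_three (by rw [hc]; norm_num) (by norm_num)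
  rw [hf] at hPc
  obtain ⟨n, a, b, h1, h2, h3, h4, h5, h6, -⟩ := h.count P (abelian_of_card_sq P hPc)
    hPc two_ne_zero L hPL
  apply eq_top_of_card L h1 h6
  have hb : 0 < b := by
    rcases Nat.eq_zero_or_pos b with rfl | hb
    · rw [mul_zero] at h6
      exact absurd h6.symm Nat.card_pos.ne'
    · exact hb
  have h7 := Nat.le_of_dvd hb h5
  norm_num at h2 h4
  have h3' : n % 9 = 1 := h3
  obtain ⟨c, rfl⟩ := h2
  rw [hc] at h1
  have hc1 : c ≤ 8 := by omega
  interval_cases c <;> omega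

/-- in the groups of order 168 and 20160 the normalizer of a Sylow 7-subgroup has order divisible by 21 -/
theorem EPPO.seven (h : EPPO X) (hc : Nat.card X = 168 ∨ Nat.card X = 20160) :
    ∃ P N : Subgroup X, P ≤ N ∧ N ≤ normalizer (P : Set X) ∧ 7 ∣ Nat.card P ∧ 3 ∣ P.relIndex N := by
  haveI : Fact (Nat.Prime 7) := ⟨by norm_num⟩
  obtain ⟨P⟩ : Nonempty (Sylow 7 X) := inferInstance
  have hf : (Nat.card X).factorization 7 = 1 := by
    rcases hc with hc | hc
    · exact factorization_eq (m := 24) (by norm_num) (by rw [hc]; norm_num) (by norm_num)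
    · exact factorization_eq (m := 2880) (by norm_num) (by rw [hc]; norm_num) (by norm_num)
  have hPc : Nat.card P = 7 ^ 1 := by rw [Sylow.card_eq_multiplicity P, hf]
  obtain ⟨n, a, b, h1, h2, h3, h4, h5, h6, hn, hbN, -⟩ := h.count P (abelian_of_card_prime P (by rw [hPc, pow_one]))
    hPc one_ne_zero ⊤ le_top
  refine ⟨P, normalizer ((P : Subgroup X) : Set X), le_normalizer, le_rfl, by rw [hPc, pow_one], ?_⟩
  rw [Subgroup.card_top] at h1
  have hb : 0 < b := by
    rcases Nat.eq_zero_or_pos b with rfl | hb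
    · rw [mul_zero] at h6
      exact absurd h6.symm Nat.card_pos.ne'
    · exact hb
  have h7 := Nat.le_of_dvd hb h5
  norm_num at h2 h4
  have h3' : n % 7 = 1 := h3
  have hn0 : 0 < n := by
    rcases Nat.eq_zero_or_pos n with rfl | hb
    · rw [zero_mul] at h6
      exact absurd h6.symm Nat.card_pos.ne'
    · exact hb
  have hab : a = b := Nat.eq_of_mul_eq_mul_left hn0 (h1.trans h6.symm)
  subst hab
  obtain ⟨c, rfl⟩ := h2
  have hc3 : c = 3 := by
    have hc1 : c ≤ 6 := by omega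
    rcases hc with hc | hc <;> rw [hc] at h1 <;> interval_cases c <;> omega
  have h8 : Nat.card P * (P : Subgroup X).relIndex (normalizer ((P : Subgroup X) : Set X)) =
      Nat.card (normalizer ((P : Subgroup X) : Set X)) := by
    rw [← Nat.card_congr (subgroupOfEquivOfLe (le_normalizer (H := (P : Subgroup X)))).toEquiv]
    exact card_mul_index _
  rw [← hbN, hPc, hc3] at h8
  omega

end General

section Main

variable {G : Type u} [Group G] [Finite G]

theorem EPPO.dat (hCT : CT.{u}) (hFT : OS.{u}) (h : EPPO G) (hns : ¬ Group.IsSolvable G) :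
    ∃ L : Subgroup (G ⧸ pCore 2 G), Dat G L ∧ EppoList L ∧ EPPO L := by
  obtain ⟨L, hD⟩ := h.cit.main hCT hFT hns
  haveI := hD.simple
  have h1 : EPPO L := (h.quot _).subgroup L
  exact ⟨L, hD, hD.list.eppo h1 hD.comm, h1⟩

theorem equiv_of {L : Subgroup (G ⧸ pCore 2 G)} (hL : L = ⊤) : Nonempty (G ⧸ pCore 2 G ≃* L) := by
  subst hL
  exact ⟨Subgroup.topEquiv.symm⟩

theorem equiv_of' (hQ : pCore 2 G = ⊥) : Nonempty (G ≃* G ⧸ pCore 2 G) :=
  ⟨(QuotientGroup.quotientBot (G := G)).symm.trans (QuotientGroup.quotientMulEquivOfEq hQ.symm)⟩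

theorem two_dvd_pCore (hQ : pCore 2 G ≠ ⊥) : 2 ∣ Nat.card (pCore 2 G) := by
  haveI : Fact (Nat.Prime 2) := ⟨Nat.prime_two⟩
  haveI : Nontrivial (pCore 2 G) := (nontrivial_iff_ne_bot _).2 hQ
  obtain ⟨n, hn, hn1⟩ := (pCore_two (G := G)).nontrivial_iff_card.1 inferInstance
  rw [hn1]; exact dvd_pow_self 2 (by omega)

/-- the 7:3 argument -/
theorem EPPO.core_bot (h : EPPO G) (hc : Nat.card (G ⧸ pCore 2 G) = 168 ∨ Nat.card (G ⧸ pCore 2 G) = 20160) :
    pCore 2 G = ⊥ := by
  by_contra hQ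
  obtain ⟨P, N, h1, h2, h3, h4⟩ := (h.quot (pCore 2 G)).seven hc
  exact h.no_frob (pCore 2 G) P N h1 h2 Nat.prime_two (by norm_num : Nat.Prime 7) Nat.prime_three (by norm_num)
    (by norm_num) (by norm_num) (two_dvd_pCore hQ) h3 h4

theorem card_eq_of_top {L : Subgroup (G ⧸ pCore 2 G)} (hL : L = ⊤) : Nat.card (G ⧸ pCore 2 G) = Nat.card L := by
  rw [hL, Subgroup.card_top]

end Main

section Cards

theorem card_psl2_four {F : Type*} [Field F] [Fintype F] (h : Fintype.card F = 4) :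
    Nat.card (Matrix.ProjectiveSpecialLinearGroup (Fin 2) F) = 60 := by
  rw [H14.SubField.card_PSL2_even (by rw [h]; decide), h]

theorem card_psl2_eight {F : Type*} [Field F] [Fintype F] (h : Fintype.card F = 8) :
    Nat.card (Matrix.ProjectiveSpecialLinearGroup (Fin 2) F) = 504 := by
  rw [H14.SubField.card_PSL2_even (by rw [h]; decide), h]

theorem card_psl2_seven {F : Type*} [Field F] [Fintype F] (h : Fintype.card F = 7) :
    Nat.card (Matrix.ProjectiveSpecialLinearGroup (Fin 2) F) = 168 := by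
  have h3 := H14.SubField.card_PSL2_odd (F := F) (by rw [h]; decide)
  rw [h] at h3
  omega

theorem card_psl2_17 {F : Type*} [Field F] [Fintype F] (h : Fintype.card F = 17) :
    Nat.card (Matrix.ProjectiveSpecialLinearGroup (Fin 2) F) = 2448 := by
  have h3 := H14.SubField.card_PSL2_odd (F := F) (by rw [h]; decide)
  rw [h] at h3
  omega

theorem card_psl3_four {F : Type*} [Field F] [Fintype F] (h : Fintype.card F = 4) :
    Nat.card (Matrix.ProjectiveSpecialLinearGroup (Fin 3) F) = 20160 := by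
  have h := S0243.result h 3 (by norm_num)
  rw [Fin.prod_univ_three] at h
  have e : (4 ^ 3 - 4 ^ ((0 : Fin 3) : ℕ)) * (4 ^ 3 - 4 ^ ((1 : Fin 3) : ℕ)) * (4 ^ 3 - 4 ^ ((2 : Fin 3) : ℕ)) = 181440 := by
    decide
  rw [e] at h
  have e2 : Nat.gcd 3 (4 - 1) = 3 := by decide
  rw [e2] at h
  omega

theorem card_sz_eight {F : Type*} [Field F] [Fintype F] (h : Fintype.card F = 8) :
    Nat.card (Cfsg.Lie.Sz F 4) = 29120 := by
  obtain ⟨e⟩ := Cfsg.Agent.Suz.nonempty_lieEquiv (F := F) (m := 1) le_rfl (by rw [h]; norm_num)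
  have h1 := Nat.card_congr e.toEquiv
  have h2 := sz_card (F := F) (m := 1) le_rfl (by rw [h]; norm_num)
  rw [h2] at h1
  norm_num at h1
  exact h1.symm

theorem card_sz_32 {F : Type*} [Field F] [Fintype F] (h : Fintype.card F = 32) :
    Nat.card (Cfsg.Lie.Sz F 8) = 32537600 := by
  obtain ⟨e⟩ := Cfsg.Agent.Suz.nonempty_lieEquiv (F := F) (m := 2) (by norm_num) (by rw [h]; norm_num)
  have h1 := Nat.card_congr e.toEquiv
  have h2 := sz_card (F := F) (m := 2) (by norm_num) (by rw [h]; norm_num)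
  rw [h2] at h1
  norm_num at h1
  exact h1.symm

end Cards

end Cfsg.Agent.JY
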