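import Mathlib
import Cfsg.Agent.JY.EppoGrp

/-! Groups with elements of prime power order: at most four primes; `PSL₂(7)`. -/

set_option autoImplicit false
set_option linter.unusedSectionVars false
set_option linter.style.haveILetI false

namespace Cfsg.Agent.JY

open Subgroup Cfsg

universe u

variable {G : Type u} [Group G] [Finite G]

theorem card_le_of_subset {n : ℕ} (_hn : n ≠ 0) (s : Finset ℕ) (h : ∀ r : ℕ, r.Prime → r ∣ n → r ∈ s) :
    n.primeFactors.card ≤ s.card := by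
  apply Finset.card_le_card
  intro r hr
  exact h r (Nat.prime_of_mem_primeFactors hr) (Nat.dvd_of_mem_primeFactors hr)

theorem dvd3 {p q r a b c : ℕ} (hp : p.Prime) (hq : q.Prime) (hr : r.Prime) :
    (p ^ a * q ^ b * r ^ c).primeFactors.card ≤ 3 := by
  refine (card_le_of_subset ?_ {p, q, r} ?_).trans Finset.card_le_three
  · have := hp.pos; have := hq.pos; have := hr.pos; positivity
  · intro s hs hd
    have key : ∀ t k : ℕ, t.Prime → s ∣ t ^ k → s = t := fun t k ht h =>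
      (Nat.prime_dvd_prime_iff_eq hs ht).1 (hs.dvd_of_dvd_pow h)
    simp only [Finset.mem_insert, Finset.mem_singleton]
    rcases (Nat.Prime.dvd_mul hs).1 hd with hd | hd
    · rcases (Nat.Prime.dvd_mul hs).1 hd with hd | hd
      · exact Or.inl (key _ _ hp hd)
      · exact Or.inr (Or.inl (key _ _ hq hd))
    · exact Or.inr (Or.inr (key _ _ hr hd))

theorem dvd4 {p q r l a b c d : ℕ} (hp : p.Prime) (hq : q.Prime) (hr : r.Prime) (hl : l.Prime) :
    (p ^ a * q ^ b * r ^ c * l ^ d).primeFactors.card ≤ 4 := by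
  refine (card_le_of_subset ?_ {p, q, r, l} ?_).trans Finset.card_le_four
  · have := hp.pos; have := hq.pos; have := hr.pos; have := hl.pos; positivity
  · intro s hs hd
    have key : ∀ t k : ℕ, t.Prime → s ∣ t ^ k → s = t := fun t k ht h =>
      (Nat.prime_dvd_prime_iff_eq hs ht).1 (hs.dvd_of_dvd_pow h)
    simp only [Finset.mem_insert, Finset.mem_singleton]
    rcases (Nat.Prime.dvd_mul hs).1 hd with hd | hd
    · rcases (Nat.Prime.dvd_mul hs).1 hd with hd | hd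
      · rcases (Nat.Prime.dvd_mul hs).1 hd with hd | hd
        · exact Or.inl (key _ _ hp hd)
        · exact Or.inr (Or.inl (key _ _ hq hd))
      · exact Or.inr (Or.inr (Or.inl (key _ _ hr hd)))
    · exact Or.inr (Or.inr (Or.inr (key _ _ hl hd)))

/-- orders of the groups in the list -/
theorem EppoList.card_cases {L : Type*} [Group L] (h : EppoList L) :
    (Nonempty (L ≃* alternatingGroup (Fin 6)) ∧ Nat.card L = 360) ∨
    (∃ (F : Type) (_ : Field F) (_ : Fintype F), Fintype.card F = 4 ∧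
      Nonempty (L ≃* Matrix.ProjectiveSpecialLinearGroup (Fin 2) F) ∧ Nat.card L = 60) ∨
    (∃ (F : Type) (_ : Field F) (_ : Fintype F), Fintype.card F = 7 ∧
      Nonempty (L ≃* Matrix.ProjectiveSpecialLinearGroup (Fin 2) F) ∧ Nat.card L = 168) ∨
    (∃ (F : Type) (_ : Field F) (_ : Fintype F), Fintype.card F = 8 ∧
      Nonempty (L ≃* Matrix.ProjectiveSpecialLinearGroup (Fin 2) F) ∧ Nat.card L = 504) ∨
    (∃ (F : Type) (_ : Field F) (_ : Fintype F), Fintype.card F = 17 ∧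
      Nonempty (L ≃* Matrix.ProjectiveSpecialLinearGroup (Fin 2) F) ∧ Nat.card L = 2448) ∨
    (∃ (F : Type) (_ : Field F) (_ : Fintype F), Fintype.card F = 4 ∧
      Nonempty (L ≃* Matrix.ProjectiveSpecialLinearGroup (Fin 3) F) ∧ Nat.card L = 20160) ∨
    (∃ (F : Type) (_ : Field F) (_ : Fintype F), Fintype.card F = 8 ∧
      Nonempty (L ≃* ↥(Cfsg.Lie.Sz F 4)) ∧ Nat.card L = 29120) ∨
    (∃ (F : Type) (_ : Field F) (_ : Fintype F), Fintype.card F = 32 ∧
      Nonempty (L ≃* ↥(Cfsg.Lie.Sz F 8)) ∧ Nat.card L = 32537600) := by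
  rcases h with ⟨⟨e⟩⟩ | ⟨F, i1, i2, hF, ⟨e⟩⟩ | ⟨F, i1, i2, hF, ⟨e⟩⟩ | ⟨F, i1, i2, ⟨hF, ⟨e⟩⟩ | ⟨hF, ⟨e⟩⟩⟩
  · left
    refine ⟨⟨e⟩, ?_⟩
    rw [Nat.card_congr e.toEquiv]
    have h1 := two_mul_nat_card_alternatingGroup (α := Fin 6)
    have h3 : Nat.card (Fin 6) = 6 := by rw [Nat.card_eq_fintype_card, Fintype.card_fin]
    have h2 : Nat.factorial 6 = 720 := by decide
    rw [Nat.card_perm, h3, h2] at h1
    omega
  · simp only [Finset.mem_insert, Finset.mem_singleton] at hF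
    have hc := Nat.card_congr e.toEquiv
    rcases hF with hF | hF | hF | hF
    · exact Or.inr (Or.inl ⟨F, i1, i2, hF, ⟨e⟩, hc.trans (card_psl2_four hF)⟩)
    · exact Or.inr (Or.inr (Or.inl ⟨F, i1, i2, hF, ⟨e⟩, hc.trans (card_psl2_seven hF)⟩))
    · exact Or.inr (Or.inr (Or.inr (Or.inl ⟨F, i1, i2, hF, ⟨e⟩, hc.trans (card_psl2_eight hF)⟩)))
    · exact Or.inr (Or.inr (Or.inr (Or.inr (Or.inl ⟨F, i1, i2, hF, ⟨e⟩, hc.trans (card_psl2_17 hF)⟩))))
  · exact Or.inr (Or.inr (Or.inr (Or.inr (Or.inr (Or.inl ⟨F, i1, i2, hF, ⟨e⟩,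
      (Nat.card_congr e.toEquiv).trans (card_psl3_four hF)⟩)))))
  · exact Or.inr (Or.inr (Or.inr (Or.inr (Or.inr (Or.inr (Or.inl ⟨F, i1, i2, hF, ⟨e⟩,
      (Nat.card_congr e.toEquiv).trans (card_sz_eight hF)⟩))))))
  · exact Or.inr (Or.inr (Or.inr (Or.inr (Or.inr (Or.inr (Or.inr ⟨F, i1, i2, hF, ⟨e⟩,
      (Nat.card_congr e.toEquiv).trans (card_sz_32 hF)⟩))))))

theorem EppoList.pf {L : Type*} [Group L] (h : EppoList L) :
    (Nat.card L).primeFactors.card ≤ 4 ∧ ((Nat.card L).primeFactors.card = 4 →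
      (∃ (F : Type) (_ : Field F) (_ : Fintype F), Fintype.card F = 4 ∧
        Nonempty (L ≃* Matrix.ProjectiveSpecialLinearGroup (Fin 3) F) ∧ Nat.card L = 20160) ∨
      (∃ (F : Type) (_ : Field F) (_ : Fintype F), Fintype.card F = 8 ∧
        Nonempty (L ≃* ↥(Cfsg.Lie.Sz F 4))) ∨
      (∃ (F : Type) (_ : Field F) (_ : Fintype F), Fintype.card F = 32 ∧
        Nonempty (L ≃* ↥(Cfsg.Lie.Sz F 8)))) := by
  rcases h.card_cases with ⟨-, h1⟩ | ⟨-, -, -, -, -, h1⟩ | ⟨-, -, -, -, -, h1⟩ | ⟨-, -, -, -, -, h1⟩ |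
    ⟨-, -, -, -, -, h1⟩ | h1 | h1 | h1
  · have h2 := dvd3 (a := 3) (b := 2) (c := 1) Nat.prime_two Nat.prime_three Nat.prime_five
    norm_num at h2
    rw [h1]; constructor <;> omega
  · have h2 := dvd3 (a := 2) (b := 1) (c := 1) Nat.prime_two Nat.prime_three Nat.prime_five
    norm_num at h2
    rw [h1]; constructor <;> omega
  · have h2 := dvd3 (a := 3) (b := 1) (c := 1) Nat.prime_two Nat.prime_three (by norm_num : Nat.Prime 7)
    norm_num at h2
    rw [h1]; constructor <;> omega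
  · have h2 := dvd3 (a := 3) (b := 2) (c := 1) Nat.prime_two Nat.prime_three (by norm_num : Nat.Prime 7)
    norm_num at h2
    rw [h1]; constructor <;> omega
  · have h2 := dvd3 (a := 4) (b := 2) (c := 1) Nat.prime_two Nat.prime_three (by norm_num : Nat.Prime 17)
    norm_num at h2
    rw [h1]; constructor <;> omega
  · obtain ⟨F, i1, i2, hF, he, h1⟩ := h1
    have h2 := dvd4 (a := 6) (b := 2) (c := 1) (d := 1) Nat.prime_two Nat.prime_three Nat.prime_five (by norm_num : Nat.Prime 7)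
    norm_num at h2
    exact ⟨by rw [h1]; exact h2, fun _ => Or.inl ⟨F, i1, i2, hF, he, h1⟩⟩
  · obtain ⟨F, i1, i2, hF, he, h1⟩ := h1
    have h2 := dvd4 (a := 6) (b := 1) (c := 1) (d := 1) Nat.prime_two Nat.prime_five (by norm_num : Nat.Prime 7)
      (by norm_num : Nat.Prime 13)
    norm_num at h2
    exact ⟨by rw [h1]; exact h2, fun _ => Or.inr (Or.inl ⟨F, i1, i2, hF, he⟩)⟩
  · obtain ⟨F, i1, i2, hF, he, h1⟩ := h1
    have h2 := dvd4 (a := 10) (b := 2) (c := 1) (d := 1) Nat.prime_two Nat.prime_five (by norm_num : Nat.Prime 31)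
      (by norm_num : Nat.Prime 41)
    norm_num at h2
    exact ⟨by rw [h1]; exact h2, fun _ => Or.inr (Or.inr ⟨F, i1, i2, hF, he⟩)⟩

theorem out_odd {F : Type*} [Field F] [Fintype F] {m : ℕ} (hm : 1 ≤ m) (hF : Fintype.card F = 2 ^ (2 * m + 1))
    {L : Type*} [Group L] (e : L ≃* Cfsg.Lie.Sz F (2 ^ (m + 1))) : Odd (Nat.card (Cfsg.Out L)) := by
  rw [Suz.card_out_congr e, S2126.result hm hF]
  exact ⟨m, rfl⟩

theorem four_primes (hCT : CT.{u}) (hFT : OS.{u}) (h : EPPO G) :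
    (Nat.card G).primeFactors.card ≤ 4 ∧
    ((Nat.card G).primeFactors.card = 4 →
      (∃ (F : Type) (_ : Field F) (_ : Fintype F), Fintype.card F = 4 ∧
        Nonempty (G ≃* Matrix.ProjectiveSpecialLinearGroup (Fin 3) F)) ∨
      (∃ (N : Subgroup G) (_ : N.Normal), IsPGroup 2 ↥N ∧
        ∃ (F : Type) (_ : Field F) (_ : Fintype F),
          (Fintype.card F = 8 ∧ Nonempty (G ⧸ N ≃* ↥(Cfsg.Lie.Sz F 4))) ∨
          (Fintype.card F = 32 ∧ Nonempty (G ⧸ N ≃* ↥(Cfsg.Lie.Sz F 8))))) := by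
  by_cases hs : Group.IsSolvable G
  · have h1 := S1475.result (G := G) (fun g => by
      by_cases hg : g = 1
      · exact Or.inr hg
      · exact Or.inl (h g hg))
    exact ⟨by omega, fun h2 => by omega⟩
  obtain ⟨L, hD, hL, hLE⟩ := h.dat hCT hFT hs
  haveI := hD.normal
  rw [← hD.primeFactors hFT]
  refine ⟨hL.pf.1, fun h4 => ?_⟩
  rcases hL.pf.2 h4 with ⟨F, i1, i2, hF, ⟨e⟩, hc⟩ | ⟨F, i1, i2, hF, ⟨e⟩⟩ | ⟨F, i1, i2, hF, ⟨e⟩⟩
  · left
    have ht := (h.quot (pCore 2 G)).top_psl34 L hD.quot hc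
    have h5 := h.core_bot (Or.inr ((card_eq_of_top ht).trans hc))
    obtain ⟨f⟩ := equiv_of ht
    obtain ⟨g⟩ := equiv_of' h5
    exact ⟨F, i1, i2, hF, ⟨(g.trans f).trans e⟩⟩
  · right
    have ht := eq_top_of_out_odd L hD.centr hD.quot (out_odd (m := 1) le_rfl (by rw [hF]; norm_num) e)
    obtain ⟨f⟩ := equiv_of ht
    exact ⟨pCore 2 G, inferInstance, pCore_two, F, i1, i2, Or.inl ⟨hF, ⟨f.trans e⟩⟩⟩
  · right
    have ht := eq_top_of_out_odd L hD.centr hD.quot (out_odd (m := 2) (by norm_num) (by rw [hF]; norm_num) e)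
    obtain ⟨f⟩ := equiv_of ht
    exact ⟨pCore 2 G, inferInstance, pCore_two, F, i1, i2, Or.inr ⟨hF, ⟨f.trans e⟩⟩⟩

/-- the group `PSL₂(7)` -/
theorem psl27 (hCT : CT.{u}) (hFT : OS.{u}) {F : Type*} [Field F] [Fintype F] (hF : Fintype.card F = 7)
    (h3 : 3 ≤ (Nat.card G).primeFactors.card)
    (hord : ∀ g : G, g ≠ 1 → (∃ k : ℕ, orderOf g = 2 ^ k) ∨ ((orderOf g).Prime ∧ orderOf g ≠ 5)) :
    Nonempty (G ≃* Matrix.ProjectiveSpecialLinearGroup (Fin 2) F) := by
  have h : EPPO G := by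
    intro g hg
    rcases hord g hg with ⟨k, hk⟩ | ⟨hk, -⟩
    · refine ⟨2, k, Nat.prime_two.prime, ?_, hk.symm⟩
      rcases Nat.eq_zero_or_pos k with rfl | hk0
      · rw [pow_zero, orderOf_eq_one_iff] at hk
        exact absurd hk hg
      · exact hk0
    · exact hk.isPrimePow
  obtain ⟨L, hD, hL, hLE⟩ := h.dat hCT hFT (h.not_solvable h3)
  haveI := hD.normal
  have hbad : ∀ n : ℕ, ¬ 2 ∣ n → n ≠ 1 → (¬ n.Prime ∨ n = 5) → ¬ ∃ x : L, orderOf x = n := by
    intro n h2 h1 h5 hx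
    obtain ⟨y, rfl⟩ := (hD.odd_iff h2).1 hx
    have hy : y ≠ 1 := by rintro rfl; exact h1 orderOf_one
    rcases hord y hy with ⟨k, hk⟩ | ⟨hk, hk5⟩
    · rcases Nat.eq_zero_or_pos k with rfl | hk0
      · exact h1 (by rw [hk, pow_zero])
      · exact h2 (by rw [hk]; exact dvd_pow_self 2 hk0.ne')
    · rcases h5 with h5 | h5
      · exact h5 hk
      · exact hk5 h5
  have h5 : ¬ 5 ∣ Nat.card L := by
    intro h5
    exact hbad 5 (by norm_num) (by norm_num) (Or.inr rfl) ((prime_dvd_iff Nat.prime_five).1 h5)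
  have h9 : ∀ (K : Type) (_ : Field K) (_ : Fintype K), (Fintype.card K = 8 ∨ Fintype.card K = 17) →
      Nonempty (L ≃* Matrix.ProjectiveSpecialLinearGroup (Fin 2) K) → False := by
    rintro K i1 i2 hK ⟨e⟩
    apply hbad 9 (by norm_num) (by norm_num) (Or.inl (by norm_num))
    obtain ⟨p, hp⟩ := CharP.exists K
    haveI : Fact p.Prime := ⟨(CharP.char_is_prime_or_zero K p).resolve_right (CharP.char_ne_zero_of_finite K p)⟩
    have hspec := S2475.result (F := K) p (by omega)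
    have : (9 : ℕ) ∈ Set.range (orderOf : Matrix.ProjectiveSpecialLinearGroup (Fin 2) K → ℕ) := by
      rw [hspec]
      right; right
      rcases hK with hK | hK <;> rw [hK] <;> decide
    obtain ⟨x, hx⟩ := this
    exact ⟨e.symm x, by rw [MulEquiv.orderOf_eq, hx]⟩
  rcases hL.card_cases with ⟨-, h1⟩ | ⟨-, -, -, -, -, h1⟩ | ⟨K, i1, i2, hK, ⟨e⟩, hc⟩ | ⟨K, i1, i2, hK, he, -⟩ |
    ⟨K, i1, i2, hK, he, -⟩ | ⟨-, -, -, -, -, h1⟩ | ⟨-, -, -, -, -, h1⟩ | ⟨-, -, -, -, -, h1⟩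
  · rw [h1] at h5; norm_num at h5
  · rw [h1] at h5; norm_num at h5
  · have ht := (h.quot (pCore 2 G)).top_small L hD.quot (Or.inl hc)
    have h6 := h.core_bot (Or.inl ((card_eq_of_top ht).trans hc))
    obtain ⟨f⟩ := equiv_of ht
    obtain ⟨g⟩ := equiv_of' h6
    have h7 : Fintype.card K = Fintype.card F := by rw [hK, hF]
    have r := FiniteField.ringEquivOfCardEq h7
    exact ⟨((g.trans f).trans e).trans (ClassBase.pslCongr r)⟩
  · exact (h9 K i1 i2 (Or.inl hK) he).elim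
  · exact (h9 K i1 i2 (Or.inr hK) he).elim
  · rw [h1] at h5; norm_num at h5
  · rw [h1] at h5; norm_num at h5
  · rw [h1] at h5; norm_num at h5

end Cfsg.Agent.JY
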