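import Mathlib
import Cfsg.Agent.JY.EppoMain
import Cfsg.Agent.S2904

/-! Groups with the prime graph of a simple CIT group. -/

set_option autoImplicit false
set_option linter.unusedSectionVars false
set_option linter.style.haveILetI false

namespace Cfsg.Agent.JY

open Subgroup Cfsg

universe u

/-- the same prime graph -/
def SameGraph (S G : Type*) [Group S] [Group G] : Prop :=
  (∀ r : ℕ, r.Prime → (r ∣ Nat.card S ↔ r ∣ Nat.card G)) ∧
      (∀ r s : ℕ, r.Prime → s.Prime → r ≠ s → ((∃ x : S, orderOf x = r * s) ↔ (∃ y : G, orderOf y = r * s)))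

/-- `2` is isolated -/
def NoTwo (S : Type*) [Group S] : Prop := ∀ r : ℕ, r.Prime → r ≠ 2 → ¬ ∃ x : S, orderOf x = 2 * r

theorem CIT.noTwo {S : Type*} [Group S] [Finite S] (h : CIT S) : NoTwo S := by
  rintro r hr hr2 ⟨x, hx⟩
  have h1 : orderOf (x ^ r) = 2 := by
    rw [orderOf_pow_of_dvd hr.pos.ne' (by rw [hx]; exact dvd_mul_left _ _), hx, Nat.mul_div_cancel _ hr.pos]
  have h2 : orderOf (x ^ 2) = r := by
    rw [orderOf_pow_of_dvd (by norm_num) (by rw [hx]; exact dvd_mul_right _ _), hx, Nat.mul_div_cancel_left _ (by norm_num)]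
  have h3 : x ^ r ≠ 1 := by
    intro e
    rw [e, orderOf_one] at h1
    omega
  exact h.not_comm h3 (k := 1) (by rw [pow_one, ← h1, pow_orderOf_eq_one]) hr hr2 h2 (Commute.pow_pow_self x r 2)

theorem NoTwo.cit {G : Type*} [Group G] [Finite G] (h : NoTwo G) : CIT G := by
  intro t ht
  by_contra hno
  obtain ⟨p, hp, hp2, x, hx⟩ : ∃ p : ℕ, p.Prime ∧ p ≠ 2 ∧ ∃ x : centralizer ({t} : Set G), orderOf x = p := by
    by_contra hno2
    push Not at hno2
    apply hno
    set C := centralizer ({t} : Set G) with hC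
    rw [IsPGroup.iff_card]
    refine ⟨(Nat.card C).factorization 2, ?_⟩
    have h0 : Nat.card C ≠ 0 := Nat.card_pos.ne'
    exact Nat.eq_prime_pow_of_unique_prime_dvd h0 (fun {d} hd hdC => by
      by_contra hd2
      haveI := Fact.mk hd
      obtain ⟨y, hy⟩ := exists_prime_orderOf_dvd_card' d hdC
      exact hno2 d hd hd2 y hy) |>.trans (by
        congr 1
        have := Nat.eq_prime_pow_of_unique_prime_dvd h0 (p := 2) (fun {d} hd hdC => by
          by_contra hd2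
          haveI := Fact.mk hd
          obtain ⟨y, hy⟩ := exists_prime_orderOf_dvd_card' d hdC
          exact hno2 d hd hd2 y hy)
        conv_rhs => rw [this, Nat.Prime.factorization_pow Nat.prime_two, Finsupp.single_eq_same])
  obtain ⟨z, hz⟩ := Cfsg.Agent.H60.exists_orderOf_mul (x := t) (y := (x : G)) (mem_centr.1 x.2) Nat.prime_two hp
    (Ne.symm hp2) (by rw [ht]) (by rw [Subgroup.orderOf_coe, hx]) (orderOf_pos _).ne' (orderOf_pos _).ne'
  exact h p hp hp2 ⟨z, hz⟩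

theorem SameGraph.cit {S G : Type*} [Group S] [Group G] [Finite G] (h : SameGraph S G)
    (hS : NoTwo S) : CIT G := by
  apply NoTwo.cit
  intro r hr hr2 hx
  exact hS r hr hr2 ((h.2 2 r Nat.prime_two hr (Ne.symm hr2)).2 hx)

theorem SameGraph.not_solvable {S G : Type*} [Group S] [Group G] [Finite G] (h : SameGraph S G)
    (hS : NoTwo S) (h2 : 2 ∣ Nat.card S) {r s : ℕ} (hr : r.Prime) (hs : s.Prime) (hr2 : r ≠ 2) (hs2 : s ≠ 2)
    (hrs : r ≠ s) (hrS : r ∣ Nat.card S) (hsS : s ∣ Nat.card S) (hno : ¬ ∃ x : S, orderOf x = r * s) :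
    ¬ Group.IsSolvable G := by
  have hno' : ¬ ∃ x : G, orderOf x = r * s := fun hx => hno ((h.2 r s hr hs hrs).2 hx)
  have hno2 : ∀ q : ℕ, q.Prime → q ≠ 2 → ¬ ∃ x : G, orderOf x = 2 * q := fun q hq hq2 hx =>
    hS q hq hq2 ((h.2 2 q Nat.prime_two hq (Ne.symm hq2)).2 hx)
  refine (S3633.result (G := G) {2, r, s} ?_ ⟨?_, ?_⟩ ⊥ inferInstance).2
  · rw [Finset.card_eq_three.2 ⟨2, r, s, Ne.symm hr2, Ne.symm hs2, hrs, rfl⟩]
  · intro q hq
    simp only [Finset.mem_insert, Finset.mem_singleton] at hq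
    rcases hq with rfl | rfl | rfl
    · exact ⟨Nat.prime_two, (h.1 2 Nat.prime_two).1 h2⟩
    · exact ⟨hr, (h.1 q hr).1 hrS⟩
    · exact ⟨hs, (h.1 q hs).1 hsS⟩
  · intro a ha b hb hab
    simp only [Finset.mem_insert, Finset.mem_singleton] at ha hb
    rcases ha with rfl | rfl | rfl <;> rcases hb with rfl | rfl | rfl
    · exact absurd rfl hab
    · exact hno2 b hr hr2
    · exact hno2 b hs hs2
    · rw [mul_comm]; exact hno2 a hr hr2
    · exact absurd rfl hab
    · exact hno'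
    · rw [mul_comm]; exact hno2 a hs hs2
    · rw [mul_comm]; exact hno'
    · exact absurd rfl hab

/-- Zsigmondy primes for the base 2 -/
theorem zs {n : ℕ} (hn : 2 ≤ n) (h6 : n ≠ 6) :
    ∃ r : ℕ, r.Prime ∧ r ≠ 2 ∧ n ∣ r - 1 ∧ ∀ k : ℕ, r ∣ 2 ^ k - 1 ↔ n ∣ k := by
  obtain ⟨r, hr, h1, h2⟩ := S2904.result 2 n (by norm_num) (by omega) (by rintro ⟨-, h⟩; exact h6 h) (by
    rintro ⟨-, m, hm⟩
    rcases m with _ | _ | m
    · norm_num at hm
    · norm_num at hm
    · rw [pow_add] at hm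
      omega)
  haveI := Fact.mk hr
  have key : ∀ k : ℕ, r ∣ 2 ^ k - 1 ↔ (2 : ZMod r) ^ k = 1 := by
    intro k
    rw [S2904.dvd_pow_sub_one_iff 2 k r (by norm_num)]
    push_cast
    rfl
  have hr2 : r ≠ 2 := by
    rintro rfl
    have := Nat.one_le_two_pow (n := n)
    obtain ⟨j, rfl⟩ := Nat.exists_eq_add_of_le' hn
    rw [pow_add] at h1 this
    omega
  have hord : orderOf (2 : ZMod r) = n := by
    have h3 : orderOf (2 : ZMod r) ∣ n := orderOf_dvd_of_pow_eq_one ((key n).1 h1)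
    have h4 : 0 < orderOf (2 : ZMod r) := Nat.pos_of_dvd_of_pos h3 (by omega)
    by_contra hne
    have h5 : orderOf (2 : ZMod r) < n := lt_of_le_of_ne (Nat.le_of_dvd (by omega) h3) hne
    exact h2 _ h4 h5 ((key _).2 (pow_orderOf_eq_one _))
  have hk : ∀ k : ℕ, r ∣ 2 ^ k - 1 ↔ n ∣ k := by
    intro k
    rw [key, ← orderOf_dvd_iff_pow_eq_one, hord]
  refine ⟨r, hr, hr2, ?_, hk⟩
  rw [← hk, key]
  apply ZMod.pow_card_sub_one_eq_one
  intro h0
  have : (2 : ZMod r) = ((2 : ℕ) : ZMod r) := by norm_num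
  rw [this, ZMod.natCast_eq_zero_iff] at h0
  exact hr2 ((Nat.prime_dvd_prime_iff_eq hr Nat.prime_two).1 h0)

end Cfsg.Agent.JY
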