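import Mathlib
import Cfsg.Agent.JY.Graph
import Cfsg.Agent.H68.SL2CA
import Cfsg.Agent.H68.SelfNormE

/-! No proper CIT overgroups of `PSL₂(2ⁿ)`, `n ≥ 3`. -/

set_option autoImplicit false
set_option linter.unusedSectionVars false
set_option linter.style.haveILetI false

namespace Cfsg.Agent.JY

open Subgroup Cfsg

theorem eq_top_even {X : Type*} [Group X] [Finite X] (hX : CIT X) (L : Subgroup X) [hL : L.Normal]
    (hq : IsPGroup 2 (X ⧸ L)) (hcls : ∀ s t : X, s ∈ L → t ∈ L → orderOf s = 2 → orderOf t = 2 →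
      ∃ g ∈ L, g * s * g⁻¹ = t) {t : X} (htL : t ∈ L) (hto : orderOf t = 2) {S : Subgroup X}
    (hS : ∀ x, x ∈ S ↔ x ∈ L ∧ t * x = x * t) (hab : ∀ a ∈ S, ∀ b ∈ S, a * b = b * a)
    (hexp : ∀ a ∈ S, a * a = 1) (hcard : 4 < Nat.card S) (hodd : ¬ 2 ∣ S.relIndex L) : L = ⊤ := by
  classical
  have hSL : S ≤ L := fun x hx => ((hS x).1 hx).1
  have ht1 : t ≠ 1 := by rintro rfl; rw [orderOf_one] at hto; omega
  by_contra hne
  -- an element of `C(t)` outside `L` with square in `L`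
  obtain ⟨τ, hτt, hτL, hτ2⟩ : ∃ τ : X, t * τ = τ * t ∧ τ ∉ L ∧ τ * τ ∈ L := by
    obtain ⟨x, hx⟩ : ∃ x : X, x ∉ L := by
      by_contra hcon
      push Not at hcon
      exact hne (eq_top_iff.2 (fun x _ => hcon x))
    obtain ⟨l, hl, hlt⟩ := hcls (x * t * x⁻¹) t (hL.conj_mem t htL x) htL (by
      rw [← hto]; exact orderOf_injective (MulAut.conj x).toMonoidHom (MulAut.conj x).injective t) hto
    set c := l * x with hc
    have hct : t * c = c * t := by
      nth_rw 1 [← hlt]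
      rw [hc]; group
    have hcL : c ∉ L := by
      intro h
      apply hx
      have : x = l⁻¹ * c := by rw [hc]; group
      rw [this]
      exact L.mul_mem (L.inv_mem hl) h
    obtain ⟨k, hk⟩ := hq (QuotientGroup.mk c)
    have hc1 : (QuotientGroup.mk c : X ⧸ L) ≠ 1 := by
      rw [Ne, QuotientGroup.eq_one_iff]; exact hcL
    obtain ⟨j, hj⟩ := exists_pow_inv hc1 hk
    refine ⟨c ^ j, (Commute.pow_right hct j), ?_, ?_⟩
    · intro h
      rw [← QuotientGroup.eq_one_iff, QuotientGroup.mk_pow] at h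
      rw [h, orderOf_one] at hj
      omega
    · rw [← QuotientGroup.eq_one_iff, ← pow_two, QuotientGroup.mk_pow, QuotientGroup.mk_pow, ← hj,
        pow_orderOf_eq_one]
  have hτS : ∀ s ∈ S, τ * s * τ⁻¹ ∈ S := by
    intro s hs
    obtain ⟨h1, h2⟩ := (hS s).1 hs
    refine (hS _).2 ⟨hL.conj_mem s h1 τ, ?_⟩
    calc t * (τ * s * τ⁻¹) = (t * τ) * s * τ⁻¹ := by group
      _ = τ * (t * s) * τ⁻¹ := by rw [hτt]; group
      _ = τ * s * (t * τ⁻¹) := by rw [h2]; group
      _ = τ * s * (τ⁻¹ * t) := by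
        have : t * τ⁻¹ = τ⁻¹ * t := (Commute.inv_right hτt)
        rw [this]
      _ = _ := by group
  have hττ : τ * τ ∈ S := (hS _).2 ⟨hτ2, by
    exact (Commute.mul_right hτt hτt)⟩
  -- many elements of `S` commute with `τ`
  let f : S →* S :=
    { toFun := fun s => ⟨s * (τ * s * τ⁻¹), S.mul_mem s.2 (hτS s s.2)⟩
      map_one' := by apply Subtype.ext; simp
      map_mul' := by
        intro a b
        apply Subtype.ext
        change (a : X) * b * (τ * ((a : X) * b) * τ⁻¹) = (a : X) * (τ * a * τ⁻¹) * (b * (τ * b * τ⁻¹))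
        calc (a : X) * b * (τ * ((a : X) * b) * τ⁻¹) = a * (b * (τ * a * τ⁻¹)) * (τ * b * τ⁻¹) := by group
          _ = a * ((τ * a * τ⁻¹) * b) * (τ * b * τ⁻¹) := by rw [hab b b.2 _ (hτS a a.2)]
          _ = _ := by group }
  let K : Subgroup S := (centralizer ({τ} : Set X)).subgroupOf S
  have hK : ∀ s : S, s ∈ K ↔ τ * (s : X) = s * τ := by
    intro s
    rw [mem_subgroupOf, mem_centr]
  have hker : f.ker ≤ K := by
    intro s hs
    rw [MonoidHom.mem_ker] at hs
    have h1 : (s : X) * (τ * s * τ⁻¹) = 1 := congrArg Subtype.val hs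
    rw [hK]
    have h2 : τ * (s : X) * τ⁻¹ = s := by
      calc τ * (s : X) * τ⁻¹ = ((s : X) * s) * (τ * s * τ⁻¹) := by rw [hexp s s.2, one_mul]
        _ = s * (s * (τ * s * τ⁻¹)) := by group
        _ = s := by rw [h1, mul_one]
    calc τ * (s : X) = (τ * s * τ⁻¹) * τ := by group
      _ = s * τ := by rw [h2]
  have hran : f.range ≤ K := by
    rintro _ ⟨s, rfl⟩
    rw [hK]
    change τ * ((s : X) * (τ * s * τ⁻¹)) = (s : X) * (τ * s * τ⁻¹) * τ
    calc τ * ((s : X) * (τ * s * τ⁻¹)) = (τ * s * τ⁻¹) * ((τ * τ) * s * (τ * τ)⁻¹) * τ := by group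
      _ = (τ * s * τ⁻¹) * (s * (τ * τ) * (τ * τ)⁻¹) * τ := by rw [hab _ hττ s s.2]
      _ = ((τ * s * τ⁻¹) * s) * τ := by group
      _ = _ := by rw [hab _ (hτS s s.2) s s.2]
  have hK3 : 2 < Nat.card K := by
    have h1 : Nat.card S = Nat.card f.ker * Nat.card f.range := by
      rw [← card_mul_index f.ker, index_ker]
    have h2 := Nat.le_of_dvd Nat.card_pos (Subgroup.card_dvd_of_le hker)
    have h3 := Nat.le_of_dvd Nat.card_pos (Subgroup.card_dvd_of_le hran)
    by_contra hcon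
    push Not at hcon
    have h4 : Nat.card f.ker * Nat.card f.range ≤ 2 * 2 := Nat.mul_le_mul (h2.trans hcon) (h3.trans hcon)
    omega
  obtain ⟨u, huK, hu1, hut⟩ : ∃ u : S, u ∈ K ∧ (u : X) ≠ 1 ∧ (u : X) ≠ t := by
    by_contra hcon
    push Not at hcon
    have htS : t ∈ S := (hS t).2 ⟨htL, rfl⟩
    have h1 : (K : Set S) ⊆ ({1, ⟨t, htS⟩} : Set S) := by
      intro u hu
      by_cases h : (u : X) = 1
      · left; exact Subtype.ext h
      · right; exact Subtype.ext (hcon u hu h)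
    have h2 := Set.ncard_le_ncard h1 (Set.toFinite _)
    have h3 : Set.ncard ({1, ⟨t, htS⟩} : Set S) ≤ 2 := Set.ncard_insert_le _ _ |>.trans (by simp)
    have h4 : (K : Set S).ncard = Nat.card K := rfl
    omega
  rw [hK] at huK
  set v : X := (u : X) with hv
  have hvS : v ∈ S := u.2
  have hvo : orderOf v = 2 := orderOf_eq_prime (by rw [pow_two]; exact hexp v hvS) hu1
  obtain ⟨g, hgL, hg⟩ := hcls t v htL (hSL hvS) hto hvo
  -- `S` is the centralizer of `v` in `L`
  have hCv : ∀ x, x ∈ S ↔ x ∈ L ∧ v * x = x * v := by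
    have h1 : S ≤ (L ⊓ centralizer ({v} : Set X)) := fun x hx => ⟨hSL hx, mem_centr.2 (hab v hvS x hx)⟩
    have h2 : L ⊓ centralizer ({v} : Set X) = S.map (MulAut.conj g).toMonoidHom := by
      ext x
      constructor
      · rintro ⟨hx, hxc⟩
        have hxc : v * x = x * v := mem_centr.1 hxc
        refine ⟨g⁻¹ * x * g, ?_, ?_⟩
        · refine (hS _).2 ⟨?_, ?_⟩
          · have := hL.conj_mem x hx g⁻¹
            rwa [inv_inv] at this
          · have h3 : t = g⁻¹ * v * g := by rw [← hg]; group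
            calc t * (g⁻¹ * x * g) = g⁻¹ * v * g * (g⁻¹ * x * g) := by rw [← h3]
              _ = g⁻¹ * (v * x) * g := by group
              _ = g⁻¹ * (x * v) * g := by rw [hxc]
              _ = (g⁻¹ * x * g) * (g⁻¹ * v * g) := by group
              _ = _ := by rw [← h3]
        · change (MulAut.conj g) (g⁻¹ * x * g) = x
          rw [MulAut.conj_apply]; group
      · rintro ⟨y, hy, rfl⟩
        obtain ⟨h3, h4⟩ := (hS y).1 hy
        change (MulAut.conj g) y ∈ _
        rw [MulAut.conj_apply]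
        refine ⟨hL.conj_mem y h3 g, ?_⟩
        change _ ∈ centralizer ({v} : Set X)
        rw [mem_centr, ← hg]
        calc g * t * g⁻¹ * (g * y * g⁻¹) = g * (t * y) * g⁻¹ := by group
          _ = g * (y * t) * g⁻¹ := by rw [h4]
          _ = _ := by group
    have h3 : S = L ⊓ centralizer ({v} : Set X) := by
      apply Subgroup.eq_of_le_of_card_ge h1
      rw [h2, Subgroup.card_map_of_injective (MulAut.conj g).injective]
    intro x
    nth_rw 1 [h3]
    rw [mem_inf, mem_centr]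
  have hgS : ∀ s ∈ S, g * s * g⁻¹ ∈ S := by
    intro s hs
    obtain ⟨h1, h2⟩ := (hS s).1 hs
    refine (hCv _).2 ⟨hL.conj_mem s h1 g, ?_⟩
    rw [← hg]
    calc g * t * g⁻¹ * (g * s * g⁻¹) = g * (t * s) * g⁻¹ := by group
      _ = g * (s * t) * g⁻¹ := by rw [h2]
      _ = _ := by group
  have hgnS : g ∉ S := by
    intro h
    apply hut
    have h1 := ((hS g).1 h).2
    rw [← hg, ← h1]; group
  -- powers of `g` commute with `τ` modulo `S`
  have hpow : ∀ k : ℕ, τ⁻¹ * (g ^ k * τ * (g ^ k)⁻¹) ∈ S := by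
    have h1 : τ⁻¹ * (g * τ * g⁻¹) ∈ S := by
      refine (hCv _).2 ⟨?_, ?_⟩
      · have h2 := hL.conj_mem g hgL τ⁻¹
        have h3 : τ⁻¹ * (g * τ * g⁻¹) = (τ⁻¹ * g * τ⁻¹⁻¹) * g⁻¹ := by group
        rw [h3]
        exact L.mul_mem h2 (L.inv_mem hgL)
      · have e1 : g⁻¹ * v = t * g⁻¹ := by rw [← hg]; group
        have e2 : τ⁻¹ * v = v * τ⁻¹ := by
          have : τ * v = v * τ := huK
          calc τ⁻¹ * v = τ⁻¹ * (v * τ) * τ⁻¹ := by group
            _ = τ⁻¹ * (τ * v) * τ⁻¹ := by rw [this]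
            _ = _ := by group
        symm
        calc τ⁻¹ * (g * τ * g⁻¹) * v = τ⁻¹ * g * τ * (g⁻¹ * v) := by group
          _ = τ⁻¹ * g * τ * (t * g⁻¹) := by rw [e1]
          _ = τ⁻¹ * g * (τ * t) * g⁻¹ := by group
          _ = τ⁻¹ * g * (t * τ) * g⁻¹ := by rw [hτt]
          _ = τ⁻¹ * (g * t * g⁻¹) * g * τ * g⁻¹ := by group
          _ = (τ⁻¹ * v) * g * τ * g⁻¹ := by rw [hg]
          _ = v * τ⁻¹ * g * τ * g⁻¹ := by rw [e2]
          _ = _ := by group
    intro k
    induction k with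
    | zero => simp
    | succ k ih =>
      have : τ⁻¹ * (g ^ (k + 1) * τ * (g ^ (k + 1))⁻¹) =
          (τ⁻¹ * (g * τ * g⁻¹)) * (g * (τ⁻¹ * (g ^ k * τ * (g ^ k)⁻¹)) * g⁻¹) := by
        rw [pow_succ']; group
      rw [this]
      exact S.mul_mem h1 (hgS _ ih)
  have hSnorm : g ∈ normalizer (S : Set X) := by
    rw [mem_normalizer_iff]
    intro x
    refine ⟨hgS x, ?_⟩
    intro h
    -- finite order
    have h1 : ∀ k : ℕ, ∀ s ∈ S, g ^ k * s * (g ^ k)⁻¹ ∈ S := by
      intro k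
      induction k with
      | zero => intro s hs; simpa using hs
      | succ k ih =>
        intro s hs
        have : g ^ (k + 1) * s * (g ^ (k + 1))⁻¹ = g * (g ^ k * s * (g ^ k)⁻¹) * g⁻¹ := by rw [pow_succ']; group
        rw [this]; exact hgS _ (ih s hs)
    have h2 := h1 (orderOf g - 1) _ h
    have h3 : g ^ (orderOf g - 1) * (g * x * g⁻¹) * (g ^ (orderOf g - 1))⁻¹ = x := by
      have h4 : g ^ (orderOf g - 1) * g = 1 := by
        rw [← pow_succ, Nat.sub_add_cancel (orderOf_pos g), pow_orderOf_eq_one]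
      calc g ^ (orderOf g - 1) * (g * x * g⁻¹) * (g ^ (orderOf g - 1))⁻¹ =
          (g ^ (orderOf g - 1) * g) * x * (g ^ (orderOf g - 1) * g)⁻¹ := by group
        _ = x := by rw [h4]; group
    rwa [h3] at h2
  -- an odd power of `g`
  obtain ⟨a, c, hc, hac⟩ := Nat.exists_eq_two_pow_mul_odd (n := orderOf g) (orderOf_pos g).ne'
  have hc1 : c ≠ 1 := by
    rintro rfl
    rw [mul_one] at hac
    -- `g` is a 2-element, so `g ∈ S`
    apply hgnS
    have hS2 : IsPGroup 2 S := fun s => ⟨1, by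
      rw [pow_one, pow_two]; exact Subtype.ext (hexp s s.2)⟩
    haveI := Fact.mk Nat.prime_two
    have hg2 : IsPGroup 2 (zpowers g) := IsPGroup.of_card (n := a) (by rw [Nat.card_zpowers, hac])
    have hle : zpowers g ≤ normalizer (S : Set X) := by rwa [zpowers_le]
    have h2 : IsPGroup 2 (S ⊔ zpowers g : Subgroup X) := hS2.to_sup_of_normal_left' hg2 hle
    have h3 : S.relIndex (S ⊔ zpowers g) ∣ S.relIndex L := by
      have h4 : S ⊔ zpowers g ≤ L := sup_le hSL (by rwa [zpowers_le])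
      exact Dvd.intro _ (relIndex_mul_relIndex S _ L le_sup_left h4)
    obtain ⟨k, hk⟩ := h2.exists_card_eq
    have h4 : S.relIndex (S ⊔ zpowers g) ∣ 2 ^ k := by rw [← hk]; exact relIndex_dvd_card _ _
    obtain ⟨i, -, hi⟩ := (Nat.dvd_prime_pow Nat.prime_two).1 h4
    have hi0 : i = 0 := by
      by_contra hi0
      apply hodd
      rw [hi] at h3
      exact (dvd_pow_self 2 hi0).trans h3
    rw [hi0, pow_zero, relIndex_eq_one] at hi
    exact hi ((le_sup_right : zpowers g ≤ S ⊔ zpowers g) (mem_zpowers g))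
  obtain ⟨p, hp, hpc⟩ := Nat.exists_prime_and_dvd hc1
  haveI := Fact.mk hp
  have hp2 : p ≠ 2 := by
    rintro rfl
    rw [← Nat.not_even_iff_odd, even_iff_two_dvd] at hc
    exact hc hpc
  have hpg : p ∣ orderOf g := by rw [hac]; exact hpc.trans (dvd_mul_left _ _)
  set h1 := g ^ (orderOf g / p) with hh1
  have hh1o : orderOf h1 = p := by
    rw [hh1, orderOf_pow_of_dvd (Nat.div_pos (Nat.le_of_dvd (orderOf_pos g) hpg) hp.pos).ne' (Nat.div_dvd_of_dvd hpg),
      Nat.div_div_self hpg (orderOf_pos g).ne']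
  have hA : IsPGroup p (zpowers h1) := IsPGroup.of_card (n := 1) (by rw [Nat.card_zpowers, hh1o, pow_one])
  have hSp : ¬ p ∣ Nat.card S := by
    intro hd
    obtain ⟨y, hy⟩ := exists_prime_orderOf_dvd_card' p hd
    have h3 : y ^ 2 = 1 := by rw [pow_two]; exact Subtype.ext (hexp y y.2)
    have h4 := orderOf_dvd_of_pow_eq_one h3
    rw [hy] at h4
    exact hp2 ((Nat.prime_dvd_prime_iff_eq hp Nat.prime_two).1 h4)
  obtain ⟨y, hy1, hy2⟩ := SigF.exists_fixed_coset (A := zpowers h1) (D := S) hA hSp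
    (by rw [zpowers_le]; exact (normalizer (S : Set X)).pow_mem hSnorm _) (x := τ) (by
      intro b hb
      obtain ⟨k, rfl⟩ := mem_powers_iff_mem_zpowers.2 hb
      change τ⁻¹ * (h1 ^ k * τ * (h1 ^ k)⁻¹) ∈ S
      rw [hh1, ← pow_mul]
      exact hpow _)
  have hyt : t * y = y * t := by
    have h3 := ((hS _).1 hy1).2
    calc t * y = (t * τ) * (τ⁻¹ * y) := by group
      _ = τ * (t * (τ⁻¹ * y)) := by rw [hτt]; group
      _ = τ * (τ⁻¹ * y * t) := by rw [h3]
      _ = y * t := by group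
  obtain ⟨k, hk⟩ := hX.two_pow ht1 (k := 1) (by rw [pow_one, ← hto, pow_orderOf_eq_one]) hyt
  have hy0 : y ≠ 1 := by
    rintro rfl
    apply hτL
    rw [mul_one] at hy1
    have := L.inv_mem (hSL hy1)
    rwa [inv_inv] at this
  exact hX.not_comm hy0 hk hp hp2 hh1o (hy2 h1 (mem_zpowers h1)).symm

end Cfsg.Agent.JY
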