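import Mathlib
import Cfsg.Agent.JY.EvenTop
import Cfsg.Agent.H67.Basic

/-! Groups with the prime graph of `PSL₂(2ᵐ)`. -/

set_option autoImplicit false
set_option linter.unusedSectionVars false
set_option linter.style.haveILetI false

namespace Cfsg.Agent.JY

open Subgroup Cfsg

universe u

section Facts

variable {F : Type*} [Field F] [Fintype F] {n : ℕ} (hn : 1 ≤ n) (hF : Fintype.card F = 2 ^ n)

include hn hF

theorem psl2_spec (h4 : 2 ≤ n) {k : ℕ} : (∃ x : Matrix.ProjectiveSpecialLinearGroup (Fin 2) F, orderOf x = k) ↔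
    k ∣ 2 ∨ k ∣ 2 ^ n - 1 ∨ k ∣ 2 ^ n + 1 := by
  haveI := (H68.CA.isCA_psl2 hn hF).1
  haveI : Fact (Nat.Prime 2) := ⟨Nat.prime_two⟩
  have h := S2475.result (F := F) 2 (by
    rw [hF]
    calc 4 = 2 ^ 2 := by norm_num
      _ ≤ 2 ^ n := Nat.pow_le_pow_right (by norm_num) h4)
  have hg : Nat.gcd 2 (2 ^ n - 1) = 1 := by
    have : ¬ 2 ∣ 2 ^ n - 1 := by
      obtain ⟨k, rfl⟩ := Nat.exists_eq_add_of_le' hn
      rw [pow_add]
      have := Nat.one_le_two_pow (n := k)
      omega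
    exact (Nat.Prime.coprime_iff_not_dvd Nat.prime_two).2 this
  rw [hF, hg, Nat.div_one, Nat.div_one] at h
  have h2 : k ∈ Set.range (orderOf : Matrix.ProjectiveSpecialLinearGroup (Fin 2) F → ℕ) ↔
    k ∈ {m : ℕ | m ∣ 2 ∨ m ∣ 2 ^ n - 1 ∨ m ∣ 2 ^ n + 1} := by rw [h]
  exact h2

theorem odd_pm : ¬ 2 ∣ 2 ^ n - 1 ∧ ¬ 2 ∣ 2 ^ n + 1 := by
  obtain ⟨k, rfl⟩ := Nat.exists_eq_add_of_le' hn
  rw [pow_add]
  have := Nat.one_le_two_pow (n := k)
  omega

theorem psl2_noTwo (h4 : 2 ≤ n) : NoTwo (Matrix.ProjectiveSpecialLinearGroup (Fin 2) F) := by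
  intro r hr hr2 hx
  obtain ⟨h1, h2⟩ := odd_pm hn hF
  rcases (psl2_spec hn hF h4).1 hx with h | h | h
  · have h3 : r ∣ 1 := Nat.dvd_of_mul_dvd_mul_left (by norm_num : 0 < 2) (by simpa using h)
    exact hr.one_lt.ne' (Nat.dvd_one.1 h3)
  · exact h1 ((dvd_mul_right 2 r).trans h)
  · exact h2 ((dvd_mul_right 2 r).trans h)

theorem psl2_comm {t a b : Matrix.ProjectiveSpecialLinearGroup (Fin 2) F} (ht : t ≠ 1) (ha : t * a = a * t)
    (hb : t * b = b * t) : a * b = b * a := by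
  by_cases ha1 : a = 1
  · rw [ha1, one_mul, mul_one]
  by_cases hb1 : b = 1
  · rw [hb1, one_mul, mul_one]
  exact (H68.CA.isCA_psl2 hn hF).2 a t b ha1 ht hb1 (show a * t = t * a from ha.symm) hb

theorem psl2_exp (h4 : 2 ≤ n) {t a : Matrix.ProjectiveSpecialLinearGroup (Fin 2) F} (ht : orderOf t = 2)
    (ha : t * a = a * t) : a * a = 1 := by
  obtain ⟨h1, h2⟩ := odd_pm hn hF
  have hcit := (psl2_noTwo hn hF h4).cit
  have ht1 : t ≠ 1 := by rintro rfl; rw [orderOf_one] at ht; omega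
  obtain ⟨k, hk⟩ := hcit.two_pow ht1 (k := 1) (orderOf_dvd_iff_pow_eq_one.1 (by rw [ht, pow_one])) ha
  obtain ⟨i, -, hi⟩ := (Nat.dvd_prime_pow Nat.prime_two).1 (orderOf_dvd_of_pow_eq_one hk)
  rcases (psl2_spec hn hF h4).1 ⟨a, hi⟩ with h | h | h
  · rw [← pow_two]
    rw [← hi] at h
    exact orderOf_dvd_iff_pow_eq_one.1 h
  · rcases Nat.eq_zero_or_pos i with rfl | hi0
    · rw [pow_zero, orderOf_eq_one_iff] at hi
      rw [hi, one_mul]
    · exact absurd ((dvd_pow_self 2 hi0.ne').trans h) h1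
  · rcases Nat.eq_zero_or_pos i with rfl | hi0
    · rw [pow_zero, orderOf_eq_one_iff] at hi
      rw [hi, one_mul]
    · exact absurd ((dvd_pow_self 2 hi0.ne').trans h) h2

theorem card_centr_sl2 {g : Matrix.SpecialLinearGroup (Fin 2) F} (hg : orderOf g = 2) :
    Nat.card (centralizer ({g} : Set (Matrix.SpecialLinearGroup (Fin 2) F))) = 2 ^ n := by
  classical
  haveI := (H68.CA.isCA_psl2 hn hF).1
  have h1 := (S2302.result g g hg hg).2
  have h2 : (ConjClasses.mk g).carrier.ncard = (centralizer ({g} : Set (Matrix.SpecialLinearGroup (Fin 2) F))).index :=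
    H67.ncard_carrier_eq_index g
  have h5 := card_mul_index (centralizer ({g} : Set (Matrix.SpecialLinearGroup (Fin 2) F)))
  rw [← h2, ← Nat.card_coe_set_eq, h1, H81.card_sl2, hF] at h5
  have hq : 2 ≤ 2 ^ n := by
    calc 2 = 2 ^ 1 := by norm_num
      _ ≤ 2 ^ n := Nat.pow_le_pow_right (by norm_num) hn
  have h3 : (2 ^ n) ^ 2 - 1 = (2 ^ n - 1) * (2 ^ n + 1) := by
    have h3 := Nat.sq_sub_sq (2 ^ n) 1
    rw [one_pow] at h3
    rw [h3, mul_comm]
  rw [h3] at h5
  have h4 : 0 < (2 ^ n - 1) * (2 ^ n + 1) := Nat.mul_pos (by omega) (by omega)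
  exact Nat.eq_of_mul_eq_mul_right h4 h5

theorem card_centr_psl2 {t : Matrix.ProjectiveSpecialLinearGroup (Fin 2) F} (ht : orderOf t = 2) :
    Nat.card (centralizer ({t} : Set (Matrix.ProjectiveSpecialLinearGroup (Fin 2) F))) = 2 ^ n := by
  haveI := (H68.CA.isCA_psl2 hn hF).1
  obtain ⟨e⟩ := H21.nonempty_mulEquiv_psl2 (F := F)
  rw [← card_centr_sl2 hn hF (g := e.symm t) (by rw [MulEquiv.orderOf_eq, ht])]
  refine Nat.card_congr ⟨fun x => ⟨e.symm x, ?_⟩, fun x => ⟨e x, ?_⟩, ?_, ?_⟩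
  · rw [mem_centr, ← map_mul, mem_centr.1 x.2, map_mul]
  · rw [mem_centr]
    have h := congrArg e (mem_centr.1 x.2)
    rw [map_mul, map_mul, e.apply_symm_apply] at h
    exact h
  · intro x; apply Subtype.ext; exact e.apply_symm_apply _
  · intro x; apply Subtype.ext; exact e.symm_apply_apply _

end Facts

/-- CIT groups with a normal subgroup `PSL₂(2ⁿ)`, `n ≥ 3`, of 2-power index -/
theorem CIT.top_even {X : Type*} [Group X] [Finite X] (hX : CIT X) (L : Subgroup X) [hL : L.Normal]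
    (hq : IsPGroup 2 (X ⧸ L)) {F : Type*} [Field F] [Fintype F] {n : ℕ} (hn : 3 ≤ n)
    (hF : Fintype.card F = 2 ^ n) (e : L ≃* Matrix.ProjectiveSpecialLinearGroup (Fin 2) F) : L = ⊤ := by
  have hn1 : 1 ≤ n := by omega
  have hcardL : Nat.card L = 2 ^ n * ((2 ^ n - 1) * (2 ^ n + 1)) := by
    rw [Nat.card_congr e.toEquiv, H68.SN.card_psl2 hn1 hF]
  have hev : 2 ∣ Nat.card L := by
    rw [hcardL]; exact Dvd.dvd.mul_right (dvd_pow_self 2 (by omega)) _
  haveI : Fact (Nat.Prime 2) := ⟨Nat.prime_two⟩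
  obtain ⟨t, ht⟩ := exists_prime_orderOf_dvd_card' (G := L) 2 hev
  have het : orderOf (e t) = 2 := by rw [MulEquiv.orderOf_eq, ht]
  have het1 : e t ≠ 1 := by intro h; rw [h, orderOf_one] at het; omega
  have hcls : ∀ s t : X, s ∈ L → t ∈ L → orderOf s = 2 → orderOf t = 2 → ∃ g ∈ L, g * s * g⁻¹ = t := by
    intro s t hs ht hs2 ht2
    obtain ⟨g, hg⟩ := one_class_transport e psl2_one_class (s := ⟨s, hs⟩) (t := ⟨t, ht⟩)
      (by rw [Subgroup.orderOf_mk, hs2]) (by rw [Subgroup.orderOf_mk, ht2])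
    exact ⟨g, g.2, congrArg Subtype.val hg⟩
  let S : Subgroup X := (centralizer ({t} : Set L)).map L.subtype
  have hS : ∀ x, x ∈ S ↔ x ∈ L ∧ (t : X) * x = x * t := by
    intro x
    constructor
    · rintro ⟨y, hy, rfl⟩
      have hy' : t * y = y * t := mem_centr.1 hy
      exact ⟨y.2, congrArg Subtype.val hy'⟩
    · rintro ⟨h1, h2⟩
      exact ⟨⟨x, h1⟩, mem_centr.2 (Subtype.ext h2), rfl⟩
  have hlift : ∀ x (hx : x ∈ S), ∃ y : L, (y : X) = x ∧ e t * e y = e y * e t := by
    rintro _ ⟨y, hy, rfl⟩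
    have hy' : t * y = y * t := mem_centr.1 hy
    exact ⟨y, rfl, by rw [← map_mul, ← map_mul, hy']⟩
  have hcardS : Nat.card S = 2 ^ n := by
    rw [Subgroup.card_map_of_injective L.subtype_injective, ← card_centr_psl2 hn1 hF het]
    refine Nat.card_congr ⟨fun x => ⟨e x, ?_⟩, fun x => ⟨e.symm x, ?_⟩, ?_, ?_⟩
    · rw [mem_centr, ← map_mul, mem_centr.1 x.2, map_mul]
    · rw [mem_centr]
      have h := congrArg e.symm (mem_centr.1 x.2)
      rw [map_mul, map_mul, e.symm_apply_apply] at h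
      exact h
    · intro x; apply Subtype.ext; exact e.symm_apply_apply _
    · intro x; apply Subtype.ext; exact e.apply_symm_apply _
  refine eq_top_even hX L hq hcls t.2 (by rw [Subgroup.orderOf_coe, ht]) hS ?_ ?_ ?_ ?_
  · intro a ha b hb
    obtain ⟨a, rfl, ha'⟩ := hlift a ha
    obtain ⟨b, rfl, hb'⟩ := hlift b hb
    have h := psl2_comm hn1 hF het1 ha' hb'
    rw [← map_mul, ← map_mul] at h
    exact congrArg Subtype.val (e.injective h)
  · intro a ha
    obtain ⟨a, rfl, ha'⟩ := hlift a ha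
    have h := psl2_exp hn1 hF (by omega) het ha'
    rw [← map_mul] at h
    have h2 : a * a = 1 := e.injective (by rw [h, map_one])
    exact congrArg Subtype.val h2
  · rw [hcardS]
    calc 4 < 2 ^ 3 := by norm_num
      _ ≤ 2 ^ n := Nat.pow_le_pow_right (by norm_num) hn
  · have hSL : S ≤ L := fun x hx => ((hS x).1 hx).1
    have h1 : Nat.card S * S.relIndex L = Nat.card L := by
      rw [← Nat.card_congr (subgroupOfEquivOfLe hSL).toEquiv]
      exact card_mul_index _
    rw [hcardS, hcardL] at h1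
    rw [Nat.eq_of_mul_eq_mul_left (by positivity) h1, Nat.Prime.dvd_mul Nat.prime_two]
    obtain ⟨h2, h3⟩ := odd_pm hn1 hF
    rintro (h | h)
    · exact h2 h
    · exact h3 h

theorem sq_pow_sub (n : ℕ) : 2 ^ (2 * n) - 1 = (2 ^ n - 1) * (2 ^ n + 1) := by
  have h3 := Nat.sq_sub_sq (2 ^ n) 1
  rw [one_pow] at h3
  rw [mul_comm 2 n, pow_mul, h3, mul_comm]

/-- arithmetic for `PSL₂(p)` -/
theorem prime_case {m p : ℕ} (hm : 4 ≤ m) (hp : p.Prime) (hp5 : 5 ≤ p)
    (hpk : ∃ k : ℕ, p = 2 ^ k + 1 ∨ p + 1 = 2 ^ k)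
    (h1 : ∀ r : ℕ, r.Prime → r ≠ 2 → (r ∣ 2 ^ (2 * m) - 1 ↔ r ∣ p * ((p - 1) * (p + 1)))) : False := by
  obtain ⟨k, hk⟩ := hpk
  have hk2 : 2 ≤ k := by
    by_contra hcon
    have : k < 2 := by omega
    interval_cases k <;> rcases hk with hk | hk <;> norm_num at hk <;> omega
  obtain ⟨j, rfl⟩ := Nat.exists_eq_add_of_le' (show 1 ≤ k by omega)
  have hj1 : 1 ≤ j := by omega
  have hpo : p ≠ 2 := by omega
  -- the odd primes of `p (p - 1) (p + 1)`
  have hj : 1 ≤ 2 ^ j := Nat.one_le_two_pow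
  have hprod : ∀ r : ℕ, r.Prime → r ≠ 2 → r ∣ p * ((p - 1) * (p + 1)) → r ∣ 2 ^ (2 * (j + 1)) - 1 ∨ r ∣ 2 ^ (2 * j) - 1 := by
    intro r hr hr2 hd
    have key : ∀ a : ℕ, ¬ r ∣ 2 ^ a := fun a h => hr2 ((Nat.prime_dvd_prime_iff_eq hr Nat.prime_two).1 (hr.dvd_of_dvd_pow h))
    rw [sq_pow_sub, sq_pow_sub]
    rcases hk with hk | hk
    · rcases (Nat.Prime.dvd_mul hr).1 hd with h | h
      · left; rw [← hk]; exact Dvd.dvd.mul_left h _
      · rcases (Nat.Prime.dvd_mul hr).1 h with h | h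
        · rw [hk, Nat.add_sub_cancel] at h
          exact absurd h (key _)
        · have h2 : p + 1 = 2 * (2 ^ j + 1) := by rw [hk, pow_succ]; ring
          rw [h2] at h
          rcases (Nat.Prime.dvd_mul hr).1 h with h | h
          · exact absurd ((Nat.prime_dvd_prime_iff_eq hr Nat.prime_two).1 h) hr2
          · right; exact Dvd.dvd.mul_left h _
    · have hk' : p = 2 ^ (j + 1) - 1 := by omega
      rcases (Nat.Prime.dvd_mul hr).1 hd with h | h
      · left; rw [← hk']; exact Dvd.dvd.mul_right h _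
      · rcases (Nat.Prime.dvd_mul hr).1 h with h | h
        · have h2 : p - 1 = 2 * (2 ^ j - 1) := by rw [hk', pow_succ]; omega
          rw [h2] at h
          rcases (Nat.Prime.dvd_mul hr).1 h with h | h
          · exact absurd ((Nat.prime_dvd_prime_iff_eq hr Nat.prime_two).1 h) hr2
          · right; exact Dvd.dvd.mul_right h _
        · rw [hk] at h
          exact absurd h (key _)
  -- the primitive prime
  obtain ⟨r, hr, hr2, hrm, hrk⟩ := zs (n := 2 * m) (by omega) (by omega)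
  have h2 := hprod r hr hr2 ((h1 r hr hr2).1 ((hrk _).2 dvd_rfl))
  have h3 : m ∣ j + 1 ∨ m ∣ j := by
    rcases h2 with h | h
    · left; exact Nat.dvd_of_mul_dvd_mul_left (by norm_num) ((hrk _).1 h)
    · right; exact Nat.dvd_of_mul_dvd_mul_left (by norm_num) ((hrk _).1 h)
  have hr9 : 9 ≤ r := by
    have := Nat.le_of_dvd (by have := hr.two_le; omega) hrm
    omega
  -- `p` divides `2 ^ (2 m) - 1`
  have h4 : p ∣ 2 ^ (2 * m) - 1 := (h1 p hp hpo).2 (dvd_mul_right _ _)
  haveI := Fact.mk hp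
  have key2 : ∀ a : ℕ, p ∣ 2 ^ a - 1 ↔ (2 : ZMod p) ^ a = 1 := by
    intro a
    rw [S2904.dvd_pow_sub_one_iff 2 a p (by norm_num)]
    push_cast
    rfl
  have h5 := orderOf_dvd_of_pow_eq_one ((key2 _).1 h4)
  have hbound : ∀ a : ℕ, 0 < a → p ∣ 2 ^ a - 1 → p + 1 ≤ 2 ^ a := by
    intro a ha hd
    have h6 : 2 ^ 1 ≤ 2 ^ a := Nat.pow_le_pow_right (by norm_num) ha
    have := Nat.le_of_dvd (by omega) hd
    omega
  -- exponent of `2` modulo `p`
  have hord : orderOf (2 : ZMod p) = 2 * (j + 1) ∨ orderOf (2 : ZMod p) = j + 1 := by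
    have h6 : orderOf (2 : ZMod p) ∣ 2 * (j + 1) := by
      apply orderOf_dvd_of_pow_eq_one
      rw [← key2, sq_pow_sub]
      rcases hk with hk | hk
      · rw [← hk]; exact dvd_mul_left _ _
      · have hk' : p = 2 ^ (j + 1) - 1 := by omega
        rw [← hk']; exact dvd_mul_right _ _
    have h7 : 0 < orderOf (2 : ZMod p) := Nat.pos_of_dvd_of_pos h6 (by omega)
    have h8 := hbound _ h7 ((key2 _).2 (pow_orderOf_eq_one _))
    have h9 : 2 ^ (j + 1) ≤ 2 ^ orderOf (2 : ZMod p) := by rcases hk with hk | hk <;> omega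
    have h10 : j + 1 ≤ orderOf (2 : ZMod p) := (Nat.pow_le_pow_iff_right (by norm_num)).1 h9
    obtain ⟨c, hc⟩ := h6
    rcases c with _ | _ | _ | c
    · omega
    · left; omega
    · right; omega
    · exfalso
      have : (j + 1) * 3 ≤ orderOf (2 : ZMod p) * (c + 1 + 1 + 1) := Nat.mul_le_mul h10 (by omega)
      omega
  -- so `j + 1 = m`
  have hjm : j + 1 = m := by
    have h6 : j + 1 ∣ 2 * m := by
      rcases hord with h | h
      · rw [h] at h5
        exact (dvd_mul_left (j + 1) 2).trans h5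
      · rw [h] at h5; exact h5
    have h7 : j + 1 ≤ 2 * m := Nat.le_of_dvd (by omega) h6
    rcases h3 with ⟨c, hc⟩ | ⟨c, hc⟩
    · have hc2 : c = 1 ∨ c = 2 := by
        have : c ≤ 2 := by
          by_contra hcon
          push Not at hcon
          have : m * 3 ≤ m * c := Nat.mul_le_mul_left m hcon
          omega
        have hc0 : c ≠ 0 := by rintro rfl; omega
        omega
      rcases hc2 with rfl | rfl
      · omega
      · exfalso
        -- `j + 1 = 2 m`
        rcases hord with h | h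
        · rw [h] at h5
          have := Nat.le_of_dvd (by omega) h5
          omega
        · -- then `p = 2 ^ (2 m) - 1` is not prime
          rcases hk with hk | hk
          · have h9 : p ∣ 2 ^ (j + 1) - 1 := (key2 _).2 (by rw [← h, pow_orderOf_eq_one])
            have := hbound _ (by omega) h9
            omega
          · have hk' : p = 2 ^ (2 * m) - 1 := by
              have : j + 1 = 2 * m := by omega
              rw [← this]; omega
            rw [sq_pow_sub] at hk'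
            have h9 : 16 ≤ 2 ^ m := by
              calc 16 = 2 ^ 4 := by norm_num
                _ ≤ 2 ^ m := Nat.pow_le_pow_right (by norm_num) hm
            rw [hk'] at hp
            exact Nat.not_prime_mul (by omega) (by omega) hp
    · exfalso
      have hc1 : c = 1 := by
        have : c ≤ 1 := by
          by_contra hcon
          push Not at hcon
          have : m * 2 ≤ m * c := Nat.mul_le_mul_left m hcon
          omega
        have hc0 : c ≠ 0 := by rintro rfl; omega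
        omega
      rw [hc1, mul_one] at hc
      rw [hc] at h6
      have h9 : m + 1 ∣ 2 * (m + 1) := dvd_mul_left _ _
      have h10 := Nat.dvd_sub h9 h6
      have h11 : 2 * (m + 1) - 2 * m = 2 := by omega
      rw [h11] at h10
      have := Nat.le_of_dvd (by norm_num) h10
      omega
  rw [hjm] at hk
  have h16 : 16 ≤ 2 ^ m := by
    calc 16 = 2 ^ 4 := by norm_num
      _ ≤ 2 ^ m := Nat.pow_le_pow_right (by norm_num) hm
  have hmj : 2 ^ m = 2 * 2 ^ j := by rw [← hjm, pow_succ']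
  rcases hk with hk | hk
  · -- `p = 2 ^ m + 1`
    have h6 : ∀ s : ℕ, s.Prime → s ∣ 2 ^ m - 1 → s = 3 := by
      intro s hs hsd
      have hs2 : s ≠ 2 := by
        rintro rfl
        rw [hmj] at hsd
        omega
      have h7 : s ∣ p * ((p - 1) * (p + 1)) := (h1 s hs hs2).1 (by rw [sq_pow_sub]; exact Dvd.dvd.mul_right hsd _)
      rcases (Nat.Prime.dvd_mul hs).1 h7 with h | h
      · exfalso
        rw [hk] at h
        have h8 := Nat.dvd_sub h hsd
        have h9 : 2 ^ m + 1 - (2 ^ m - 1) = 2 := by omega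
        rw [h9] at h8
        exact hs2 ((Nat.prime_dvd_prime_iff_eq hs Nat.prime_two).1 h8)
      · rcases (Nat.Prime.dvd_mul hs).1 h with h | h
        · exfalso
          rw [hk, Nat.add_sub_cancel] at h
          exact hs2 ((Nat.prime_dvd_prime_iff_eq hs Nat.prime_two).1 (hs.dvd_of_dvd_pow h))
        · rw [hk] at h
          have h8 := Nat.dvd_sub h hsd
          have h9 : 2 ^ m + 1 + 1 - (2 ^ m - 1) = 3 := by omega
          rw [h9] at h8
          exact (Nat.prime_dvd_prime_iff_eq hs Nat.prime_three).1 h8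
    have h7 := Nat.eq_prime_pow_of_unique_prime_dvd (n := 2 ^ m - 1) (p := 3) (by omega) (fun {d} hd hdd => h6 d hd hdd)
    have := two_pow_eq_three_pow_add (n := m) (a := (2 ^ m - 1).primeFactorsList.length) (by omega)
    omega
  · -- `p = 2 ^ m - 1`
    have h6 : r ∣ 2 ^ m + 1 := by
      have h7 : r ∣ 2 ^ (2 * m) - 1 := (hrk _).2 dvd_rfl
      rw [sq_pow_sub] at h7
      rcases (Nat.Prime.dvd_mul hr).1 h7 with h | h
      · exfalso
        rw [hrk] at h
        have := Nat.le_of_dvd (by omega) h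
        omega
      · exact h
    have h7 : r ∣ p * ((p - 1) * (p + 1)) := (h1 r hr hr2).1 ((hrk _).2 dvd_rfl)
    rcases (Nat.Prime.dvd_mul hr).1 h7 with h | h
    · have h8 := Nat.dvd_sub h6 h
      have h9 : 2 ^ m + 1 - p = 2 := by omega
      rw [h9] at h8
      exact hr2 ((Nat.prime_dvd_prime_iff_eq hr Nat.prime_two).1 h8)
    · rcases (Nat.Prime.dvd_mul hr).1 h with h | h
      · have h8 := Nat.dvd_sub h6 h
        have h9 : 2 ^ m + 1 - (p - 1) = 3 := by omega
        rw [h9] at h8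
        have := Nat.le_of_dvd (by norm_num) h8
        omega
      · rw [hk] at h
        exact hr2 ((Nat.prime_dvd_prime_iff_eq hr Nat.prime_two).1 (hr.dvd_of_dvd_pow h))

theorem even_graph (hCT : CT.{u}) (hFT : OS.{u}) {F : Type*} [Field F] [Fintype F] (m : ℕ) (hm : 4 ≤ m)
    (hF : Fintype.card F = 2 ^ m) {G : Type u} [Group G] [Finite G]
    (h : SameGraph (Matrix.ProjectiveSpecialLinearGroup (Fin 2) F) G) :
    Nonempty (G ⧸ Cfsg.pCore 2 G ≃* Matrix.ProjectiveSpecialLinearGroup (Fin 2) F) := by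
  have hm1 : 1 ≤ m := by omega
  have hcard := H68.SN.card_psl2 hm1 hF
  have hN := psl2_noTwo hm1 hF (by omega)
  have hG := h.cit hN
  obtain ⟨ho1, ho2⟩ := odd_pm hm1 hF
  have h16 : 16 ≤ 2 ^ m := by
    calc 16 = 2 ^ 4 := by norm_num
      _ ≤ 2 ^ m := Nat.pow_le_pow_right (by norm_num) hm
  have hns : ¬ Group.IsSolvable G := by
    have hr := Nat.minFac_prime (n := 2 ^ m - 1) (by omega)
    have hs := Nat.minFac_prime (n := 2 ^ m + 1) (by omega)
    have hrd := Nat.minFac_dvd (2 ^ m - 1)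
    have hsd := Nat.minFac_dvd (2 ^ m + 1)
    set r := (2 ^ m - 1).minFac with hrdef
    set s := (2 ^ m + 1).minFac with hsdef
    have hr2 : r ≠ 2 := by intro h; rw [h] at hrd; exact ho1 hrd
    have hs2 : s ≠ 2 := by intro h; rw [h] at hsd; exact ho2 hsd
    have key : ∀ q : ℕ, q.Prime → q ∣ 2 ^ m - 1 → q ∣ 2 ^ m + 1 → q = 2 := by
      intro q hq h1 h2
      have h3 := Nat.dvd_sub h2 h1
      have h4 : 2 ^ m + 1 - (2 ^ m - 1) = 2 := by omega
      rw [h4] at h3
      exact (Nat.prime_dvd_prime_iff_eq hq Nat.prime_two).1 h3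
    refine h.not_solvable hN ?_ hr hs hr2 hs2 ?_ ?_ ?_ ?_
    · rw [hcard]; exact Dvd.dvd.mul_right (dvd_pow_self 2 (by omega)) _
    · intro e
      rw [← e] at hsd
      exact hr2 (key r hr hrd hsd)
    · rw [hcard]; exact Dvd.dvd.mul_left (Dvd.dvd.mul_right hrd _) _
    · rw [hcard]; exact Dvd.dvd.mul_left (Dvd.dvd.mul_left hsd _) _
    · intro hx
      rcases (psl2_spec hm1 hF (by omega)).1 hx with h1 | h1 | h1
      · exact hr2 ((Nat.prime_dvd_prime_iff_eq hr Nat.prime_two).1 ((dvd_mul_right r s).trans h1))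
      · exact hs2 (key s hs ((dvd_mul_left s r).trans h1) hsd)
      · exact hr2 (key r hr hrd ((dvd_mul_right r s).trans h1))
  obtain ⟨L, hD⟩ := hG.main hCT hFT hns
  haveI := hD.normal
  haveI := hD.simple
  have hpr : ∀ r : ℕ, r.Prime → (r ∣ Nat.card (Matrix.ProjectiveSpecialLinearGroup (Fin 2) F) ↔ r ∣ Nat.card L) :=
    fun r hr => (h.1 r hr).trans (hD.prime_iff hFT hr).symm
  obtain ⟨r, hr, hr2, hrm, hrk⟩ := zs (n := 2 * m) (by omega) (by omega)
  have hr9 : 9 ≤ r := by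
    have := Nat.le_of_dvd (by have := hr.two_le; omega) hrm
    omega
  have hoddS : ∀ q : ℕ, q.Prime → q ≠ 2 → (q ∣ Nat.card (Matrix.ProjectiveSpecialLinearGroup (Fin 2) F) ↔ q ∣ 2 ^ (2 * m) - 1) := by
    intro q hq hq2
    rw [hcard, ← sq_pow_sub, Nat.Prime.dvd_mul hq]
    exact ⟨fun h => h.resolve_left (fun h => hq2 ((Nat.prime_dvd_prime_iff_eq hq Nat.prime_two).1 (hq.dvd_of_dvd_pow h))), Or.inr⟩
  have hrL : r ∣ Nat.card L := (hpr r hr).1 ((hoddS r hr hr2).2 ((hrk _).2 dvd_rfl))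
  rcases hD.list with ⟨K, i1, i2, hK, ⟨e⟩⟩ | ⟨K, i1, i2, hK, ⟨e⟩⟩ | ⟨K, i1, i2, k, hk, hK, ⟨e⟩⟩
  · have h4K := four_le (not_solvable_of hD.comm) e
    rcases hK with hK | ⟨n, hK⟩ | ⟨hKp, hKk⟩
    · exfalso
      have h3 := H14.SubField.card_PSL2_odd (F := K) (by rw [hK]; decide)
      rw [hK] at h3
      rw [Nat.card_congr e.toEquiv] at hrL
      have h5 : Nat.card (Matrix.ProjectiveSpecialLinearGroup (Fin 2) K) = 2 ^ 3 * 3 ^ 2 * 5 := by omega
      rw [h5] at hrL
      rcases (Nat.Prime.dvd_mul hr).1 hrL with h | h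
      · rcases (Nat.Prime.dvd_mul hr).1 h with h | h
        · exact hr2 ((Nat.prime_dvd_prime_iff_eq hr Nat.prime_two).1 (hr.dvd_of_dvd_pow h))
        · have := (Nat.prime_dvd_prime_iff_eq hr Nat.prime_three).1 (hr.dvd_of_dvd_pow h)
          omega
      · have := (Nat.prime_dvd_prime_iff_eq hr Nat.prime_five).1 h
        omega
    · have hn2 : 2 ≤ n := by
        by_contra hcon
        have : n < 2 := by omega
        interval_cases n <;> omega
      have hcL : Nat.card L = 2 ^ n * (2 ^ (2 * n) - 1) := by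
        rw [Nat.card_congr e.toEquiv, H68.SN.card_psl2 (by omega) hK, sq_pow_sub]
      have hoddL : ∀ q : ℕ, q.Prime → q ≠ 2 → (q ∣ Nat.card L ↔ q ∣ 2 ^ (2 * n) - 1) := by
        intro q hq hq2
        rw [hcL, Nat.Prime.dvd_mul hq]
        exact ⟨fun h => h.resolve_left (fun h => hq2 ((Nat.prime_dvd_prime_iff_eq hq Nat.prime_two).1 (hq.dvd_of_dvd_pow h))), Or.inr⟩
      have h5 : m ∣ n := by
        have := (hrk _).1 ((hoddL r hr hr2).1 hrL)
        exact Nat.dvd_of_mul_dvd_mul_left (by norm_num) this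
      have h6 : m ≤ n := Nat.le_of_dvd (by omega) h5
      obtain ⟨s, hs, hs2, -, hsk⟩ := zs (n := 2 * n) (by omega) (by omega)
      have h7 : n ∣ m := by
        have h8 : s ∣ Nat.card L := (hoddL s hs hs2).2 ((hsk _).2 dvd_rfl)
        have h9 := (hoddS s hs hs2).1 ((hpr s hs).2 h8)
        exact Nat.dvd_of_mul_dvd_mul_left (by norm_num) ((hsk _).1 h9)
      have h8 := Nat.dvd_antisymm h5 h7
      subst h8
      have ht := hD.citX.top_even L hD.quot (by omega) hK e
      obtain ⟨f⟩ := equiv_of ht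
      exact ⟨(f.trans e).trans (ClassBase.pslCongr (FiniteField.ringEquivOfCardEq (hK.trans hF.symm)))⟩
    · exfalso
      have hK2 : Fintype.card K ≠ 2 := by omega
      have hKodd := hKp.eq_two_or_odd'.resolve_left hK2
      refine prime_case hm hKp (by rcases hKodd with ⟨c, hc⟩; omega) hKk ?_
      intro q hq hq2
      rw [← hoddS q hq hq2, hpr q hq, ← H14.SubField.card_PSL2_odd (F := K) hKodd, Nat.card_congr e.toEquiv,
        Nat.Prime.dvd_mul hq]
      exact ⟨Or.inr, fun h => h.resolve_left (fun h => hq2 ((Nat.prime_dvd_prime_iff_eq hq Nat.prime_two).1 h))⟩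
  · exfalso
    rw [Nat.card_congr e.toEquiv, card_psl3_four hK] at hrL
    have h5 : 20160 = 2 ^ 6 * 3 ^ 2 * 5 * 7 := by norm_num
    rw [h5] at hrL
    rcases (Nat.Prime.dvd_mul hr).1 hrL with h | h
    · rcases (Nat.Prime.dvd_mul hr).1 h with h | h
      · rcases (Nat.Prime.dvd_mul hr).1 h with h | h
        · exact hr2 ((Nat.prime_dvd_prime_iff_eq hr Nat.prime_two).1 (hr.dvd_of_dvd_pow h))
        · have := (Nat.prime_dvd_prime_iff_eq hr Nat.prime_three).1 (hr.dvd_of_dvd_pow h)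
          omega
      · have := (Nat.prime_dvd_prime_iff_eq hr Nat.prime_five).1 h
        omega
    · have := (Nat.prime_dvd_prime_iff_eq hr (by norm_num : Nat.Prime 7)).1 h
      omega
  · exfalso
    have h3 : 3 ∣ Nat.card (Matrix.ProjectiveSpecialLinearGroup (Fin 2) F) := by
      rw [hcard]
      rcases three_dvd m with h | h
      · exact Dvd.dvd.mul_left (Dvd.dvd.mul_right h _) _
      · exact Dvd.dvd.mul_left (Dvd.dvd.mul_left h _) _
    rw [hpr 3 Nat.prime_three, Nat.card_congr e.toEquiv] at h3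
    obtain ⟨g⟩ := Cfsg.Agent.Suz.nonempty_lieEquiv hk hK
    rw [← Nat.card_congr g.toEquiv, sz_card hk hK] at h3
    revert h3
    generalize hqq : 2 ^ (2 * k + 1) = q
    intro h3
    have h1 : q % 3 = 2 := by
      rw [← hqq]
      clear h3 hqq hK
      clear g e
      clear hk
      induction k with
      | zero => rfl
      | succ k ih =>
        have : 2 ^ (2 * (k + 1) + 1) = 4 * 2 ^ (2 * k + 1) := by
          rw [show 2 * (k + 1) + 1 = 2 * k + 1 + 2 by ring, pow_add]; ring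
        rw [this]; omega
    have h2 : q ^ 2 % 3 = 1 := by rw [Nat.pow_mod, h1]
    rcases (Nat.Prime.dvd_mul Nat.prime_three).1 h3 with h | h
    · rcases (Nat.Prime.dvd_mul Nat.prime_three).1 h with h | h <;> omega
    · omega

end Cfsg.Agent.JY
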