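import Mathlib
import Cfsg.Agent.JY.Recog
import Cfsg.Agent.Frob.Action

/-! CIT groups with a normal subgroup `A₆` and without elements of order 8. -/

set_option autoImplicit false
set_option linter.unusedSectionVars false
set_option linter.style.haveILetI false

namespace Cfsg.Agent.JY

open Subgroup Cfsg

theorem mem_normalizer_of_conj {G : Type*} [Group G] [Finite G] {D : Subgroup G} {g : G}
    (h : ∀ x ∈ D, g * x * g⁻¹ ∈ D) : g ∈ normalizer (D : Set G) := by
  rw [mem_normalizer_iff]
  intro x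
  refine ⟨h x, ?_⟩
  intro hx
  have h1 : ∀ k : ℕ, ∀ s ∈ D, g ^ k * s * (g ^ k)⁻¹ ∈ D := by
    intro k
    induction k with
    | zero => intro s hs; simpa using hs
    | succ k ih =>
      intro s hs
      have : g ^ (k + 1) * s * (g ^ (k + 1))⁻¹ = g * (g ^ k * s * (g ^ k)⁻¹) * g⁻¹ := by rw [pow_succ']; group
      rw [this]; exact h _ (ih s hs)
  have h2 := h1 (orderOf g - 1) _ hx
  have h3 : g ^ (orderOf g - 1) * (g * x * g⁻¹) * (g ^ (orderOf g - 1))⁻¹ = x := by
    have h4 : g ^ (orderOf g - 1) * g = 1 := by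
      rw [← pow_succ, Nat.sub_add_cancel (orderOf_pos g), pow_orderOf_eq_one]
    calc g ^ (orderOf g - 1) * (g * x * g⁻¹) * (g ^ (orderOf g - 1))⁻¹ =
        (g ^ (orderOf g - 1) * g) * x * (g ^ (orderOf g - 1) * g)⁻¹ := by group
      _ = x := by rw [h4]; group
  rwa [h3] at h2

theorem top_six_aux {X : Type*} [Group X] [Finite X] (hX : CIT X) (hord : ∀ x : X, orderOf x ≤ 5)
    (L : Subgroup X) [hL : L.Normal] (hq : IsPGroup 2 (X ⧸ L))
    {t a b h : X} (htL : t ∈ L) (haL : a ∈ L) (hbL : b ∈ L) (hhL : h ∈ L)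
    (hto : orderOf t = 2)
    (hcls : ∀ s : X, s ∈ L → orderOf s = 2 → ∃ g ∈ L, g * s * g⁻¹ = t)
    (haa : a * a = 1) (hta : t * a = a * t) (htb : t * b = b * t)
    (ha1 : a ≠ 1) (hat : a ≠ t) (hab1 : a ≠ b) (hab2 : a ≠ t * b)
    (hba : b * a * b⁻¹ = t * a) (hht : h * t * h⁻¹ = a) (hha : h * a * h⁻¹ = t * a) (hh3 : orderOf h = 3)
    (hinv : ∀ x ∈ L, t * x = x * t → x * x = 1 → x = 1 ∨ x = t ∨ x = a ∨ x = t * a ∨ x = b ∨ x = t * b)
    (hcent : ∀ x ∈ L, t * x = x * t → a * x = x * a → x = 1 ∨ x = t ∨ x = a ∨ x = t * a) : L = ⊤ := by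
  have htt : t * t = 1 := by rw [← pow_two, ← hto, pow_orderOf_eq_one]
  have ht1 : t ≠ 1 := by rintro rfl; rw [orderOf_one] at hto; omega
  have htp : t ^ 2 ^ 1 = 1 := by rw [pow_one, pow_two, htt]
  by_contra hne
  obtain ⟨τ, hτt, hτL, hτ2⟩ : ∃ τ : X, t * τ = τ * t ∧ τ ∉ L ∧ τ * τ ∈ L := by
    obtain ⟨x, hx⟩ : ∃ x : X, x ∉ L := by
      by_contra hcon
      push Not at hcon
      exact hne (eq_top_iff.2 (fun x _ => hcon x))
    obtain ⟨l, hl, hlt⟩ := hcls (x * t * x⁻¹) (hL.conj_mem t htL x) (by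
      rw [← hto]; exact orderOf_injective (MulAut.conj x).toMonoidHom (MulAut.conj x).injective t)
    set c := l * x with hc
    have hct : t * c = c * t := by
      nth_rw 1 [← hlt]
      rw [hc]; group
    have hcL : c ∉ L := by
      intro h
      apply hx
      have : x = l⁻¹ * c := by rw [hc]; group
      rw [this]
      exact L.mul_mem (L.inv_mem hl) h
    obtain ⟨k, hk⟩ := hq (QuotientGroup.mk c)
    have hc1 : (QuotientGroup.mk c : X ⧸ L) ≠ 1 := by
      rw [Ne, QuotientGroup.eq_one_iff]; exact hcL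
    obtain ⟨j, hj⟩ := exists_pow_inv hc1 hk
    refine ⟨c ^ j, (Commute.pow_right hct j), ?_, ?_⟩
    · intro h
      rw [← QuotientGroup.eq_one_iff, QuotientGroup.mk_pow] at h
      rw [h, orderOf_one] at hj
      omega
    · rw [← QuotientGroup.eq_one_iff, ← pow_two, QuotientGroup.mk_pow, QuotientGroup.mk_pow, ← hj,
        pow_orderOf_eq_one]
  -- no element outside `L` centralizes `t` and `a`
  have caseA : ∀ σ : X, t * σ = σ * t → a * σ = σ * a → σ ∉ L → False := by
    intro σ h1 h2 h3
    let E : Subgroup X := centralizer ({t} : Set X) ⊓ centralizer ({a} : Set X)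
    have hE : ∀ x, x ∈ E ↔ t * x = x * t ∧ a * x = x * a := by
      intro x
      rw [mem_inf, mem_centr, mem_centr]
    have hhE : h ∈ normalizer (E : Set X) := by
      apply mem_normalizer_of_conj
      intro x hx
      obtain ⟨e1, e2⟩ := (hE x).1 hx
      have e3 : a * (h * x * h⁻¹) = (h * x * h⁻¹) * a := by
        rw [← hht]
        calc h * t * h⁻¹ * (h * x * h⁻¹) = h * (t * x) * h⁻¹ := by group
          _ = h * (x * t) * h⁻¹ := by rw [e1]
          _ = _ := by group
      have e4 : (t * a) * (h * x * h⁻¹) = (h * x * h⁻¹) * (t * a) := by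
        rw [← hha]
        calc h * a * h⁻¹ * (h * x * h⁻¹) = h * (a * x) * h⁻¹ := by group
          _ = h * (x * a) * h⁻¹ := by rw [e2]
          _ = _ := by group
      refine (hE _).2 ⟨?_, e3⟩
      calc t * (h * x * h⁻¹) = t * (h * x * h⁻¹) * (a * a) := by rw [haa, mul_one]
        _ = t * ((h * x * h⁻¹) * a) * a := by group
        _ = t * (a * (h * x * h⁻¹)) * a := by rw [e3]
        _ = (t * a * (h * x * h⁻¹)) * a := by group
        _ = ((h * x * h⁻¹) * (t * a)) * a := by rw [e4]
        _ = (h * x * h⁻¹) * t * (a * a) := by group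
        _ = (h * x * h⁻¹) * t := by rw [haa, mul_one]
    have hAE : zpowers h ≤ normalizer (E : Set X) := by rwa [zpowers_le]
    haveI : Fact (Nat.Prime 3) := ⟨Nat.prime_three⟩
    have hA : IsPGroup 3 (zpowers h) := IsPGroup.of_card (n := 1) (by rw [Nat.card_zpowers, hh3, pow_one])
    have hD : ¬ 3 ∣ Nat.card (L ⊓ E : Subgroup X) := by
      intro hd
      obtain ⟨y, hy⟩ := exists_prime_orderOf_dvd_card' 3 hd
      have hy1 := ((hE y).1 y.2.2)
      have h4 : (y : X) * y = 1 := by
        rcases hcent y y.2.1 hy1.1 hy1.2 with e | e | e | e <;> rw [e]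
        · exact one_mul 1
        · exact htt
        · exact haa
        · calc t * a * (t * a) = t * (a * t) * a := by group
            _ = t * (t * a) * a := by rw [hta]
            _ = (t * t) * (a * a) := by group
            _ = 1 := by rw [htt, haa, one_mul]
      have h5 : y ^ 2 = 1 := by rw [pow_two]; exact Subtype.ext h4
      have := orderOf_dvd_of_pow_eq_one h5
      rw [hy] at this
      norm_num at this
    obtain ⟨y, hy1, hy2⟩ := SigF.exists_fixed_coset (A := zpowers h) (D := L ⊓ E) hA hD (by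
        intro g hg
        have hgL : g ∈ L := by
          have : zpowers h ≤ L := by rwa [zpowers_le]
          exact this hg
        apply mem_normalizer_of_conj
        intro x hx
        exact ⟨hL.conj_mem x hx.1 g, (mem_normalizer_iff.1 (hAE hg) x).1 hx.2⟩) (x := σ) (by
        intro g hg
        have hgL : g ∈ L := by
          have : zpowers h ≤ L := by rwa [zpowers_le]
          exact this hg
        have hσE : σ ∈ E := (hE σ).2 ⟨h1, h2⟩
        refine ⟨?_, E.mul_mem (E.inv_mem hσE) ((mem_normalizer_iff.1 (hAE hg) σ).1 hσE)⟩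
        have h6 := hL.conj_mem g hgL σ⁻¹
        have h7 : σ⁻¹ * (g * σ * g⁻¹) = (σ⁻¹ * g * σ⁻¹⁻¹) * g⁻¹ := by group
        change σ⁻¹ * (g * σ * g⁻¹) ∈ L
        rw [h7]
        exact L.mul_mem h6 (L.inv_mem hgL))
    have hyt : t * y = y * t := by
      have h6 := ((hE _).1 hy1.2).1
      calc t * y = (t * σ) * (σ⁻¹ * y) := by group
        _ = σ * (t * (σ⁻¹ * y)) := by rw [h1]; group
        _ = σ * (σ⁻¹ * y * t) := by rw [h6]
        _ = y * t := by group
    obtain ⟨k, hk⟩ := hX.two_pow ht1 (k := 1) htp hyt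
    have hy0 : y ≠ 1 := by
      rintro rfl
      apply h3
      have h8 : σ⁻¹ * 1 ∈ L := hy1.1
      rw [mul_one] at h8
      have := L.inv_mem h8
      rwa [inv_inv] at this
    exact hX.not_comm hy0 hk Nat.prime_three (by norm_num) hh3 (hy2 h (mem_zpowers h)).symm
  -- images of `a`
  have hτa : τ * a * τ⁻¹ = 1 ∨ τ * a * τ⁻¹ = t ∨ τ * a * τ⁻¹ = a ∨ τ * a * τ⁻¹ = t * a ∨ τ * a * τ⁻¹ = b ∨
      τ * a * τ⁻¹ = t * b := by
    apply hinv _ (hL.conj_mem a haL τ)
    · calc t * (τ * a * τ⁻¹) = (t * τ) * a * τ⁻¹ := by group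
        _ = τ * (t * a) * τ⁻¹ := by rw [hτt]; group
        _ = τ * a * (t * τ⁻¹) := by rw [hta]; group
        _ = τ * a * (τ⁻¹ * t) := by
          have : t * τ⁻¹ = τ⁻¹ * t := (Commute.inv_right hτt)
          rw [this]
        _ = _ := by group
    · calc τ * a * τ⁻¹ * (τ * a * τ⁻¹) = τ * (a * a) * τ⁻¹ := by group
        _ = 1 := by rw [haa]; group
  -- the swapping case
  have caseB : ∀ σ : X, t * σ = σ * t → σ ∉ L → σ * σ ∈ L → (σ * a * σ⁻¹ = b ∨ σ * a * σ⁻¹ = t * b) →
      σ * σ = 1 ∨ σ * σ = t := by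
    intro σ h1 h2 h3 h4
    obtain ⟨k, hk⟩ := hX.two_pow ht1 (k := 1) htp h1
    obtain ⟨i, -, hi⟩ := (Nat.dvd_prime_pow Nat.prime_two).1 (orderOf_dvd_of_pow_eq_one hk)
    have h5 := hord σ
    have h6 : σ ^ 4 = 1 := by
      rw [← orderOf_dvd_iff_pow_eq_one, hi]
      have hi2 : i ≤ 2 := by
        by_contra hcon
        push Not at hcon
        have : 2 ^ 3 ≤ 2 ^ i := Nat.pow_le_pow_right (by norm_num) hcon
        omega
      exact pow_dvd_pow 2 hi2
    have h7 : σ * σ * (σ * σ) = 1 := by
      rw [← h6]; simp [pow_succ, mul_assoc]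
    have hc : σ * (σ * σ) * σ⁻¹ = σ * σ := by group
    have htσ : σ * t * σ⁻¹ = t := by rw [← h1]; group
    rcases hinv _ h3 (Commute.mul_right h1 h1) h7 with e | e | e | e | e | e
    · exact Or.inl e
    · exact Or.inr e
    · exfalso
      rw [e] at hc
      rcases h4 with h4 | h4
      · exact hab1 (hc.symm.trans h4)
      · exact hab2 (hc.symm.trans h4)
    · exfalso
      rw [e] at hc
      have h8 : σ * (t * a) * σ⁻¹ = t * (σ * a * σ⁻¹) := by
        calc σ * (t * a) * σ⁻¹ = (σ * t * σ⁻¹) * (σ * a * σ⁻¹) := by group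
          _ = _ := by rw [htσ]
      rw [h8] at hc
      have h9 : σ * a * σ⁻¹ = a := mul_left_cancel hc
      rcases h4 with h4 | h4
      · exact hab1 (h9.symm.trans h4)
      · exact hab2 (h9.symm.trans h4)
    · exfalso
      rw [e] at hc
      rcases h4 with h4 | h4
      · apply hab1
        have : σ * a * σ⁻¹ = σ * b * σ⁻¹ := by rw [h4, hc]
        exact mul_left_cancel (mul_right_cancel this)
      · apply hab2
        have : σ * a * σ⁻¹ = σ * (t * b) * σ⁻¹ := by
          rw [h4]
          calc t * b = (σ * t * σ⁻¹) * (σ * b * σ⁻¹) := by rw [htσ, hc]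
            _ = _ := by group
        exact mul_left_cancel (mul_right_cancel this)
    · exfalso
      rw [e] at hc
      have hb : σ * b * σ⁻¹ = b := by
        have h8 : σ * (t * b) * σ⁻¹ = t * (σ * b * σ⁻¹) := by
          calc σ * (t * b) * σ⁻¹ = (σ * t * σ⁻¹) * (σ * b * σ⁻¹) := by group
            _ = _ := by rw [htσ]
        rw [h8] at hc
        exact mul_left_cancel hc
      rcases h4 with h4 | h4
      · apply hab1
        have : σ * a * σ⁻¹ = σ * b * σ⁻¹ := by rw [h4, hb]
        exact mul_left_cancel (mul_right_cancel this)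
      · apply hab2
        have : σ * a * σ⁻¹ = σ * (t * b) * σ⁻¹ := by rw [h4, hc]
        exact mul_left_cancel (mul_right_cancel this)
  have htτ : τ * t * τ⁻¹ = t := by rw [← hτt]; group
  rcases hτa with e | e | e | e | e
  · apply ha1
    calc a = τ⁻¹ * (τ * a * τ⁻¹) * τ := by group
      _ = 1 := by rw [e]; group
  · apply hat
    have : τ * a * τ⁻¹ = τ * t * τ⁻¹ := by rw [e, htτ]
    exact mul_left_cancel (mul_right_cancel this)
  · refine caseA τ hτt ?_ hτL
    calc a * τ = (τ * a * τ⁻¹) * τ := by rw [e]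
      _ = τ * a := by group
  · refine caseA (τ * b) (Commute.mul_right hτt htb) ?_ ?_
    · have h1 : τ * b * a * (τ * b)⁻¹ = a := by
        calc τ * b * a * (τ * b)⁻¹ = τ * (b * a * b⁻¹) * τ⁻¹ := by group
          _ = τ * (t * a) * τ⁻¹ := by rw [hba]
          _ = (τ * t * τ⁻¹) * (τ * a * τ⁻¹) := by group
          _ = t * (t * a) := by rw [htτ, e]
          _ = (t * t) * a := by group
          _ = a := by rw [htt, one_mul]
      calc a * (τ * b) = (τ * b * a * (τ * b)⁻¹) * (τ * b) := by rw [h1]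
        _ = τ * b * a := by group
    · intro h
      apply hτL
      have : τ = τ * b * b⁻¹ := by group
      rw [this]; exact L.mul_mem h (L.inv_mem hbL)
  · -- swapping
    have h1 := caseB τ hτt hτL hτ2 e
    have ha2 : a⁻¹ = a := inv_eq_of_mul_eq_one_left haa
    have h2 : (τ * a) * (τ * a) = 1 ∨ (τ * a) * (τ * a) = t := by
      apply caseB
      · exact Commute.mul_right hτt hta
      · intro h
        apply hτL
        have : τ = τ * a * a⁻¹ := by group
        rw [this]; exact L.mul_mem h (L.inv_mem haL)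
      · have h3 : (τ * a) * (τ * a) = (τ * a * τ⁻¹) * (τ * τ) * a := by group
        rw [h3]
        exact L.mul_mem (L.mul_mem (hL.conj_mem a haL τ) hτ2) haL
      · have h3 : τ * a * a * (τ * a)⁻¹ = τ * a * τ⁻¹ := by
          rw [mul_inv_rev, ha2]
          calc τ * a * a * (a * τ⁻¹) = τ * a * (a * a) * τ⁻¹ := by group
            _ = _ := by rw [haa, mul_one]
        rw [h3]; exact e
    have h3 : (τ * a) * (τ * a) = (τ * a * τ⁻¹) * (τ * τ) * a := by group
    rw [h3] at h2
    -- so the conjugate of `a` is `a` or `t a`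
    have h4 : τ * a * τ⁻¹ = a ∨ τ * a * τ⁻¹ = t * a := by
      have key : ∀ u v : X, (u = 1 ∨ u = t) → (τ * a * τ⁻¹) * u * a = v → (v = 1 ∨ v = t) →
          τ * a * τ⁻¹ = a ∨ τ * a * τ⁻¹ = t * a := by
        intro u v hu huv hv
        have h5 : τ * a * τ⁻¹ = v * a * u := by
          rw [← huv]
          have huu : u * u = 1 := by rcases hu with rfl | rfl; exact one_mul 1; exact htt
          calc τ * a * τ⁻¹ = τ * a * τ⁻¹ * (u * (a * a) * u) := by rw [haa, mul_one, huu, mul_one]
            _ = _ := by group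
        rcases hu with hu | hu <;> rcases hv with hv | hv <;> rw [hu, hv] at h5
        · left; rw [h5]; group
        · right; rw [h5]; group
        · right; rw [h5, hta]; group
        · left
          rw [h5, hta]
          calc a * t * t = a * (t * t) := by group
            _ = a := by rw [htt, mul_one]
      exact key _ _ h1 rfl h2
    rcases h4 with h4 | h4 <;> rcases e with e | e
    · exact hab1 (h4.symm.trans e)
    · exact hab2 (h4.symm.trans e)
    · apply hab2
      calc a = (t * t) * a := by rw [htt, one_mul]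
        _ = t * (t * a) := by group
        _ = t * b := by rw [← h4, e]
    · apply hab1
      have : t * a = t * b := h4.symm.trans e
      exact mul_left_cancel this

def tt6 : Equiv.Perm (Fin 6) := Equiv.swap 0 1 * Equiv.swap 2 3
def aa6 : Equiv.Perm (Fin 6) := Equiv.swap 0 2 * Equiv.swap 1 3
def bb6 : Equiv.Perm (Fin 6) := Equiv.swap 0 1 * Equiv.swap 4 5
def hh6 : Equiv.Perm (Fin 6) := Equiv.swap 1 2 * Equiv.swap 2 3

set_option maxRecDepth 100000 in
theorem inv6 : ∀ x : Equiv.Perm (Fin 6), tt6 * x = x * tt6 → x * x = 1 → Equiv.Perm.sign x = 1 →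
    x = 1 ∨ x = tt6 ∨ x = aa6 ∨ x = tt6 * aa6 ∨ x = bb6 ∨ x = tt6 * bb6 := by decide +kernel

set_option maxRecDepth 100000 in
theorem cent6 : ∀ x : Equiv.Perm (Fin 6), tt6 * x = x * tt6 → aa6 * x = x * aa6 → Equiv.Perm.sign x = 1 →
    x = 1 ∨ x = tt6 ∨ x = aa6 ∨ x = tt6 * aa6 := by decide +kernel

theorem top_six {X : Type*} [Group X] [Finite X] (hX : CIT X) (hord : ∀ x : X, orderOf x ≤ 5)
    (L : Subgroup X) [hL : L.Normal] (hq : IsPGroup 2 (X ⧸ L))
    (hcls : ∀ s t : L, orderOf s = 2 → orderOf t = 2 → ∃ g : L, g * s * g⁻¹ = t)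
    (e : L ≃* alternatingGroup (Fin 6)) : L = ⊤ := by
  have hs : ∀ x : Equiv.Perm (Fin 6), Equiv.Perm.sign x = 1 → ∃ y : L, ((e y : alternatingGroup (Fin 6)) : Equiv.Perm (Fin 6)) = x := by
    intro x hx
    exact ⟨e.symm ⟨x, Equiv.Perm.mem_alternatingGroup.2 hx⟩, by rw [e.apply_symm_apply]⟩
  have hinj : ∀ y z : L, ((e y : alternatingGroup (Fin 6)) : Equiv.Perm (Fin 6)) = e z → y = z := fun y z h =>
    e.injective (Subtype.ext h)
  obtain ⟨t, ht⟩ := hs tt6 (by decide)
  obtain ⟨a, ha⟩ := hs aa6 (by decide)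
  obtain ⟨b, hb⟩ := hs bb6 (by decide)
  obtain ⟨h, hh⟩ := hs hh6 (by decide)
  have hm : ∀ y z : L, ((e (y * z) : alternatingGroup (Fin 6)) : Equiv.Perm (Fin 6)) =
      (e y : Equiv.Perm (Fin 6)) * e z := fun y z => by rw [map_mul]; rfl
  have hi : ∀ y : L, ((e y⁻¹ : alternatingGroup (Fin 6)) : Equiv.Perm (Fin 6)) =
      ((e y : Equiv.Perm (Fin 6)))⁻¹ := fun y => by rw [map_inv]; rfl
  have h1 : ((e 1 : alternatingGroup (Fin 6)) : Equiv.Perm (Fin 6)) = 1 := by rw [map_one]; rfl
  have hto : orderOf t = 2 := by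
    apply orderOf_eq_prime
    · apply hinj; rw [pow_two, hm, ht, h1]; decide
    · intro h; rw [h, h1] at ht; revert ht; decide
  have hho : orderOf h = 3 := by
    apply orderOf_eq_prime
    · apply hinj; rw [pow_succ, pow_two, hm, hm, hh, h1]; decide
    · intro h'; rw [h', h1] at hh; revert hh; decide
  refine top_six_aux hX hord L hq t.2 a.2 b.2 h.2 (by rw [Subgroup.orderOf_coe, hto]) ?_
    (congrArg Subtype.val (hinj (a * a) 1 (by rw [hm, ha, h1]; decide)))
    (congrArg Subtype.val (hinj (t * a) (a * t) (by rw [hm, hm, ha, ht]; decide)))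
    (congrArg Subtype.val (hinj (t * b) (b * t) (by rw [hm, hm, hb, ht]; decide)))
    (fun h => ?_) (fun h => ?_) (fun h => ?_) (fun h => ?_)
    (congrArg Subtype.val (hinj (b * a * b⁻¹) (t * a) (by rw [hm, hm, hm, hi, hb, ha, ht]; decide)))
    (congrArg Subtype.val (hinj (h * t * h⁻¹) a (by rw [hm, hm, hi, hh, ha, ht]; decide)))
    (congrArg Subtype.val (hinj (h * a * h⁻¹) (t * a) (by rw [hm, hm, hm, hi, hh, ha, ht]; decide)))
    (by rw [Subgroup.orderOf_coe, hho]) ?_ ?_
  · intro s hs hs2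
    obtain ⟨g, hg⟩ := hcls ⟨s, hs⟩ t (by rw [Subgroup.orderOf_mk, hs2]) hto
    exact ⟨g, g.2, congrArg Subtype.val hg⟩
  · have : a = 1 := Subtype.ext h
    rw [this, h1] at ha
    revert ha; decide
  · have : a = t := Subtype.ext h
    rw [this, ht] at ha
    revert ha; decide
  · have : a = b := Subtype.ext h
    rw [this, hb] at ha
    revert ha; decide
  · have : a = t * b := Subtype.ext h
    rw [this, hm, hb, ht] at ha
    revert ha; decide
  · intro x hx hx1 hx2
    set y : L := ⟨x, hx⟩ with hy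
    have e1 : t * y = y * t := Subtype.ext hx1
    have e2 : y * y = 1 := Subtype.ext hx2
    have e1' := congrArg (fun z : L => ((e z : alternatingGroup (Fin 6)) : Equiv.Perm (Fin 6))) e1
    have e2' := congrArg (fun z : L => ((e z : alternatingGroup (Fin 6)) : Equiv.Perm (Fin 6))) e2
    simp only [hm, ht, h1] at e1' e2'
    have hsg : Equiv.Perm.sign ((e y : alternatingGroup (Fin 6)) : Equiv.Perm (Fin 6)) = 1 :=
      Equiv.Perm.mem_alternatingGroup.1 (e y).2
    rcases inv6 _ e1' e2' hsg with h | h | h | h | h | h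
    · left; exact congrArg Subtype.val (hinj y 1 (by rw [h, h1]))
    · right; left; exact congrArg Subtype.val (hinj y t (by rw [h, ht]))
    · right; right; left; exact congrArg Subtype.val (hinj y a (by rw [h, ha]))
    · right; right; right; left; exact congrArg Subtype.val (hinj y (t * a) (by rw [h, hm, ha, ht]))
    · right; right; right; right; left; exact congrArg Subtype.val (hinj y b (by rw [h, hb]))
    · right; right; right; right; right; exact congrArg Subtype.val (hinj y (t * b) (by rw [h, hm, hb, ht]))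
  · intro x hx hx1 hx2
    set y : L := ⟨x, hx⟩ with hy
    have e1 : t * y = y * t := Subtype.ext hx1
    have e2 : a * y = y * a := Subtype.ext hx2
    have e1' := congrArg (fun z : L => ((e z : alternatingGroup (Fin 6)) : Equiv.Perm (Fin 6))) e1
    have e2' := congrArg (fun z : L => ((e z : alternatingGroup (Fin 6)) : Equiv.Perm (Fin 6))) e2
    simp only [hm, ht, ha] at e1' e2'
    have hsg : Equiv.Perm.sign ((e y : alternatingGroup (Fin 6)) : Equiv.Perm (Fin 6)) = 1 :=
      Equiv.Perm.mem_alternatingGroup.1 (e y).2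
    rcases cent6 _ e1' e2' hsg with h | h | h | h
    · left; exact congrArg Subtype.val (hinj y 1 (by rw [h, h1]))
    · right; left; exact congrArg Subtype.val (hinj y t (by rw [h, ht]))
    · right; right; left; exact congrArg Subtype.val (hinj y a (by rw [h, ha]))
    · right; right; right; exact congrArg Subtype.val (hinj y (t * a) (by rw [h, hm, ha, ht]))

end Cfsg.Agent.JY
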