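import Mathlib
import Cfsg.Agent.H32.SEBS
import Cfsg.Agent.StrEmb.Basic
import Cfsg.Agent.SigO.Cores

/-! A criterion for strong embedding; solvable groups with trivial odd core. -/

set_option autoImplicit false
set_option linter.all false

namespace Cfsg.Agent.JY.U

open Subgroup
open scoped Pointwise

universe u

variable {G : Type u} [Group G] [Finite G]

theorem sylow_sup_conj (S : Sylow 2 G) {M : Subgroup G} (hSM : (S : Subgroup G) ≤ M) {W : Subgroup G}
    (hW : IsPGroup 2 W) (hWM : W ≤ M) : ∃ m ∈ M, MulAut.conj m • W ≤ (S : Subgroup G) := by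
  have : Fact (Nat.Prime 2) := ⟨Nat.prime_two⟩
  obtain ⟨n, hn, T, hTM, hT, hST, hWT⟩ := H9.exists_common_pgroup (N := M) S.2 hW hSM hWM
  refine ⟨n, hn, ?_⟩
  have : T = (S : Subgroup G) := S.3 hT hST
  rwa [this] at hWT

theorem isPGroup_zpowers_two {t : G} (ht : orderOf t = 2) : IsPGroup 2 (Subgroup.zpowers t) := by
  rw [IsPGroup.iff_card]
  exact ⟨1, by rw [Nat.card_zpowers, ht, pow_one]⟩

theorem exists_invol_center {P : Type*} [Group P] [Finite P] (hP : IsPGroup 2 P) [Nontrivial P] :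
    ∃ z ∈ Subgroup.center P, orderOf z = 2 := by
  have : Fact (Nat.Prime 2) := ⟨Nat.prime_two⟩
  have h1 := hP.center_nontrivial
  have h2 : IsPGroup 2 (Subgroup.center P) := hP.to_subgroup _
  obtain ⟨n, hn⟩ := IsPGroup.iff_card.1 h2
  have h3 : 2 ∣ Nat.card (Subgroup.center P) := by
    rcases n with _ | n
    · rw [pow_zero] at hn
      have := Finite.one_lt_card (α := Subgroup.center P)
      omega
    · rw [hn]
      exact dvd_pow_self 2 (Nat.succ_ne_zero n)
  obtain ⟨z, hz⟩ := exists_prime_orderOf_dvd_card' 2 h3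
  exact ⟨z, z.2, by rwa [Subgroup.orderOf_coe]⟩

theorem orderOf_conj_eq (g t : G) : orderOf (g * t * g⁻¹) = orderOf t := (MulAut.conj g).orderOf_eq t

/-- the criterion -/
theorem se_or_top (S : Sylow 2 G) {M : Subgroup G} (hN : Subgroup.normalizer ((S : Subgroup G) : Set G) ≤ M)
    (hC : ∀ t ∈ (S : Subgroup G), orderOf t = 2 → Subgroup.centralizer ({t} : Set G) ≤ M)
    (hS : (S : Subgroup G) ≠ ⊥) : M = ⊤ ∨ Cfsg.IsStronglyEmbedded M := by
  classical
  have : Fact (Nat.Prime 2) := ⟨Nat.prime_two⟩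
  by_cases hM : M = ⊤
  · exact Or.inl hM
  right
  have hSM : (S : Subgroup G) ≤ M := Subgroup.le_normalizer.trans hN
  have hC' : ∀ t ∈ M, orderOf t = 2 → Subgroup.centralizer ({t} : Set G) ≤ M := by
    intro t ht ht2 c hc
    obtain ⟨n, hn, hnt⟩ := sylow_sup_conj S hSM (isPGroup_zpowers_two ht2) (Subgroup.zpowers_le.2 ht)
    have h1 : n * t * n⁻¹ ∈ (S : Subgroup G) := H9.conj_smul_le_iff.1 hnt t (Subgroup.mem_zpowers t)
    have h2 : n * c * n⁻¹ ∈ M := by
      apply hC _ h1 (by rw [orderOf_conj_eq, ht2])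
      rw [Subgroup.mem_centralizer_singleton_iff] at hc ⊢
      calc n * c * n⁻¹ * (n * t * n⁻¹) = n * (c * t) * n⁻¹ := by group
        _ = n * (t * c) * n⁻¹ := by rw [hc]
        _ = _ := by group
    have h3 : c = n⁻¹ * (n * c * n⁻¹) * n := by group
    rw [h3]
    exact mul_mem (mul_mem (inv_mem hn) h2) hn
  have : Nontrivial ↥(S : Subgroup G) := (Subgroup.nontrivial_iff_ne_bot _).2 hS
  obtain ⟨z, hz, hz2⟩ := exists_invol_center S.2
  have hz2' : orderOf (z : G) = 2 := by rwa [Subgroup.orderOf_coe]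
  refine ⟨hM, ?_, ?_⟩
  · have h1 := orderOf_dvd_natCard (⟨(z : G), hSM z.2⟩ : M)
    rw [Subgroup.orderOf_mk, hz2'] at h1
    exact even_iff_two_dvd.2 h1
  · intro g hg
    rw [← Nat.not_even_iff_odd]
    intro hev
    apply hg
    set D : Subgroup G := M ⊓ M.map (MulAut.conj g).toMonoidHom with hD
    have hCD : ∀ t ∈ D, orderOf t = 2 → Subgroup.centralizer ({t} : Set G) ≤ D := by
      rintro t ⟨ht, s, hs, hst⟩ ht2
      refine le_inf (hC' t ht ht2) ?_
      intro c hc
      have hst' : g * s * g⁻¹ = t := hst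
      have hs2 : orderOf s = 2 := by rw [← ht2, ← hst', orderOf_conj_eq]
      refine ⟨g⁻¹ * c * g, hC' s hs hs2 ?_, ?_⟩
      · rw [Subgroup.mem_centralizer_singleton_iff] at hc ⊢
        have h5 : s = g⁻¹ * t * g := by rw [← hst']; group
        rw [h5]
        calc g⁻¹ * c * g * (g⁻¹ * t * g) = g⁻¹ * (c * t) * g := by group
          _ = g⁻¹ * (t * c) * g := by rw [hc]
          _ = _ := by group
      · show g * (g⁻¹ * c * g) * g⁻¹ = c
        group
    -- a Sylow of D
    obtain ⟨T⟩ : Nonempty (Sylow 2 D) := inferInstance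
    have hTne : (T : Subgroup D) ≠ ⊥ := T.ne_bot_of_dvd_card hev.two_dvd
    have hT'p : IsPGroup 2 ((T : Subgroup D).map D.subtype) := T.2.map _
    have hT'D : (T : Subgroup D).map D.subtype ≤ D := Subgroup.map_subtype_le _
    obtain ⟨n, hn, hnT⟩ := sylow_sup_conj S hSM hT'p (hT'D.trans inf_le_left)
    obtain ⟨t, htT, ht2⟩ : ∃ t ∈ (T : Subgroup D), orderOf t = 2 := by
      obtain ⟨k, hk⟩ := IsPGroup.iff_card.1 T.2
      have h3 : 2 ∣ Nat.card (T : Subgroup D) := by
        rcases k with _ | k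
        · rw [pow_zero, Subgroup.card_eq_one] at hk
          exact absurd hk hTne
        · rw [hk]; exact dvd_pow_self 2 (Nat.succ_ne_zero k)
      obtain ⟨x, hx⟩ := exists_prime_orderOf_dvd_card' 2 h3
      exact ⟨x, x.2, by rwa [Subgroup.orderOf_coe]⟩
    have ht2' : orderOf (t : G) = 2 := by rwa [Subgroup.orderOf_coe]
    -- `n⁻¹ z n` centralizes `t`
    have h1 : n * (t : G) * n⁻¹ ∈ (S : Subgroup G) := H9.conj_smul_le_iff.1 hnT t ⟨t, htT, rfl⟩
    have h2 : n⁻¹ * (z : G) * n ∈ D := by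
      apply hCD t t.2 ht2'
      rw [Subgroup.mem_centralizer_singleton_iff]
      have h3 := congrArg (Subgroup.subtype _) (Subgroup.mem_center_iff.1 hz ⟨_, h1⟩)
      have h4 : n * (t : G) * n⁻¹ * z = z * (n * (t : G) * n⁻¹) := h3
      calc n⁻¹ * (z : G) * n * t = n⁻¹ * (z * (n * (t : G) * n⁻¹)) * n := by group
        _ = n⁻¹ * (n * (t : G) * n⁻¹ * z) * n := by rw [h4]
        _ = _ := by group
    have h3 : ∀ s ∈ (S : Subgroup G), n⁻¹ * s * n ∈ D := by
      intro s hs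
      apply hCD _ h2 (by
        have := orderOf_conj_eq n⁻¹ (z : G)
        rw [inv_inv] at this
        rw [this, hz2'])
      rw [Subgroup.mem_centralizer_singleton_iff]
      have h4 := congrArg (Subgroup.subtype _) (Subgroup.mem_center_iff.1 hz ⟨s, hs⟩)
      have h5 : s * (z : G) = z * s := h4
      calc n⁻¹ * s * n * (n⁻¹ * z * n) = n⁻¹ * (s * z) * n := by group
        _ = n⁻¹ * (z * s) * n := by rw [h5]
        _ = _ := by group
    -- conjugate back
    have h4 : MulAut.conj (g⁻¹ * n⁻¹) • (S : Subgroup G) ≤ M := by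
      rw [H9.conj_smul_le_iff]
      intro s hs
      obtain ⟨-, y, hy, hys⟩ := h3 s hs
      have h5 : g * y * g⁻¹ = n⁻¹ * s * n := hys
      have h6 : g⁻¹ * n⁻¹ * s * (g⁻¹ * n⁻¹)⁻¹ = y := by
        calc g⁻¹ * n⁻¹ * s * (g⁻¹ * n⁻¹)⁻¹ = g⁻¹ * (n⁻¹ * s * n) * g := by group
          _ = g⁻¹ * (g * y * g⁻¹) * g := by rw [h5]
          _ = y := by group
      rw [h6]; exact hy
    obtain ⟨m, hm, hmS⟩ := sylow_sup_conj S hSM (H9.isPGroup_conj_smul _ S.2) h4
    rw [H9.conj_smul_smul] at hmS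
    have h5 : m * (g⁻¹ * n⁻¹) ∈ Subgroup.normalizer ((S : Subgroup G) : Set G) := by
      have h8 : (m * (g⁻¹ * n⁻¹)) • S = S := by
        apply Sylow.ext
        rw [Sylow.coe_subgroup_smul]
        exact Subgroup.eq_of_le_of_card_ge hmS (le_of_eq (by
          rw [Nat.card_congr (Subgroup.equivSMul (MulAut.conj (m * (g⁻¹ * n⁻¹))) (S : Subgroup G)).toEquiv]))
      exact Sylow.smul_eq_iff_mem_normalizer.1 h8
    have h6 := hN h5
    have h7 : g = n⁻¹ * (m * (g⁻¹ * n⁻¹))⁻¹ * m := by group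
    rw [h7]
    exact mul_mem (mul_mem (inv_mem hn) (inv_mem h6)) hm

/-- solvable, trivial odd core, abelian Sylow 2-subgroup: it is normal -/
theorem normal_of_comm {Y : Type*} [Group Y] [Finite Y] (hsol : Group.IsSolvable Y) (hO : Cfsg.pPrimeCore 2 Y = ⊥)
    (T : Sylow 2 Y) (hT : ∀ a ∈ (T : Subgroup Y), ∀ b ∈ (T : Subgroup Y), a * b = b * a) :
    (T : Subgroup Y) = Cfsg.pCore 2 Y := by
  have : Fact (Nat.Prime 2) := ⟨Nat.prime_two⟩
  apply le_antisymm _ (Solv.pCore_le_sylow T)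
  refine le_trans ?_ (SigO.centralizer_pCore_le (p := 2) hO)
  intro a ha
  rw [Subgroup.mem_centralizer_iff]
  intro b hb
  exact (hT a ha b (Solv.pCore_le_sylow T hb)).symm

end Cfsg.Agent.JY.U
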