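import Cfsg.Agent.H53.T3
import Cfsg.Agent.H39.S4781H
import Cfsg.Agent.JY.S4781A

/-!
# S4781, piece (S10) (helper60)
-/

set_option autoImplicit false
set_option linter.style.haveILetI false
set_option linter.unusedSectionVars false

namespace Cfsg.Agent.H53.D3

open scoped ComplexConjugate BigOperators commutatorElement
open Cfsg Cfsg.Agent.CharBase Cfsg.Agent.Char Cfsg.Agent.H75

universe u

variable {G : Type u} [Group G] [Finite G] {K L Y C : Subgroup G} [hL : L.Normal] {p r k : ℕ}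

theorem commLe (H : Subgroup G) : ⁅H, H⁆ ≤ H := by
  rw [Subgroup.commutator_le]
  intro a ha b hb
  exact mul_mem (mul_mem (mul_mem ha hb) (inv_mem ha)) (inv_mem hb)

/-- stabilisers meet `R` trivially -/
theorem Core2.s10a (c : Core2 G K L Y C p r k) {R L1 : Subgroup G} (hRH : R ≤ ⁅L, L⁆)
    (hRL : R ≤ L1)
    (hMR : ⁅⁅L, L⁆, ⁅L, L⁆⁆ ⊓ R = ⊥) (h1 : ⁅⁅L, L⁆, ⁅L, L⁆⁆ ⊓ L1 = ⊥)
    (h2 : ⁅⁅L, L⁆, ⁅L, L⁆⁆ ⊔ L1 = L) (hMRc : ⁅⁅⁅L, L⁆, ⁅L, L⁆⁆, R⁆ = ⁅⁅L, L⁆, ⁅L, L⁆⁆)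
    (μ : ↥⁅⁅L, L⁆, ⁅L, L⁆⁆ →* ℂˣ) (hμ : μ ≠ 1) {v : G} (hv : v ∈ R)
    (hvS : v ∈ St ⁅⁅L, L⁆, ⁅L, L⁆⁆ μ) : v = 1 := by
  by_contra hv1
  have hMH : ⁅⁅L, L⁆, ⁅L, L⁆⁆ ≤ ⁅L, L⁆ := commLe _
  have hHL : ⁅L, L⁆ ≤ L := commLe _
  have hvM : v ∉ ⁅⁅L, L⁆, ⁅L, L⁆⁆ := by
    intro h
    have h3 : v ∈ ⁅⁅L, L⁆, ⁅L, L⁆⁆ ⊓ R := ⟨h, hv⟩
    rw [hMR, Subgroup.mem_bot] at h3
    exact hv1 h3
  obtain ⟨⟨ψ, hψ1, hψ⟩, hI⟩ := c.hyp.deg_L ⁅⁅L, L⁆, ⁅L, L⁆⁆ L1 hMH h1 h2 μ hμ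
  -- I ≤ H ⊔ C
  have hIle : ∀ i ∈ L1 ⊓ St ⁅⁅L, L⁆, ⁅L, L⁆⁆ μ, i ∈ ⁅L, L⁆ ⊔ C := by
    intro i hi
    have hcomm : i * v = v * i := hI i hi v ⟨hRL hv, hvS⟩
    have hiL : i ∈ L := h2 ▸ (le_sup_right : L1 ≤ ⁅⁅L, L⁆, ⁅L, L⁆⁆ ⊔ L1) hi.1
    have hiL' : i ∈ ⁅L, L⁆ ⊔ (L ⊓ Y) := by rw [c.h4]; exact hiL
    obtain ⟨h, hh, b, hb, rfl⟩ := Subgroup.mem_sup_of_normal_left.1 hiL'
    have hbC : b ∈ C := by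
      by_contra hbC
      apply hvM
      refine c.fpV hb hbC (hRH hv) ?_
      have e1 : b * v * b⁻¹ * v⁻¹ = h⁻¹ * v * (h⁻¹)⁻¹ * v⁻¹ := by
        have e2 : b * v * b⁻¹ = h⁻¹ * v * h := by
          calc b * v * b⁻¹ = h⁻¹ * (h * b * v) * b⁻¹ := by group
            _ = h⁻¹ * (v * (h * b)) * b⁻¹ := by rw [hcomm]
            _ = h⁻¹ * v * h := by group
        rw [e2, inv_inv]
      rw [e1]
      exact Subgroup.commutator_mem_commutator (inv_mem hh) (hRH hv)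
    exact mul_mem ((le_sup_left : ⁅L, L⁆ ≤ ⁅L, L⁆ ⊔ C) hh) ((le_sup_right : C ≤ ⁅L, L⁆ ⊔ C) hbC)
  have hSle : L ⊓ St ⁅⁅L, L⁆, ⁅L, L⁆⁆ μ ≤ ⁅L, L⁆ ⊔ C := by
    intro l hl
    have hl' : l ∈ ⁅⁅L, L⁆, ⁅L, L⁆⁆ ⊔ L1 := by rw [h2]; exact hl.1
    obtain ⟨m, hm, l1, hl1, rfl⟩ := Subgroup.mem_sup_of_normal_left.1 hl'
    have hl1S : l1 ∈ St ⁅⁅L, L⁆, ⁅L, L⁆⁆ μ := by
      have h3 := mul_mem (inv_mem (le_St _ μ hm)) hl.2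
      rwa [inv_mul_cancel_left] at h3
    exact mul_mem ((le_sup_left : ⁅L, L⁆ ≤ ⁅L, L⁆ ⊔ C) (hMH hm)) (hIle l1 ⟨hl1, hl1S⟩)
  have hCL : C ≤ L := c.hCB.trans inf_le_left
  have hHCL : ⁅L, L⁆ ⊔ C ≤ L := sup_le hHL hCL
  obtain ⟨ψ0, hψ01, hψ0⟩ := c.hdeg
  have hdvd : deg ψ0 ∣ deg ψ := by
    rw [hψ0, hψ, ← Subgroup.inf_relIndex_left L (St _ μ)]
    exact Subgroup.relIndex_dvd_of_le_left L hSle
  have heq := c.hyp.anti ψ0 ψ hψ01 hdvd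
  have hSeq : L ⊓ St ⁅⁅L, L⁆, ⁅L, L⁆⁆ μ = ⁅L, L⁆ ⊔ C := by
    apply Subgroup.eq_of_le_of_card_ge hSle
    have e1 := Subgroup.relIndex_mul_relIndex ⊥ (⁅L, L⁆ ⊔ C) L bot_le hHCL
    have e2 := Subgroup.relIndex_mul_relIndex ⊥ (L ⊓ St ⁅⁅L, L⁆, ⁅L, L⁆⁆ μ) L bot_le inf_le_left
    rw [Subgroup.relIndex_bot_left, Subgroup.relIndex_bot_left] at e1 e2
    have h5 : (⁅L, L⁆ ⊔ C).relIndex L ≠ 0 := by
      intro h0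
      rw [h0, mul_zero] at e1
      exact (Nat.card_pos (α := L)).ne e1
    have h6 : (L ⊓ St ⁅⁅L, L⁆, ⁅L, L⁆⁆ μ).relIndex L = (⁅L, L⁆ ⊔ C).relIndex L := by
      rw [Subgroup.inf_relIndex_left, ← hψ0, heq, hψ]
    rw [h6, ← e1] at e2
    exact (Nat.eq_of_mul_eq_mul_right (Nat.pos_of_ne_zero h5) e2).ge
  -- μ is R-invariant
  have hRS : R ≤ St ⁅⁅L, L⁆, ⁅L, L⁆⁆ μ := by
    have h6 : R ≤ L ⊓ St ⁅⁅L, L⁆, ⁅L, L⁆⁆ μ := by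
      rw [hSeq]; exact hRH.trans le_sup_left
    exact h6.trans inf_le_right
  apply hμ
  have hker : ⁅⁅⁅L, L⁆, ⁅L, L⁆⁆, R⁆ ≤ μ.ker.map (⁅⁅L, L⁆, ⁅L, L⁆⁆).subtype := by
    rw [Subgroup.commutator_le]
    intro m hm x hx
    have hmn : x * m⁻¹ * x⁻¹ ∈ ⁅⁅L, L⁆, ⁅L, L⁆⁆ :=
      (inferInstance : (⁅⁅L, L⁆, ⁅L, L⁆⁆).Normal).conj_mem _ (inv_mem hm) x
    refine ⟨⟨m, hm⟩ * ⟨x * m⁻¹ * x⁻¹, hmn⟩, ?_, ?_⟩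
    · rw [SetLike.mem_coe, MonoidHom.mem_ker, map_mul]
      have h7 := (mem_St ⁅⁅L, L⁆, ⁅L, L⁆⁆ μ x).1 (hRS hx) ⟨m⁻¹, inv_mem hm⟩
      have h8 : μ ⟨x * m⁻¹ * x⁻¹, hmn⟩ = μ ⟨m⁻¹, inv_mem hm⟩ := h7
      rw [h8, ← map_mul]
      have h9 : (⟨m, hm⟩ * ⟨m⁻¹, inv_mem hm⟩ : ↥⁅⁅L, L⁆, ⁅L, L⁆⁆) = 1 :=
        Subtype.ext (mul_inv_cancel m)
      rw [h9, map_one]
    · change m * (x * m⁻¹ * x⁻¹) = ⁅m, x⁆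
      rw [commutatorElement_def]; group
  rw [hMRc] at hker
  apply MonoidHom.ext
  intro m
  obtain ⟨m', hm', hmm⟩ := hker m.2
  have h10 : m' = m := Subtype.ext hmm
  rw [← h10]
  exact hm'

theorem Core2.s10 (c : Core2 G K L Y C p r k)
    (hab : ∀ a ∈ ⁅⁅L, L⁆, ⁅L, L⁆⁆, ∀ b ∈ ⁅⁅L, L⁆, ⁅L, L⁆⁆, a * b = b * a)
    (hne : ⁅⁅L, L⁆, ⁅L, L⁆⁆ ≠ ⊥) (hrH : ¬ r ∣ Nat.card ↥⁅⁅L, L⁆, ⁅L, L⁆⁆)
    (hcomm : ⁅⁅⁅L, L⁆, ⁅L, L⁆⁆, ⁅L, L⁆⁆ = ⁅⁅L, L⁆, ⁅L, L⁆⁆) : False := by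
  classical
  have hMH : ⁅⁅L, L⁆, ⁅L, L⁆⁆ ≤ ⁅L, L⁆ := commLe _
  have hHL : ⁅L, L⁆ ≤ L := commLe _
  obtain ⟨R, L1, hRH, hRL, hL1, hnorm, hMR, hMRH, h1, h2, hMRc⟩ :=
    H39.S4781H.sz (L := L) (H := ⁅L, L⁆) (M := ⁅⁅L, L⁆, ⁅L, L⁆⁆) hHL hMH hab c.hr c.hV hrH hcomm
  have hst := fun (μ : ↥⁅⁅L, L⁆, ⁅L, L⁆⁆ →* ℂˣ) (hμ : μ ≠ 1) (v : G) (hv : v ∈ R)
    (hvS : v ∈ St ⁅⁅L, L⁆, ⁅L, L⁆⁆ μ) => Core2.s10a c hRH hRL hMR h1 h2 hMRc μ hμ hv hvS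
  -- R abelian
  have hRab : ∀ a ∈ R, ∀ b ∈ R, a * b = b * a := by
    intro a ha b hb
    have h3 : a * b * a⁻¹ * b⁻¹ ∈ ⁅⁅L, L⁆, ⁅L, L⁆⁆ ⊓ R :=
      Subgroup.mem_inf.2 ⟨Subgroup.commutator_mem_commutator (hRH ha) (hRH hb),
        mul_mem (mul_mem (mul_mem ha hb) (inv_mem ha)) (inv_mem hb)⟩
    rw [hMR, Subgroup.mem_bot] at h3
    have h4 : a * b * a⁻¹ = b := mul_inv_eq_one.1 h3
    exact mul_inv_eq_iff_eq_mul.1 h4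
  -- W nontrivial
  have hWnt : Nontrivial (↥⁅⁅L, L⁆, ⁅L, L⁆⁆ →* ℂˣ) := by
    rw [← Finite.one_lt_card_iff_nontrivial, card_hom']
    have h3 : ⁅⁅⁅L, L⁆, ⁅L, L⁆⁆, ⁅⁅L, L⁆, ⁅L, L⁆⁆⁆ = ⊥ := by
      rw [eq_bot_iff, Subgroup.commutator_le]
      intro a ha b hb
      rw [Subgroup.mem_bot, commutatorElement_def, hab a ha b hb]
      group
    rw [h3, Subgroup.relIndex_bot_left]
    exact (Subgroup.one_lt_card_iff_ne_bot _).2 hne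
  -- R cyclic
  have hRcyc : IsCyclic R := by
    letI : CommGroup R :=
      { (inferInstance : Group R) with
        mul_comm := fun a b => Subtype.ext (hRab a a.2 b b.2) }
    letI : MulDistribMulAction R (↥⁅⁅L, L⁆, ⁅L, L⁆⁆ →* ℂˣ) := homAct ⁅⁅L, L⁆, ⁅L, L⁆⁆ R
    refine JY.S4781A.cyclic_of_semireg (A := R) (W := ↥⁅⁅L, L⁆, ⁅L, L⁆⁆ →* ℂˣ) ?_
    intro a ha w hw
    by_contra hw1
    apply ha
    have h3 : (a : G) ∈ St ⁅⁅L, L⁆, ⁅L, L⁆⁆ w := (homAct_fix ⁅⁅L, L⁆, ⁅L, L⁆⁆ R a w).1 hw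
    exact Subtype.ext (hst w hw1 a a.2 h3)
  obtain ⟨⟨g, hg⟩, hgen⟩ := hRcyc.exists_generator
  -- g ≠ 1
  have hrk : 1 < r ^ k := Nat.one_lt_pow c.hk.ne' c.hr.one_lt
  have hg1 : g ≠ 1 := by
    rintro rfl
    have h3 : R = ⊥ := by
      rw [eq_bot_iff]
      intro x hx
      obtain ⟨n, hn⟩ := Subgroup.mem_zpowers_iff.1 (hgen ⟨x, hx⟩)
      have h4 : (1 : G) ^ n = x := by
        have := congrArg Subtype.val hn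
        rwa [Subgroup.coe_zpow] at this
      rw [one_zpow] at h4
      rw [Subgroup.mem_bot]; exact h4.symm
    rw [h3, sup_bot_eq] at hMRH
    have h5 := c.hV
    rw [← hMRH] at h5
    have h6 : (⁅⁅L, L⁆, ⁅L, L⁆⁆).relIndex (⁅⁅L, L⁆, ⁅L, L⁆⁆) = 1 := Subgroup.relIndex_self _
    have h7 : (⁅⁅L, L⁆, ⁅L, L⁆⁆).relIndex ⁅L, L⁆ = 1 := by
      rw [Subgroup.relIndex_eq_one]
      rw [hMRH]
    rw [c.hV] at h7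
    omega
  have hgM : g ∉ ⁅⁅L, L⁆, ⁅L, L⁆⁆ := by
    intro h
    have h3 : g ∈ ⁅⁅L, L⁆, ⁅L, L⁆⁆ ⊓ R := ⟨h, hg⟩
    rw [hMR, Subgroup.mem_bot] at h3
    exact hg1 h3
  -- elements of Y
  obtain ⟨x, hx, hxK⟩ := c.exists_x
  have hnt : Nontrivial (↥⁅L, L⁆ →* ℂˣ) := by
    rw [← Finite.one_lt_card_iff_nontrivial, card_hom', c.hV]
    exact hrk
  obtain ⟨μ0, hμ0⟩ := exists_ne (1 : ↥⁅L, L⁆ →* ℂˣ)
  obtain ⟨y, hyY, hyL, -⟩ := c.exists_y μ0 hμ0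
  -- power action modulo M
  set π := QuotientGroup.mk' ⁅⁅L, L⁆, ⁅L, L⁆⁆ with hπ
  have hact : ∀ t : G, ∃ n : ℤ, π (t * g * t⁻¹) = π g ^ n := by
    intro t
    have h3 : t * g * t⁻¹ ∈ ⁅L, L⁆ := (inferInstance : (⁅L, L⁆).Normal).conj_mem _ (hRH hg) t
    rw [← hMRH] at h3
    obtain ⟨m, hm, x', hx', he⟩ := Subgroup.mem_sup_of_normal_left.1 h3
    obtain ⟨n, hn⟩ := Subgroup.mem_zpowers_iff.1 (hgen ⟨x', hx'⟩)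
    have h4 : g ^ n = x' := by
      have := congrArg Subtype.val hn
      rwa [Subgroup.coe_zpow] at this
    refine ⟨n, ?_⟩
    rw [← he, map_mul, ← h4, map_zpow]
    have h5 : π m = 1 := (QuotientGroup.eq_one_iff m).2 hm
    rw [h5, one_mul]
  obtain ⟨a, ha⟩ := hact x
  obtain ⟨b, hb⟩ := hact y
  have hcj : ∀ (t w : G) (i j : ℤ), π (t * g * t⁻¹) = π g ^ i → π (w * g * w⁻¹) = π g ^ j →
      π (t * w * g * (t * w)⁻¹) = π g ^ (i * j) := by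
    intro t w i j hi hj
    have e1 : π (t * w * g * (t * w)⁻¹) = π t * π (w * g * w⁻¹) * (π t)⁻¹ := by
      simp only [map_mul, map_inv]
      group
    have e2 : π t * π g * (π t)⁻¹ = π g ^ i := by
      rw [← hi]; simp only [map_mul, map_inv]
    rw [e1, hj, ← conj_zpow, e2, ← zpow_mul]
  have hxy : π (x * y * g * (x * y)⁻¹) = π g ^ (a * b) := hcj x y a b ha hb
  have hyx : π (y * x * g * (y * x)⁻¹) = π g ^ (b * a) := hcj y x b a hb ha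
  set z := x⁻¹ * y⁻¹ * (x⁻¹)⁻¹ * (y⁻¹)⁻¹ with hz
  have hzB : z ∈ L ⊓ Y := by
    refine Subgroup.mem_inf.2 ⟨?_, ?_⟩
    · have h3 : y⁻¹ * x * y ∈ L := by
        have := hL.conj_mem x hx.1 y⁻¹
        rwa [inv_inv] at this
      have h4 : z = x⁻¹ * (y⁻¹ * x * y) := by rw [hz]; group
      rw [h4]
      exact mul_mem (inv_mem hx.1) h3
    · exact mul_mem (mul_mem (mul_mem (inv_mem hx.2) (inv_mem hyY)) (inv_mem (inv_mem hx.2)))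
        (inv_mem (inv_mem hyY))
  have hzg : z * g * z⁻¹ * g⁻¹ ∈ ⁅⁅L, L⁆, ⁅L, L⁆⁆ := by
    rw [← QuotientGroup.eq_one_iff]
    have e1 : π (x * y * g * (x * y)⁻¹) = π (y * x * g * (y * x)⁻¹) := by
      rw [hxy, hyx, mul_comm]
    change π (z * g * z⁻¹ * g⁻¹) = 1
    have e2 : z = (y * x)⁻¹ * (x * y) := by rw [hz]; group
    have e3 : z * g * z⁻¹ * g⁻¹ = (y * x)⁻¹ * (x * y * g * (x * y)⁻¹) * (y * x) * g⁻¹ := by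
      rw [e2]; group
    rw [e3, map_mul, map_mul, map_mul, e1, ← map_mul, ← map_mul, ← map_mul]
    have e4 : (y * x)⁻¹ * (y * x * g * (y * x)⁻¹) * (y * x) * g⁻¹ = 1 := by group
    rw [e4, map_one]
  have hzC : z ∈ C := by
    by_contra hzC
    exact hgM (c.fpV hzB hzC (hRH hg) hzg)
  have hzK : z ∈ K := c.hCK hzC
  have hxK' := c.mem_K_of_comm (x := x⁻¹) (t := y⁻¹) (inv_mem hx.1)
    (fun h => hyL (by have := inv_mem h; rwa [inv_inv] at this)) hzK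
  exact hxK (by have := inv_mem hxK'; rwa [inv_inv] at this)

end Cfsg.Agent.H53.D3
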