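import Cfsg.Agent.JY.V1C
import Cfsg.Agent.H79.NilpProd
import Cfsg.Agent.H4.Dom
import Cfsg.Agent.H74.Prin2

/-!
# The structure half for `S2219`, configuration `V4Sit`
-/

set_option autoImplicit false
set_option linter.style.haveILetI false
set_option linter.unusedSectionVars false

namespace Cfsg.Agent.JY.V1

open scoped ComplexConjugate
open Cfsg Cfsg.Agent.CharBase Cfsg.Agent.Blk Cfsg.Agent.BlkInd Cfsg.Agent.BlkC
open Cfsg.Agent.H4.K3

universe u

open Classical in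
/-- the structure half -/
structure Half {G : Type u} [Group G] [Finite G] [Fintype (IrrCharacter G)] (M : Ideal AlgInt)
    (k₁ k₂ e₁ : G) (K : Subgroup G) (φ : Fin 3 → IrrCharacter K) (ε : Fin 3 → ℤ) : Prop where
  comm : ∀ h ∈ K, k₁ * h = h * k₁
  dec : ∀ c : G, k₁ * c = c * k₁ → ∃ j : ℕ, ∃ h ∈ K, c = k₁ ^ j * h
  uniq : ∀ j : ℕ, k₁ ^ j ∈ K → k₁ ^ j = 1
  inv : ∀ h ∈ K, e₁ * h * e₁⁻¹ ∈ K
  inj : Function.Injective φ
  phi0 : φ 0 = oneIrr K
  eps0 : ε 0 = 1
  sg : ∀ i, ε i = 1 ∨ ε i = -1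
  sum : ∀ h : K, ∑ i, (ε i : ℂ) * (φ i : K → ℂ) h = if 3 ∣ orderOf h then 3 else 0
  val : ∀ i (h : K), 3 ∣ orderOf h → (ε i : ℂ) * (φ i : K → ℂ) h = 1
  fix : ∀ i (h h' : K), (h' : G) = e₁ * h * e₁⁻¹ → (φ i : K → ℂ) h' = (φ i : K → ℂ) h
  sing : ∀ χ ∈ principalBlock M G, ∀ h : K, 3 ∣ orderOf h →
    (χ : G → ℂ) (k₁ * h) = (χ : G → ℂ) (k₁ * k₂)
  kernel : ∀ y y' : K, ¬ 3 ∣ orderOf y → ¬ 3 ∣ orderOf y' →
    ∑ χ : IrrCharacter G, (if χ ∈ principalBlock M G then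
      (χ : G → ℂ) (k₁ * y) * conj ((χ : G → ℂ) (k₁ * y')) else 0) =
      3 * ∑ i, (φ i : K → ℂ) y * conj ((φ i : K → ℂ) y')

/-- automorphisms fix the characters -/
theorem fix_of_aut {K : Type u} [Group K] [Finite K] {φ : Fin 3 → IrrCharacter K} {ε : Fin 3 → ℤ}
    (inj : Function.Injective φ) (phi0 : φ 0 = oneIrr K) (eps0 : ε 0 = 1)
    (sg : ∀ i, ε i = 1 ∨ ε i = -1)
    (sum : ∀ h : K, ∑ i, (ε i : ℂ) * (φ i : K → ℂ) h = if 3 ∣ orderOf h then 3 else 0)
    (α : K ≃* K) (i : Fin 3) (h : K) : (φ i : K → ℂ) (α h) = (φ i : K → ℂ) h := by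
  classical
  haveI := Fintype.ofFinite K
  haveI := Fintype.ofFinite (IrrCharacter K)
  -- inner products with F
  set F : K → ℂ := fun h => ∑ i, (ε i : ℂ) * (φ i : K → ℂ) h with hF
  have hFα : ∀ h, F (α h) = F h := by
    intro h
    simp only [hF]
    rw [sum, sum, MulEquiv.orderOf_eq]
  have hin : ∀ χ : IrrCharacter K, classInner (χ : K → ℂ) F =
      ∑ i, (ε i : ℂ) * (if χ = φ i then 1 else 0) := by
    intro χ
    have h1 : ∀ i, classInner (χ : K → ℂ) (φ i : K → ℂ) = if χ = φ i then 1 else 0 :=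
      fun i => classInner_irr χ (φ i)
    have h2 : classInner (χ : K → ℂ) F = ∑ i, (ε i : ℂ) * classInner (χ : K → ℂ) (φ i : K → ℂ) := by
      unfold classInner
      simp only [hF]
      simp_rw [Finset.mul_sum]
      rw [Finset.sum_comm]
      refine Finset.sum_congr rfl fun h _ => ?_
      rw [map_sum, Finset.mul_sum, Finset.mul_sum]
      refine Finset.sum_congr rfl fun i _ => ?_
      rw [map_mul, map_intCast]
      ring
    rw [h2]
    refine Finset.sum_congr rfl fun i _ => ?_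
    rw [h1]
  -- the conjugate character
  have hφα : ∀ i, ∃ j, H79.irrComap α (φ i) = φ j := by
    intro i
    have h1 : classInner ((H79.irrComap α (φ i) : IrrCharacter K) : K → ℂ) F =
        classInner (φ i : K → ℂ) F := by
      unfold classInner
      congr 1
      refine Fintype.sum_equiv α.toEquiv _ _ fun h => ?_
      change (φ i : K → ℂ) (α h) * conj (F h) = (φ i : K → ℂ) (α h) * conj (F (α h))
      rw [hFα]
    rw [hin, hin] at h1
    have h2 : ∑ j, (ε j : ℂ) * (if φ i = φ j then (1 : ℂ) else 0) = ε i := by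
      rw [Finset.sum_eq_single i]
      · simp
      · intro j _ hj
        rw [if_neg (fun h => hj (inj h).symm), mul_zero]
      · intro h; exact absurd (Finset.mem_univ _) h
    rw [h2] at h1
    by_contra hcon
    push Not at hcon
    rw [Finset.sum_eq_zero (fun j _ => by rw [if_neg (hcon j), mul_zero])] at h1
    rcases sg i with h3 | h3 <;> rw [h3] at h1 <;> simp at h1
  -- degrees
  have hdeg : ∀ i j, H79.irrComap α (φ i) = φ j → (φ i : K → ℂ) 1 = (φ j : K → ℂ) 1 := by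
    intro i j h
    rw [← h]
    change _ = (φ i : K → ℂ) (α 1)
    rw [map_one]
  have hone : ¬ 3 ∣ orderOf (1 : K) := by rw [orderOf_one]; norm_num
  have hd12 : (φ 1 : K → ℂ) 1 ≠ (φ 2 : K → ℂ) 1 := by
    intro h
    have h1 := sum 1
    rw [if_neg hone, Fin.sum_univ_three, phi0, eps0, oneIrr_apply, h, H79.irr_one] at h1
    have h2 : (1 : ℤ) + ε 1 * (charDegree (φ 2 : K → ℂ) : ℤ) + ε 2 * (charDegree (φ 2 : K → ℂ) : ℤ) = 0 := by
      have h1' := h1
      simp only [Int.cast_one, mul_one] at h1'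
      exact_mod_cast h1'
    rcases sg 1 with h3 | h3 <;> rcases sg 2 with h4 | h4 <;> rw [h3, h4] at h2 <;> omega
  have h0 : H79.irrComap α (φ 0) = φ 0 := by
    rw [phi0]
    apply Subtype.ext
    funext h
    change ((oneIrr K : IrrCharacter K) : K → ℂ) (α h) = _
    rw [oneIrr_apply, oneIrr_apply]
  have hinjα := H79.irrComap_injective α
  have hall : H79.irrComap α (φ i) = φ i := by
    obtain ⟨j, hj⟩ := hφα i
    by_cases hij : i = j
    · rw [hj, hij]
    · exfalso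
      have hi0 : i ≠ 0 := by
        rintro rfl
        rw [h0] at hj
        exact hij (inj hj)
      have hj0 : j ≠ 0 := by
        rintro rfl
        rw [← h0] at hj
        exact hij (inj (hinjα hj))
      have hd := hdeg i j hj
      have h5 : (i = 1 ∧ j = 2) ∨ (i = 2 ∧ j = 1) := by
        fin_cases i <;> fin_cases j <;> simp_all
      rcases h5 with ⟨rfl, rfl⟩ | ⟨rfl, rfl⟩
      · exact hd12 hd
      · exact hd12 hd.symm
  have := congrArg (fun θ : IrrCharacter K => (θ : K → ℂ) h) hall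
  exact this

section
variable {G : Type u} [Group G] [Finite G] {P : Sylow 3 G} {k₁ k₂ e₁ e₂ : G}

/-- the central subgroup -/
def ZZ (k₁ : G) : Subgroup (CC k₁) := Subgroup.zpowers ⟨k₁, mem_CC.2 rfl⟩

theorem ZZ_center : ZZ k₁ ≤ Subgroup.center (CC k₁) := by
  unfold ZZ
  rw [Subgroup.zpowers_le, Subgroup.mem_center_iff]
  intro g
  apply Subtype.ext
  exact mem_CC.1 g.2

theorem ZZ_normal : (ZZ k₁).Normal := by
  constructor
  intro n hn g
  have := Subgroup.mem_center_iff.1 (ZZ_center hn) g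
  rw [this, mul_inv_cancel_right]
  exact hn

theorem mem_ZZ {c : CC k₁} (h : c ∈ ZZ k₁) : ∃ j : ℕ, (c : G) = k₁ ^ j := by
  have h1 := (isOfFinOrder_of_finite (⟨k₁, mem_CC.2 rfl⟩ : CC k₁)).mem_powers_iff_mem_zpowers.2 h
  obtain ⟨j, hj⟩ := h1
  exact ⟨j, by rw [← hj]; rfl⟩

variable (S : V4Sit P k₁ k₂ e₁ e₂)
include S

theorem pow_mem_KK {j : ℕ} (h : k₁ ^ j ∈ KK k₁) : k₁ ^ j = 1 := by
  have hC : k₁ ^ j ∈ CC k₁ := KK_le h
  have h1 := (mem_KK hC).1 h
  have h2 : (⟨k₁ ^ j, hC⟩ : CC k₁) ∈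
      ((TT S : Sylow 3 (CC k₁)) : Subgroup (CC k₁)) ⊓ RR k₁ := ⟨pow_mem S.m₁ j, h1⟩
  rw [TT_inf S] at h2
  obtain ⟨i, hi⟩ := Subgroup.mem_zpowers_iff.1 h2
  apply pow1_of_mem S
  rw [Subgroup.mem_zpowers_iff]
  refine ⟨i, ?_⟩
  have := congrArg Subtype.val hi
  rw [Subgroup.coe_zpow] at this
  exact this

theorem card_ZZ : Nat.card (ZZ k₁ : Subgroup (CC k₁)) = 3 := by
  unfold ZZ
  rw [Nat.card_zpowers, Subgroup.orderOf_mk, S.o₁]

/-- the isomorphism `K ≃ C / Z` -/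
theorem exists_theta [(ZZ k₁).Normal] : ∃ θ : KK k₁ ≃* (CC k₁ ⧸ ZZ k₁),
    ∀ h : KK k₁, θ h = QuotientGroup.mk (⟨(h : G), KK_le h.2⟩ : CC k₁) := by
  set f : KK k₁ →* (CC k₁ ⧸ ZZ k₁) :=
    (QuotientGroup.mk' (ZZ k₁)).comp (Subgroup.inclusion KK_le) with hf
  have hinj : Function.Injective f := by
    rw [injective_iff_map_eq_one]
    intro h hh
    have h1 : (⟨(h : G), KK_le h.2⟩ : CC k₁) ∈ ZZ k₁ := by
      rw [← QuotientGroup.eq_one_iff]; exact hh
    obtain ⟨j, hj⟩ := mem_ZZ h1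
    have h2 : (h : G) = k₁ ^ j := hj
    apply Subtype.ext
    rw [h2]
    apply pow_mem_KK S
    rw [← h2]; exact h.2
  have hcard : Nat.card (KK k₁) = Nat.card (CC k₁ ⧸ ZZ k₁) := by
    have h1 : Nat.card (KK k₁) = Nat.card (RR k₁ : Subgroup (CC k₁)) :=
      (Nat.card_congr (Subgroup.equivMapOfInjective (RR k₁) _ (Subgroup.subtype_injective _)).toEquiv).symm
    have h2 := Subgroup.card_mul_index (RR k₁ : Subgroup (CC k₁))
    rw [index_RR S] at h2
    have h3 := Subgroup.card_mul_index (ZZ k₁ : Subgroup (CC k₁))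
    rw [card_ZZ S, Subgroup.index_eq_card] at h3
    omega
  haveI : Finite (CC k₁ ⧸ ZZ k₁) := inferInstance
  have hbij : Function.Bijective f :=
    (Nat.bijective_iff_injective_and_card f).2 ⟨hinj, hcard⟩
  exact ⟨MulEquiv.ofBijective f hbij, fun h => rfl⟩

theorem e1_conj_CC {h : G} (hh : h ∈ CC k₁) : e₁ * h * e₁⁻¹ ∈ CC k₁ := by
  rw [mem_CC] at hh ⊢
  have h1 : e₁⁻¹ * k₁ * e₁ = k₁⁻¹ := by
    have h3 : e₁ * k₁⁻¹ * e₁⁻¹ = k₁ := by
      calc e₁ * k₁⁻¹ * e₁⁻¹ = (e₁ * k₁ * e₁⁻¹)⁻¹ := by group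
        _ = k₁ := by rw [S.a₁, inv_inv]
    calc e₁⁻¹ * k₁ * e₁ = e₁⁻¹ * (e₁ * k₁⁻¹ * e₁⁻¹) * e₁ := by rw [h3]
      _ = k₁⁻¹ := by group
  have hc : Commute h k₁ := hh
  calc e₁ * h * e₁⁻¹ * k₁ = e₁ * (h * (e₁⁻¹ * k₁ * e₁)) * e₁⁻¹ := by group
    _ = e₁ * ((e₁⁻¹ * k₁ * e₁) * h) * e₁⁻¹ := by rw [h1, hc.inv_right.eq]
    _ = _ := by group

theorem e1_conj_KK {h : G} (hh : h ∈ KK k₁) : e₁ * h * e₁⁻¹ ∈ KK k₁ := by
  obtain ⟨x, hx, rfl⟩ := hh
  change e₁ * (x : G) * e₁⁻¹ ∈ KK k₁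
  unfold RR pResidual at hx
  induction hx using Subgroup.closure_induction with
  | mem x hx =>
    rw [mem_KK (e1_conj_CC S x.2)]
    apply Subgroup.subset_closure
    change Nat.Coprime (orderOf (⟨e₁ * (x : G) * e₁⁻¹, _⟩ : CC k₁)) 3
    rw [Subgroup.orderOf_mk]
    have h1 : orderOf (e₁ * (x : G) * e₁⁻¹) = orderOf (x : G) :=
      orderOf_injective (MulAut.conj e₁).toMonoidHom (MulAut.conj e₁).injective (x : G)
    rw [h1, Subgroup.orderOf_coe]
    exact hx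
  | one => simp
  | mul a b _ _ ha hb =>
    have : e₁ * ((a * b : CC k₁) : G) * e₁⁻¹ = (e₁ * (a : G) * e₁⁻¹) * (e₁ * (b : G) * e₁⁻¹) := by
      rw [Subgroup.coe_mul]; group
    rw [this]; exact mul_mem ha hb
  | inv a _ ha =>
    have : e₁ * ((a⁻¹ : CC k₁) : G) * e₁⁻¹ = (e₁ * (a : G) * e₁⁻¹)⁻¹ := by
      rw [Subgroup.coe_inv]; group
    rw [this]; exact inv_mem ha

/-- conjugation by `e₁` on `K` -/
theorem exists_aut : ∃ α : KK k₁ ≃* KK k₁, ∀ h : KK k₁, ((α h : KK k₁) : G) = e₁ * h * e₁⁻¹ := by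
  set f : KK k₁ →* KK k₁ :=
    { toFun := fun h => ⟨e₁ * h * e₁⁻¹, e1_conj_KK S h.2⟩
      map_one' := by apply Subtype.ext; simp
      map_mul' := fun a b => by apply Subtype.ext; simp } with hf
  have hinj : Function.Injective f := by
    rw [injective_iff_map_eq_one]
    intro h hh
    have h1 : e₁ * (h : G) * e₁⁻¹ = 1 := congrArg Subtype.val hh
    apply Subtype.ext
    have h2 : (h : G) = e₁⁻¹ * (e₁ * (h : G) * e₁⁻¹) * e₁ := by group
    rw [h2, h1]; simp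
  exact ⟨MulEquiv.ofBijective f (Finite.injective_iff_bijective.1 hinj), fun h => rfl⟩

theorem exists_half [Fintype (IrrCharacter G)] {M : Ideal AlgInt} (hM : IsPModular 3 M) :
    ∃ (K : Subgroup G) (φ : Fin 3 → IrrCharacter K) (ε : Fin 3 → ℤ), Half M k₁ k₂ e₁ K φ ε := by
  classical
  haveI : Fact (Nat.Prime 3) := ⟨Nat.prime_three⟩
  haveI := hM.2.1.isPrime
  haveI := Fintype.ofFinite G
  haveI : Fintype (CC k₁) := Fintype.ofFinite _
  haveI : Fintype (IrrCharacter (CC k₁)) := Fintype.ofFinite _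
  haveI := ZZ_normal (k₁ := k₁)
  obtain ⟨θ, hθ⟩ := exists_theta S
  set X := CC k₁ ⧸ ZZ k₁ with hX
  -- the element of order 3
  set x : X := QuotientGroup.mk (⟨k₂, P_le S S.m₂⟩ : CC k₁) with hx
  have hθ2 : θ ⟨k₂, k2_mem S⟩ = x := hθ _
  have hxo : orderOf x = 3 := by
    rw [← hθ2, MulEquiv.orderOf_eq, Subgroup.orderOf_mk, S.o₂]
  have he2C : e₂ ∈ CC k₁ := by
    rw [mem_CC, ← mul_inv_eq_iff_eq_mul]
    exact S.b₁
  set e : X := QuotientGroup.mk (⟨e₂, he2C⟩ : CC k₁) with he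
  have hinv : e * x * e⁻¹ = x⁻¹ := by
    change (QuotientGroup.mk ((⟨e₂, he2C⟩ : CC k₁) * (⟨k₂, P_le S S.m₂⟩ : CC k₁) *
      (⟨e₂, he2C⟩ : CC k₁)⁻¹) : X) = QuotientGroup.mk ((⟨k₂, P_le S S.m₂⟩ : CC k₁)⁻¹)
    congr 1
    apply Subtype.ext
    exact S.b₂
  -- the Sylow subgroup
  have hcardX : (Nat.card X).factorization 3 = 1 := by
    have h3 := Subgroup.card_mul_index (ZZ k₁ : Subgroup (CC k₁))
    rw [card_ZZ S, Subgroup.index_eq_card] at h3
    have h4 : (Nat.card (CC k₁)).factorization 3 = 2 := card_fact S S.m₁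
    rw [← h3, Nat.factorization_mul (by norm_num) Nat.card_pos.ne', Finsupp.add_apply,
      Nat.Prime.factorization_self Nat.prime_three] at h4
    have h5 : 1 + (Nat.card X).factorization 3 = 2 := h4
    linarith
  have hxp : IsPGroup 3 (Subgroup.zpowers x) := by
    rw [IsPGroup.iff_card]
    exact ⟨1, by rw [Nat.card_zpowers, hxo, pow_one]⟩
  obtain ⟨Q, hQ⟩ := hxp.exists_le_sylow
  have hcQ : Nat.card (Q : Subgroup X) = 3 := by
    rw [Sylow.card_eq_multiplicity Q, hcardX, pow_one]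
  have hx1 : x ≠ 1 := by
    intro h
    rw [h, orderOf_one] at hxo
    omega
  obtain ⟨ψ, ε, T⟩ := tri3 hM Q hcQ (hQ (Subgroup.mem_zpowers x)) hx1 hinv
  have hφinj : Function.Injective (fun i => H79.irrComap θ (ψ i)) :=
    (H79.irrComap_injective θ).comp T.inj
  have hφ0 : H79.irrComap θ (ψ 0) = oneIrr (KK k₁) := by
    rw [T.phi0]
    apply Subtype.ext
    funext h
    change ((oneIrr X : IrrCharacter X) : X → ℂ) (θ h) = _
    rw [oneIrr_apply, oneIrr_apply]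
  have hsum : ∀ h : KK k₁, ∑ i, (ε i : ℂ) * ((H79.irrComap θ (ψ i) : IrrCharacter (KK k₁)) :
      KK k₁ → ℂ) h = if 3 ∣ orderOf h then 3 else 0 := by
    intro h
    have := T.sum (θ h)
    rw [MulEquiv.orderOf_eq] at this
    exact this
  refine ⟨KK k₁, fun i => H79.irrComap θ (ψ i), ε, ?_⟩
  refine ⟨?_, ?_, fun j => pow_mem_KK S, fun h => e1_conj_KK S, hφinj, hφ0, T.eps0, T.sg, hsum, ?_, ?_,
    ?_, ?_⟩
  · intro h hh
    exact (mem_CC.1 (KK_le hh)).symm
  · intro c hc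
    have hcC : c ∈ CC k₁ := mem_CC.2 hc.symm
    obtain ⟨h, hh⟩ := θ.surjective (QuotientGroup.mk (⟨c, hcC⟩ : CC k₁))
    rw [hθ] at hh
    have h1 := QuotientGroup.eq.1 hh
    obtain ⟨j, hj⟩ := mem_ZZ h1
    refine ⟨j, h, h.2, ?_⟩
    have h2 : (h : G)⁻¹ * c = k₁ ^ j := hj
    have h3 : Commute (h : G) (k₁ ^ j) := by
      have : Commute (h : G) k₁ := mem_CC.1 (KK_le h.2)
      exact this.pow_right j
    rw [← h3.eq, ← h2]; group
  · intro i h hh
    have := T.val i (θ h) (by rw [MulEquiv.orderOf_eq]; exact hh)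
    exact this
  · intro i h h' hh'
    obtain ⟨α, hα⟩ := exists_aut S
    have h1 : h' = α h := Subtype.ext (by rw [hα]; exact hh')
    rw [h1]
    exact fix_of_aut hφinj hφ0 T.eps0 T.sg hsum α i h
  · intro χ hχ h hh
    obtain ⟨a, ⟨y, hay, hcom, ⟨k, hk⟩, hy⟩, hconj⟩ := conj_of_dvd Q hcQ
      (hQ (Subgroup.mem_zpowers x)) hx1 hinv (h := θ h) (by rw [MulEquiv.orderOf_eq]; exact hh)
    obtain ⟨c, hc⟩ := isConj_iff.1 hconj
    have ha' : θ (θ.symm a) = a := θ.apply_symm_apply a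
    have h1 : θ.symm a * θ.symm y = h := by
      rw [← map_mul, hay, MulEquiv.symm_apply_apply]
    have h2 : θ.symm c * θ.symm a * (θ.symm c)⁻¹ = ⟨k₂, k2_mem S⟩ := by
      apply θ.injective
      rw [map_mul, map_mul, map_inv, MulEquiv.apply_symm_apply, MulEquiv.apply_symm_apply, hc, hθ2]
    have h3 : θ.symm a * θ.symm y = θ.symm y * θ.symm a := by
      rw [← map_mul, ← map_mul, hcom.eq]
    set a' : G := ((θ.symm a : KK k₁) : G) with ha'
    set y' : G := ((θ.symm y : KK k₁) : G) with hy'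
    set c' : G := ((θ.symm c : KK k₁) : G) with hc'
    have h1' : a' * y' = h := congrArg Subtype.val h1
    have h2' : c' * a' * c'⁻¹ = k₂ := congrArg Subtype.val h2
    have h3' : a' * y' = y' * a' := congrArg Subtype.val h3
    have hk1 : ∀ g : KK k₁, Commute k₁ (g : G) := fun g => (mem_CC.1 (KK_le g.2)).symm
    have hcon : c' * (k₁ * a') * c'⁻¹ = k₁ * k₂ := by
      rw [← h2']
      have := (hk1 (θ.symm c)).eq
      rw [← hc'] at this
      calc c' * (k₁ * a') * c'⁻¹ = (c' * k₁) * a' * c'⁻¹ := by group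
        _ = (k₁ * c') * a' * c'⁻¹ := by rw [this]
        _ = _ := by group
    have hpp : IsPPart 3 (k₁ * (h : G)) (k₁ * a') := by
      refine ⟨y', by rw [← h1']; group, ?_, ⟨1, ?_⟩, ?_⟩
      · exact (hk1 (θ.symm y)).mul_left h3'
      · rw [pow_one, ← ord12 S, ← hcon]
        exact (orderOf_injective (MulAut.conj c').toMonoidHom (MulAut.conj c').injective (k₁ * a')).symm
      · rw [hy', Subgroup.orderOf_coe, MulEquiv.orderOf_eq]; exact hy
    exact const_on hM ⟨1, by rw [ord12 S, pow_one]⟩ (core12 S) hpp (isConj_iff.2 ⟨c', hcon⟩) hχ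
  · intro y y' hy hy'
    have hx3 : ∃ k : ℕ, orderOf k₁ = 3 ^ k := ⟨1, by rw [S.o₁, pow_one]⟩
    have hyo : ¬ 3 ∣ orderOf (⟨(y : G), KK_le y.2⟩ : CC k₁) := by
      rw [Subgroup.orderOf_mk, Subgroup.orderOf_coe]; exact hy
    have hyo' : ¬ 3 ∣ orderOf (⟨(y' : G), KK_le y'.2⟩ : CC k₁) := by
      rw [Subgroup.orderOf_mk, Subgroup.orderOf_coe]; exact hy'
    have h1 := H4.principal_kernel_eq hM hx3 (H74.thirdAt hM hx3) _ _ hyo hyo'
    refine Eq.trans h1 ?_
    have hZp : IsPGroup 3 (ZZ k₁ : Subgroup (CC k₁)) :=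
      IsPGroup.of_card (n := 1) (by rw [card_ZZ S, pow_one])
    have h2 := H4.kernel_dom hM hZp ZZ_center (isPBlock_principalBlock (G := CC k₁) M) hyo hyo'
    unfold blockKernel at h2
    rw [finsum_mem_eq_sum_ite] at h2
    refine Eq.trans h2 ?_
    rw [card_ZZ S]
    have hdom : H4.dom (ZZ k₁) (principalBlock M (CC k₁)) = principalBlock M X := by
      refine isPBlock_eq_of_mem (M := M) (H4.isPBlock_dom hM hZp ZZ_center
        (isPBlock_principalBlock (G := CC k₁) M)) (isPBlock_principalBlock (G := X) M)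
        (χ := oneIrr X) ?_ (oneIrr_mem_principalBlock (G := X) (M := M))
      rw [H4.mem_dom]
      have h5 : inflI (oneIrr X) = oneIrr (CC k₁) := by
        apply Subtype.ext
        funext g
        change ((oneIrr X : IrrCharacter X) : X → ℂ) (QuotientGroup.mk g) = _
        rw [oneIrr_apply, oneIrr_apply]
      rw [h5]
      exact oneIrr_mem_principalBlock (G := CC k₁) (M := M)
    rw [hdom]
    have hB : Bfin (principalBlock M X) = Finset.univ.image ψ := by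
      ext χ
      rw [mem_Bfin, T.blk]
      simp [eq_comm]
    rw [hB, Finset.sum_image (fun a _ b _ hab => T.inj hab)]
    norm_num
    refine Finset.sum_congr rfl fun i _ => ?_
    change _ = (ψ i : X → ℂ) (θ y) * conj ((ψ i : X → ℂ) (θ y'))
    rw [hθ, hθ]

end

end Cfsg.Agent.JY.V1
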