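import Cfsg.Agent.CIT.CN
import Cfsg.Agent.JY.Cit
import Cfsg.Agent.JY.Recog
import Cfsg.Agent.Frob.Aut
import Cfsg.Agent.Solv.Core

/-!
# S4351: nonsolvable CN-groups are CIT-groups (helper60)
-/

set_option autoImplicit false
set_option linter.style.haveILetI false
set_option linter.unusedSectionVars false

namespace Cfsg.Agent.JY.CNA

open Subgroup Cfsg

universe u

variable {G : Type u} [Group G] [Finite G]

/-- CN-groups -/
def CN (G : Type u) [Group G] : Prop :=
  ∀ x : G, x ≠ 1 → Group.IsNilpotent (centralizer ({x} : Set G))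

theorem solv_of_normal (C : Subgroup G) [C.Normal] (hC : Group.IsNilpotent C)
    (hq : Group.IsSolvable (G ⧸ C)) : Group.IsSolvable G := by
  haveI := hC
  haveI : Group.IsSolvable C := inferInstance
  exact Group.isSolvable_of_ker_le_range C.subtype (QuotientGroup.mk' C) (by
    rw [QuotientGroup.ker_mk', Subgroup.range_subtype])

theorem nilp_le {C D : Subgroup G} (h : C ≤ D) (hD : Group.IsNilpotent D) : Group.IsNilpotent C := by
  haveI := hD
  exact Group.nilpotent_of_mulEquiv (Subgroup.subgroupOfEquivOfLe h)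

theorem exists_abelian (N : Subgroup G) (hN : N.Normal) (hs : Group.IsSolvable N) (h1 : N ≠ ⊥) :
    ∃ A : Subgroup G, A.Normal ∧ A ≤ N ∧ A ≠ ⊥ ∧ ∀ a ∈ A, ∀ b ∈ A, a * b = b * a := by
  haveI : Nontrivial N := (Subgroup.nontrivial_iff_ne_bot N).2 h1
  obtain ⟨r, V, -, hV, hVc, -, hV1, -⟩ := Cfsg.Agent.Frob.exists_characteristic_abelian hs
  haveI := hN
  haveI := hV
  refine ⟨V.map N.subtype, inferInstance, Subgroup.map_subtype_le V, ?_, ?_⟩
  · intro h
    apply hV1
    exact (Subgroup.map_eq_bot_iff_of_injective V N.subtype_injective).1 h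
  · rintro _ ⟨a, ha, rfl⟩ _ ⟨b, hb, rfl⟩
    have h2 := hVc.is_comm.comm ⟨a, ha⟩ ⟨b, hb⟩
    have h3 : a * b = b * a := congrArg Subtype.val h2
    exact congrArg Subtype.val h3

/-- a `q`-subgroup of a normal nilpotent subgroup lies in `O_q` -/
theorem le_pCore_nilp {q : ℕ} [Fact q.Prime] {N U : Subgroup G}
    (hN : N.Normal) (hNn : Group.IsNilpotent N) (hU : IsPGroup q U) (hUN : U ≤ N) : U ≤ Cfsg.pCore q G := by
  have h1 : U.subgroupOf N ≤ Cfsg.pCore q N := by
    obtain ⟨P, hP⟩ := (hU.comap_subtype (K := N)).exists_le_sylow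
    have := hNn
    have hPn : (P : Subgroup N).Normal := inferInstance
    exact hP.trans (Solv.le_pCore hPn P.isPGroup')
  have h2 := (Subgroup.map_mono (f := N.subtype) h1).trans (Solv.map_subtype_pCore_le q N)
  rwa [Subgroup.subgroupOf_map_subtype, inf_eq_left.2 hUN] at h2

/-- if all 2-elements lie in the normal subgroup `C`, the quotient has odd order -/
theorem odd_quot (C : Subgroup G) [C.Normal] (h : ∀ x : G, (∃ k, x ^ 2 ^ k = 1) → x ∈ C) :
    Odd (Nat.card (G ⧸ C)) := by
  haveI := Fact.mk Nat.prime_two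
  rw [← Nat.not_even_iff_odd, even_iff_two_dvd]
  intro h2
  obtain ⟨x, hx⟩ := exists_prime_orderOf_dvd_card' (G := G ⧸ C) 2 h2
  obtain ⟨g, rfl⟩ := QuotientGroup.mk_surjective x
  obtain ⟨k, m, hm, hk⟩ := Nat.exists_eq_two_pow_mul_odd (orderOf_pos g).ne'
  have h3 : g ^ m ∈ C := by
    apply h
    refine ⟨k, ?_⟩
    rw [← pow_mul, mul_comm, ← hk, pow_orderOf_eq_one]
  have h4 : (QuotientGroup.mk g : G ⧸ C) ^ m = 1 := by
    rw [← QuotientGroup.mk_pow, QuotientGroup.eq_one_iff]; exact h3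
  have h5 := orderOf_dvd_of_pow_eq_one h4
  rw [hx] at h5
  rw [Nat.odd_iff] at hm
  omega

namespace CN

theorem comm (hCN : CN G) {g x y : G} (hg : g ≠ 1) (hx : x * g = g * x) (hy : y * g = g * y)
    (hco : (orderOf x).Coprime (orderOf y)) : x * y = y * x := by
  have h1 := Cfsg.Agent.H52.commute_of_isNilpotent_of_coprime (hCN g hg)
    (x := ⟨x, mem_centralizer_singleton_iff.mpr hx⟩) (y := ⟨y, mem_centralizer_singleton_iff.mpr hy⟩)
    (by rw [orderOf_mk, orderOf_mk]; exact hco)
  exact congrArg Subtype.val h1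

theorem cop {x y : G} (hx : ∃ k, x ^ 2 ^ k = 1) (hy : Odd (orderOf y)) :
    (orderOf x).Coprime (orderOf y) := by
  obtain ⟨k, hk⟩ := hx
  have h1 := orderOf_dvd_of_pow_eq_one hk
  exact Nat.Coprime.coprime_dvd_left h1 ((Nat.coprime_two_left.2 hy).pow_left k)

theorem centr_nilp (hCN : CN G) {P : Subgroup G} {z : G} (hz : z ∈ P) (hz1 : z ≠ 1) :
    Group.IsNilpotent (centralizer (P : Set G)) := by
  refine nilp_le ?_ (hCN z hz1)
  apply centralizer_le
  rw [Set.singleton_subset_iff]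
  exact hz

theorem odd_mem {A : Subgroup G} (hodd : Odd (Nat.card A)) {x : G} (hx : x ∈ A) : Odd (orderOf x) := by
  have h1 := orderOf_dvd_natCard (⟨x, hx⟩ : A)
  rw [orderOf_mk] at h1
  exact hodd.of_dvd_nat h1

/-- an abelian normal subgroup of odd order -/
theorem solvable_of_abelian (hCN : CN G) (hFT : OS.{u}) (A : Subgroup G) [hA : A.Normal] (hodd : Odd (Nat.card A))
    (hA1 : A ≠ ⊥) (hab : ∀ a ∈ A, ∀ b ∈ A, a * b = b * a) : Group.IsSolvable G := by
  classical
  haveI := Fact.mk Nat.prime_two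
  obtain ⟨z, hz, hz1⟩ := (Subgroup.ne_bot_iff_exists_ne_one (H := A)).1 hA1 |> fun ⟨z, hz⟩ =>
    (⟨z.1, z.2, fun h => hz (Subtype.ext h)⟩ : ∃ z : G, z ∈ A ∧ z ≠ 1)
  have hCn := centr_nilp hCN hz hz1
  haveI : (centralizer (A : Set G)).Normal := inferInstance
  by_cases hcase : ∃ s : G, s ≠ 1 ∧ (∃ k, s ^ 2 ^ k = 1) ∧ ∃ a ∈ A, a ≠ 1 ∧ s * a = a * s
  · obtain ⟨s, hs1, hs2, a, ha, ha1, hsa⟩ := hcase
    have hsC : s ∈ centralizer (A : Set G) := by
      rw [mem_centralizer_iff]
      intro x hx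
      exact (comm hCN ha1 hsa (hab x hx a ha) (cop hs2 (odd_mem hodd hx))).symm
    have hsQ : s ∈ pCore 2 G := by
      refine le_pCore_nilp (q := 2) (U := zpowers s) inferInstance hCn ?_ ?_
        (mem_zpowers s)
      · obtain ⟨k, hk⟩ := hs2
        obtain ⟨j, -, hj⟩ := (Nat.dvd_prime_pow Nat.prime_two).1 (orderOf_dvd_of_pow_eq_one hk)
        exact IsPGroup.of_card (n := j) (by rw [Nat.card_zpowers, hj])
      · rw [zpowers_le]; exact hsC
    set Q : Subgroup G := pCore 2 G ⊓ centralizer (A : Set G) with hQ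
    have hQ1 : Q ≠ ⊥ := by
      intro h
      have h1 : s ∈ Q := ⟨hsQ, hsC⟩
      rw [h, mem_bot] at h1
      exact hs1 h1
    haveI : (pCore 2 G).Normal := inferInstance
    have hQn : Q.Normal := inferInstance
    have hQp : IsPGroup 2 Q := (pCore_two (G := G)).to_le inf_le_left
    refine solv_of_normal _ hCn (hFT _ (odd_quot _ ?_))
    intro b hb
    obtain ⟨j, hj⟩ := hb
    obtain ⟨i, -, hi⟩ := (Nat.dvd_prime_pow Nat.prime_two).1 (orderOf_dvd_of_pow_eq_one hj)
    obtain ⟨w, hw, hw1, hwc⟩ := Cfsg.Agent.CIT.exists_fixed_of_normalize (P := zpowers b) (N := Q)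
      (IsPGroup.of_card (n := i) (by rw [Nat.card_zpowers, hi])) hQp hQ1
      (by rw [Subgroup.normalizer_eq_top]; exact le_top)
    rw [mem_centralizer_iff]
    intro x hx
    refine (comm hCN hw1 (hwc b (mem_zpowers b)) ?_ (cop ⟨j, hj⟩ (odd_mem hodd hx))).symm
    exact (mem_centralizer_iff.1 hw.2 x hx)
  · push Not at hcase
    by_contra hns
    obtain ⟨t, ht⟩ := exists_prime_orderOf_dvd_card' (G := G) 2 (even_card hFT hns)
    have htt : t * t = 1 := by rw [← pow_two, ← ht, pow_orderOf_eq_one]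
    have ht1 : t ≠ 1 := by rintro rfl; rw [orderOf_one] at ht; omega
    have hinv : ∀ s : G, s * s = 1 → s ≠ 1 → ∀ n ∈ A, s * n * s⁻¹ = n⁻¹ := by
      intro s hs hs1 n hn
      refine inverts hs (fun n hn => hA.conj_mem n hn s) ?_ hn
      intro m hm hc
      by_contra hm1
      exact hcase s hs1 ⟨1, by rw [pow_one, pow_two, hs]⟩ m hm hm1 hc
    -- `G = C · C_G(t)`
    have hfac : ∀ g : G, ∃ d ∈ centralizer (A : Set G), (d⁻¹ * g) * t = t * (d⁻¹ * g) := by
      intro g
      have hg1 : (g * t * g⁻¹) * (g * t * g⁻¹) = 1 := by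
        calc (g * t * g⁻¹) * (g * t * g⁻¹) = g * (t * t) * g⁻¹ := by group
          _ = 1 := by rw [htt]; group
      have hg2 : g * t * g⁻¹ ≠ 1 := by
        intro h
        apply ht1
        calc t = g⁻¹ * (g * t * g⁻¹) * g := by group
          _ = 1 := by rw [h]; group
      set c := g * t * g⁻¹ * t with hc
      have hcC : c ∈ centralizer (A : Set G) := by
        rw [mem_centralizer_iff]
        intro n hn
        have e1 := hinv _ hg1 hg2 n⁻¹ (inv_mem hn)
        have e2 := hinv t htt ht1 n hn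
        have e3 : c * n * c⁻¹ = n := by
          calc c * n * c⁻¹ = (g * t * g⁻¹) * (t * n * t⁻¹) * (g * t * g⁻¹)⁻¹ := by rw [hc]; group
            _ = n := by rw [e2, e1, inv_inv]
        exact (mul_inv_eq_iff_eq_mul.1 e3).symm
      have hti : t⁻¹ = t := inv_eq_of_mul_eq_one_left htt
      have hct : t * c * t = c⁻¹ := by
        have h1 : (g * t * g⁻¹)⁻¹ = g * t * g⁻¹ := inv_eq_of_mul_eq_one_left hg1
        calc t * c * t = t * (g * t * g⁻¹) * (t * t) := by rw [hc]; group
          _ = t * (g * t * g⁻¹) := by rw [htt, mul_one]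
          _ = t⁻¹ * (g * t * g⁻¹)⁻¹ := by rw [hti, h1]
          _ = c⁻¹ := by rw [hc]; group
      have hco : Odd (orderOf c) := by
        obtain ⟨k, m, hm, hk⟩ := Nat.exists_eq_two_pow_mul_odd (orderOf_pos c).ne'
        have h1 : c ^ m = 1 := by
          by_contra h1
          refine hcase (c ^ m) h1 ⟨k, ?_⟩ z hz hz1 ?_
          · rw [← pow_mul, mul_comm, ← hk, pow_orderOf_eq_one]
          · exact (mem_centralizer_iff.1 (pow_mem hcC m) z hz).symm
        exact hm.of_dvd_nat (orderOf_dvd_of_pow_eq_one h1)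
      -- square root of `c`
      obtain ⟨m, hm⟩ := hco
      set d := c ^ (m + 1) with hd
      have hdd : d * d = c := by
        rw [hd, ← pow_add]
        have : m + 1 + (m + 1) = (2 * m + 1) + 1 := by ring
        rw [this, pow_succ, ← hm, pow_orderOf_eq_one, one_mul]
      have hdt : t * d * t = d⁻¹ := by
        have h1 : t * c ^ (m + 1) * t⁻¹ = (t * c * t⁻¹) ^ (m + 1) := conj_pow.symm
        rw [hti, hct, inv_pow] at h1
        exact h1
      refine ⟨d, pow_mem hcC _, ?_⟩
      have h1 : g * t * g⁻¹ = d * t * d⁻¹ := by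
        have h2 : g * t * g⁻¹ = c * t := by
          rw [hc, mul_assoc (g * t * g⁻¹), htt, mul_one]
        rw [h2, ← hdd]
        calc d * d * t = d * (t * t) * d * t := by rw [htt, mul_one]
          _ = d * t * (t * d * t) := by group
          _ = d * t * d⁻¹ := by rw [hdt]
      calc (d⁻¹ * g) * t = d⁻¹ * (g * t * g⁻¹) * g := by group
        _ = d⁻¹ * (d * t * d⁻¹) * g := by rw [h1]
        _ = t * (d⁻¹ * g) := by group
    apply hns
    refine solv_of_normal _ hCn ?_
    haveI : Group.IsSolvable (centralizer ({t} : Set G)) := solvable_of_nilpotent (hCN t ht1)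
    refine Group.isSolvable_of_surjective (f := (QuotientGroup.mk' (centralizer (A : Set G))).comp
      (centralizer ({t} : Set G)).subtype) ?_
    intro x
    obtain ⟨g, rfl⟩ := QuotientGroup.mk_surjective x
    obtain ⟨d, hd, hdg⟩ := hfac g
    refine ⟨⟨d⁻¹ * g, mem_centralizer_singleton_iff.2 hdg⟩, ?_⟩
    change (QuotientGroup.mk (d⁻¹ * g) : G ⧸ centralizer (A : Set G)) = QuotientGroup.mk g
    rw [eq_comm, QuotientGroup.eq]
    have : g⁻¹ * (d⁻¹ * g) = g⁻¹ * d⁻¹ * g⁻¹⁻¹ := by group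
    rw [this]
    exact (inferInstance : (centralizer (A : Set G)).Normal).conj_mem _ (inv_mem hd) _

/-- a nonsolvable CN-group has no nontrivial solvable normal subgroup of odd order -/
theorem core_bot (hCN : CN G) (hFT : OS.{u}) (hns : ¬ Group.IsSolvable G) (N : Subgroup G) (hN : N.Normal)
    (hodd : Odd (Nat.card N)) : N = ⊥ := by
  by_contra h1
  obtain ⟨A, hA, hAN, hA1, hab⟩ := exists_abelian N hN (hFT N hodd) h1
  exact hns (solvable_of_abelian hCN hFT A (hodd.of_dvd_nat (Subgroup.card_dvd_of_le hAN)) hA1 hab)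

/-- a nonsolvable CN-group is a CIT-group -/
theorem cit (hCN : CN G) (hFT : OS.{u}) (hns : ¬ Group.IsSolvable G) : CIT G := by
  classical
  haveI := Fact.mk Nat.prime_two
  by_cases hQ : pCore 2 G = ⊥
  · have h1 := Cfsg.Agent.CIT.cn_cit hCN (core_bot hCN hFT hns) (fun N hN h2 => by
      rw [eq_bot_iff, ← hQ]; exact Solv.le_pCore hN h2) (fun D hD => hFT D hD)
    exact h1
  · intro t ht
    have ht1 : t ≠ 1 := by rintro rfl; rw [orderOf_one] at ht; omega
    by_contra hno
    -- an element of odd prime order commuting with `t`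
    obtain ⟨p, y, hp, hp2, hy, hyt⟩ : ∃ (p : ℕ) (y : G), p.Prime ∧ p ≠ 2 ∧ orderOf y = p ∧ y * t = t * y := by
      by_contra hcon
      apply hno
      have hcard : ∀ q : ℕ, q.Prime → q ∣ Nat.card (centralizer ({t} : Set G)) → q = 2 := by
        intro q hq hqd
        haveI := Fact.mk hq
        by_contra hq2
        obtain ⟨y, hy⟩ := exists_prime_orderOf_dvd_card' (G := centralizer ({t} : Set G)) q hqd
        exact hcon ⟨q, y, hq, hq2, by rw [Subgroup.orderOf_coe, hy], mem_centralizer_singleton_iff.1 y.2⟩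
      rw [IsPGroup.iff_card]
      exact ⟨_, Nat.eq_prime_pow_of_unique_prime_dvd Nat.card_pos.ne' (fun {q} hq hqd => hcard q hq hqd)⟩
    have hyo : Odd (orderOf y) := by rw [hy]; exact hp.odd_of_ne_two hp2
    have hy1 : y ≠ 1 := by rintro rfl; rw [orderOf_one] at hy; exact hp.one_lt.ne hy
    have ht2 : ∃ k, t ^ 2 ^ k = 1 := ⟨1, by rw [pow_one, ← ht, pow_orderOf_eq_one]⟩
    have hQp : IsPGroup 2 (pCore 2 G) := pCore_two (G := G)
    have hQel : ∀ q ∈ pCore 2 G, ∃ k, q ^ 2 ^ k = 1 := by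
      intro q hq
      obtain ⟨k, hk⟩ := hQp ⟨q, hq⟩
      exact ⟨k, congrArg Subtype.val hk⟩
    obtain ⟨z, hz, hz1, hzc⟩ := Cfsg.Agent.CIT.exists_fixed_of_normalize (P := zpowers t) (N := pCore 2 G)
      (IsPGroup.of_card (n := 1) (by rw [Nat.card_zpowers, ht, pow_one])) hQp hQ
      (by rw [Subgroup.normalizer_eq_top]; exact le_top)
    obtain ⟨w, hw, hw1, hwc⟩ := Cfsg.Agent.CIT.exists_fixed_of_normalize (P := pCore 2 G) (N := pCore 2 G)
      hQp hQp hQ Subgroup.le_normalizer
    -- `y` commutes with `z`, then with `w`, then with everything in `Q`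
    have hyz : z * y = y * z := comm hCN ht1 (hzc t (mem_zpowers t)).symm hyt (cop (hQel z hz) hyo)
    have hyw : w * y = y * w := comm hCN hz1 (hwc z hz).symm hyz.symm (cop (hQel w hw) hyo)
    have hyQ : y ∈ centralizer (pCore 2 G : Set G) := by
      rw [mem_centralizer_iff]
      intro x hx
      exact comm hCN hw1 (hwc x hx) hyw.symm (cop (hQel x hx) hyo)
    haveI := Fact.mk hp
    have hCn := centr_nilp hCN hw hw1
    have hyP : y ∈ pCore p G := by
      refine le_pCore_nilp (q := p) (U := zpowers y)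
        (N := centralizer (pCore 2 G : Set G)) inferInstance hCn ?_ ?_ (mem_zpowers y)
      · exact IsPGroup.of_card (n := 1) (by rw [Nat.card_zpowers, hy, pow_one])
      · rw [zpowers_le]; exact hyQ
    have h1 := core_bot hCN hFT hns (pCore p G) inferInstance (by
      obtain ⟨n, hn⟩ := IsPGroup.iff_card.1 (Solv.pCore_isPGroup (G := G) p)
      rw [hn]
      exact (hp.odd_of_ne_two hp2).pow)
    rw [h1, mem_bot] at hyP
    exact hy1 hyP

end CN

end Cfsg.Agent.JY.CNA
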