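import Mathlib
import Cfsg.Agent.JY.Recog

/-! 2-groups with `A₅` acting on them so that elements of order three act freely. -/

set_option autoImplicit false
set_option linter.unusedSectionVars false
set_option linter.style.haveILetI false

namespace Cfsg.Agent.JY

open Subgroup Cfsg

/-- products of two transpositions -/
def dd5 (a b c d : Fin 5) (h : Equiv.Perm.sign (Equiv.swap a b * Equiv.swap c d) = 1) : alternatingGroup (Fin 5) :=
  ⟨Equiv.swap a b * Equiv.swap c d, Equiv.Perm.mem_alternatingGroup.2 h⟩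

/-- the involutions of `A₅` -/
def D5 : Fin 15 → alternatingGroup (Fin 5) :=
  ![dd5 1 2 3 4 (by decide), dd5 1 3 2 4 (by decide), dd5 1 4 2 3 (by decide), dd5 0 2 3 4 (by decide), dd5 0 3 2 4 (by decide), dd5 0 4 2 3 (by decide), dd5 0 1 3 4 (by decide), dd5 0 3 1 4 (by decide), dd5 0 4 1 3 (by decide), dd5 0 1 2 4 (by decide), dd5 0 2 1 4 (by decide), dd5 0 4 1 2 (by decide), dd5 0 1 2 3 (by decide), dd5 0 2 1 3 (by decide), dd5 0 3 1 2 (by decide)]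

theorem pow_thirty {V : Type*} [CommGroup V] (T : alternatingGroup (Fin 5) →* MulAut V)
    (h3 : ∀ σ : alternatingGroup (Fin 5), σ ≠ 1 → σ * σ * σ = 1 → ∀ v, v * T σ v * T (σ * σ) v = 1) (v : V) :
    v ^ 30 = 1 := by
  let f : alternatingGroup (Fin 5) → Additive V := fun x => Additive.ofMul (T x v)
  have rel : ∀ g σ : alternatingGroup (Fin 5), σ ≠ 1 → σ * σ * σ = 1 → f g + f (g * σ) + f (g * (σ * σ)) = 0 := by
    intro g σ h1 h2
    have h := congrArg (T g) (h3 σ h1 h2 v)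
    rw [map_mul, map_mul, map_one] at h
    have e1 : T (g * σ) v = T g (T σ v) := by rw [map_mul]; rfl
    have e2 : T (g * (σ * σ)) v = T g (T (σ * σ) v) := by rw [map_mul]; rfl
    change Additive.ofMul (T g v) + Additive.ofMul (T (g * σ) v) + Additive.ofMul (T (g * (σ * σ)) v) = 0
    rw [e1, e2, ← ofMul_mul, ← ofMul_mul, h]
    rfl
  have v4 : ∀ t u w σ : alternatingGroup (Fin 5),
      (σ ≠ 1 ∧ σ * σ * σ = 1 ∧ (t * σ ≠ 1 ∧ (t * σ) * (t * σ) * (t * σ) = 1 ∧ (t * σ) * (t * σ) = w * (σ * σ)) ∧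
        (u * σ ≠ 1 ∧ (u * σ) * (u * σ) * (u * σ) = 1 ∧ (u * σ) * (u * σ) = t * (σ * σ)) ∧
        (w * σ ≠ 1 ∧ (w * σ) * (w * σ) * (w * σ) = 1 ∧ (w * σ) * (w * σ) = u * (σ * σ))) →
      f t + f u + f w = (3 : ℤ) • f 1 := by
    rintro t u w σ ⟨h1, h2, ⟨a1, a2, a3⟩, ⟨b1, b2, b3⟩, ⟨c1, c2, c3⟩⟩
    have r1 := rel 1 (t * σ) a1 a2
    have r2 := rel 1 (u * σ) b1 b2
    have r3 := rel 1 (w * σ) c1 c2
    rw [one_mul, one_mul, a3] at r1
    rw [one_mul, one_mul, b3] at r2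
    rw [one_mul, one_mul, c3] at r3
    have st := rel t σ h1 h2
    have su := rel u σ h1 h2
    have sw := rel w σ h1 h2
    linear_combination (norm := module) st + su + sw - r1 - r2 - r3
  have s3 : ∀ t u w σ : alternatingGroup (Fin 5), (σ ≠ 1 ∧ σ * σ * σ = 1 ∧ t * σ = u ∧ t * (σ * σ) = w) →
      f t + f u + f w = 0 := by
    rintro t u w σ ⟨h1, h2, rfl, rfl⟩
    exact rel t σ h1 h2
  have v0 := v4 (D5 0) (D5 1) (D5 2) (dd5 1 2 2 4 (by decide)) (by decide +kernel)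
  have v1 := v4 (D5 3) (D5 4) (D5 5) (dd5 0 2 2 4 (by decide)) (by decide +kernel)
  have v2 := v4 (D5 6) (D5 7) (D5 8) (dd5 0 1 1 4 (by decide)) (by decide +kernel)
  have v3 := v4 (D5 9) (D5 10) (D5 11) (dd5 0 1 1 4 (by decide)) (by decide +kernel)
  have v4' := v4 (D5 12) (D5 13) (D5 14) (dd5 0 1 1 3 (by decide)) (by decide +kernel)
  have s0 := s3 (D5 12) (D5 6) (D5 9) (dd5 2 3 3 4 (by decide)) (by decide +kernel)
  have s1 := s3 (D5 13) (D5 3) (D5 10) (dd5 1 3 3 4 (by decide)) (by decide +kernel)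
  have s2 := s3 (D5 14) (D5 4) (D5 7) (dd5 1 2 2 4 (by decide)) (by decide +kernel)
  have s3' := s3 (D5 11) (D5 5) (D5 8) (dd5 1 2 2 3 (by decide)) (by decide +kernel)
  have s4 := s3 (D5 14) (D5 0) (D5 11) (dd5 0 3 3 4 (by decide)) (by decide +kernel)
  have s5 := s3 (D5 13) (D5 1) (D5 8) (dd5 0 2 2 4 (by decide)) (by decide +kernel)
  have s6 := s3 (D5 10) (D5 2) (D5 7) (dd5 0 2 2 3 (by decide)) (by decide +kernel)
  have s7 := s3 (D5 12) (D5 2) (D5 5) (dd5 0 1 1 4 (by decide)) (by decide +kernel)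
  have s8 := s3 (D5 9) (D5 1) (D5 4) (dd5 0 1 1 3 (by decide)) (by decide +kernel)
  have s9 := s3 (D5 6) (D5 0) (D5 3) (dd5 0 1 1 2 (by decide)) (by decide +kernel)
  have key : (30 : ℤ) • f 1 = 0 := by
    linear_combination (norm := module) s0 + s1 + s2 + s3' + s4 + s5 + s6 + s7 + s8 + s9 - (2 : ℤ) • v0 - (2 : ℤ) • v1 -
      (2 : ℤ) • v2 - (2 : ℤ) • v3 - (2 : ℤ) • v4'
  have h1 : f 1 = Additive.ofMul v := by
    change Additive.ofMul (T 1 v) = _
    rw [map_one]; rfl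
  rw [h1] at key
  have h2 : (30 : ℤ) • Additive.ofMul v = Additive.ofMul (v ^ (30 : ℤ)) := (ofMul_zpow 30 v).symm
  rw [h2] at key
  have h3 : v ^ (30 : ℤ) = 1 := Additive.ofMul.injective key
  exact_mod_cast h3

/-- the hypothesis -/
structure Hig (G : Type*) [Group G] (Q : Subgroup G) [Q.Normal] : Prop where
  two : IsPGroup 2 Q
  iso : Nonempty (G ⧸ Q ≃* alternatingGroup (Fin 5))
  fpf : ∀ g : G, g ∉ Q → g ^ 3 ∈ Q → ∀ q ∈ Q, g * q = q * g → q = 1

section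

variable {G : Type*} [Group G] [Finite G] {Q : Subgroup G} [hQ : Q.Normal] (H : Hig G Q)

include H

theorem Hig.cube {g : G} (h1 : g ∉ Q) (h2 : g ^ 3 ∈ Q) : g ^ 3 = 1 :=
  H.fpf g h1 h2 _ h2 (Commute.self_pow g 3)

theorem Hig.tele {g : G} (h1 : g ∉ Q) (h2 : g ^ 3 ∈ Q) {x : G} (hx : x ∈ Q) :
    x * (g * x * g⁻¹) * (g * (g * x * g⁻¹) * g⁻¹) = 1 := by
  let f : Q → Q := fun y => ⟨(y : G)⁻¹ * (g * y * g⁻¹), Q.mul_mem (Q.inv_mem y.2) (hQ.conj_mem y y.2 g)⟩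
  have hf : Function.Injective f := by
    intro y z e
    have e1 : (y : G)⁻¹ * (g * y * g⁻¹) = (z : G)⁻¹ * (g * z * g⁻¹) := congrArg Subtype.val e
    have e2 : (z : G) * (y : G)⁻¹ = 1 := by
      apply H.fpf g h1 h2 _ (Q.mul_mem z.2 (Q.inv_mem y.2))
      calc g * ((z : G) * (y : G)⁻¹) = z * ((z : G)⁻¹ * (g * z * g⁻¹)) * g * (y : G)⁻¹ := by group
        _ = z * ((y : G)⁻¹ * (g * y * g⁻¹)) * g * (y : G)⁻¹ := by rw [e1]
        _ = _ := by group
    exact Subtype.ext (mul_inv_eq_one.1 e2).symm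
  obtain ⟨y, hy⟩ := (Finite.injective_iff_surjective.1 hf) ⟨x, hx⟩
  have e : (y : G)⁻¹ * (g * y * g⁻¹) = x := congrArg Subtype.val hy
  have h3 := H.cube h1 h2
  rw [← e]
  calc (y : G)⁻¹ * (g * y * g⁻¹) * (g * ((y : G)⁻¹ * (g * y * g⁻¹)) * g⁻¹) *
      (g * (g * ((y : G)⁻¹ * (g * y * g⁻¹)) * g⁻¹) * g⁻¹) = (y : G)⁻¹ * (g ^ 3 * y * (g ^ 3)⁻¹) := by
        simp [pow_succ, mul_assoc]
    _ = 1 := by rw [h3]; group

theorem Hig.inv {g : G} (h1 : g ∉ Q) (h2 : g ^ 3 ∈ Q) : g⁻¹ ∉ Q ∧ g⁻¹ ^ 3 ∈ Q := by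
  refine ⟨fun h => h1 (by simpa using Q.inv_mem h), ?_⟩
  rw [inv_pow]; exact Q.inv_mem h2

theorem Hig.comm {g : G} (h1 : g ∉ Q) (h2 : g ^ 3 ∈ Q) {x : G} (hx : x ∈ Q) :
    x * (g * x * g⁻¹) = (g * x * g⁻¹) * x := by
  have h3 := H.cube h1 h2
  have e1 := H.tele h1 h2 hx
  have e2 := H.tele (H.inv h1 h2).1 (H.inv h1 h2).2 hx
  rw [inv_inv] at e2
  have e3 : g⁻¹ * x * g = g * (g * x * g⁻¹) * g⁻¹ := by
    have : g⁻¹ = g * g := by
      rw [inv_eq_iff_mul_eq_one, ← mul_assoc]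
      rw [← h3, pow_succ, pow_two]
    have h4 : g = g⁻¹ * g⁻¹ := by
      have := congrArg (fun z => z⁻¹) this
      simp only [inv_inv, mul_inv_rev] at this
      exact this
    calc g⁻¹ * x * g = (g * g) * x * (g⁻¹ * g⁻¹) := by rw [← this, ← h4]
      _ = _ := by group
  rw [e3] at e2
  have e4 : g⁻¹ * (g * (g * x * g⁻¹) * g⁻¹) * g = g * x * g⁻¹ := by group
  rw [e4] at e2
  -- e1 : x * y * z = 1, e2 : x * z * y = 1
  set y := g * x * g⁻¹ with hy
  set z := g * y * g⁻¹ with hz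
  have e5 : y * z = z * y := by
    have h5 : y * z = x⁻¹ := by
      rw [eq_inv_iff_mul_eq_one]
      calc y * z * x = x⁻¹ * (x * y * z) * x := by group
        _ = 1 := by rw [e1]; group
    have h6 : z * y = x⁻¹ := by
      rw [eq_inv_iff_mul_eq_one]
      calc z * y * x = x⁻¹ * (x * z * y) * x := by group
        _ = 1 := by rw [e2]; group
    rw [h5, h6]
  calc x * y = g⁻¹ * (y * z) * g := by rw [hz, hy]; group
    _ = g⁻¹ * (z * y) * g := by rw [e5]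
    _ = y * x := by rw [hz, hy]; group

/-- the abelian case -/
theorem Hig.exp_of_comm (hab : ∀ a ∈ Q, ∀ b ∈ Q, a * b = b * a) : ∀ a ∈ Q, a * a = 1 := by
  obtain ⟨e⟩ := H.iso
  letI : CommGroup Q := { (inferInstance : Group Q) with
    mul_comm := fun a b => Subtype.ext (hab a a.2 b b.2) }
  let φ : G →* MulAut Q := MulAut.conjNormal
  have hφ : ∀ q ∈ Q, φ q = 1 := by
    intro q hq
    ext x
    have : φ q x = ⟨q * x * q⁻¹, hQ.conj_mem x x.2 q⟩ := Subtype.ext (MulAut.conjNormal_apply q x)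
    rw [this]
    change q * (x : G) * q⁻¹ = x
    rw [hab q hq x x.2]; group
  let T : alternatingGroup (Fin 5) →* MulAut Q := (QuotientGroup.lift Q φ hφ).comp e.symm.toMonoidHom
  have hT : ∀ g : G, T (e (QuotientGroup.mk g)) = φ g := by
    intro g
    change QuotientGroup.lift Q φ hφ (e.symm (e (QuotientGroup.mk g))) = φ g
    rw [e.symm_apply_apply]; rfl
  have h := pow_thirty T (by
    intro σ h1 h2 v
    obtain ⟨g, hg⟩ := QuotientGroup.mk_surjective (e.symm σ)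
    have hg' : e (QuotientGroup.mk g) = σ := by rw [hg, e.apply_symm_apply]
    have hg1 : g ∉ Q := by
      intro h
      apply h1
      rw [← hg', (QuotientGroup.eq_one_iff g).2 h, map_one]
    have hg2 : g ^ 3 ∈ Q := by
      rw [← QuotientGroup.eq_one_iff]
      apply e.injective
      rw [QuotientGroup.mk_pow, map_pow, hg', map_one, pow_succ, pow_two, h2]
    have e1 : T σ v = ⟨g * v * g⁻¹, hQ.conj_mem v v.2 g⟩ := by
      rw [← hg', hT]
      exact Subtype.ext (MulAut.conjNormal_apply g v)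
    have e2 : T (σ * σ) v = ⟨g * (g * v * g⁻¹) * g⁻¹, hQ.conj_mem _ (hQ.conj_mem v v.2 g) g⟩ := by
      rw [map_mul, ← hg', hT]
      apply Subtype.ext
      change ((φ g (φ g v) : Q) : G) = _
      rw [MulAut.conjNormal_apply, MulAut.conjNormal_apply]
    rw [e1, e2]
    apply Subtype.ext
    exact H.tele hg1 hg2 v.2)
  intro a ha
  have h1 : (⟨a, ha⟩ : Q) ^ 30 = 1 := h ⟨a, ha⟩
  have h2 : a ^ 30 = 1 := congrArg Subtype.val h1
  obtain ⟨k, hk⟩ := H.two ⟨a, ha⟩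
  have h3 : a ^ 2 ^ k = 1 := congrArg Subtype.val hk
  obtain ⟨i, -, hi⟩ := (Nat.dvd_prime_pow Nat.prime_two).1 (orderOf_dvd_of_pow_eq_one h3)
  have h4 := orderOf_dvd_of_pow_eq_one h2
  rw [hi] at h4
  have hi1 : i ≤ 1 := by
    by_contra hcon
    push Not at hcon
    have : 2 ^ 2 ∣ 30 := (pow_dvd_pow 2 hcon).trans h4
    norm_num at this
  rw [← pow_two, ← orderOf_dvd_iff_pow_eq_one, hi]
  calc 2 ^ i ∣ 2 ^ 1 := pow_dvd_pow 2 hi1
    _ = 2 := by norm_num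

end

end Cfsg.Agent.JY
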