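import Mathlib
import Cfsg.Agent.JY.Five

/-! A normal 2-subgroup with quotient `A₅` on which elements of order three act freely is elementary abelian. -/

set_option autoImplicit false
set_option linter.unusedSectionVars false
set_option linter.style.haveILetI false

namespace Cfsg.Agent.JY

open Subgroup Cfsg

universe u

section

variable {G : Type u} [Group G] [Finite G] {Q : Subgroup G} [hQ : Q.Normal]

/-- commutator -/
def cm {G : Type*} [Group G] (x y : G) : G := x * y * x⁻¹ * y⁻¹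

theorem cm_mul_left {hc : ∀ a ∈ Q, ∀ b ∈ Q, ∀ q ∈ Q, cm a b * q = q * cm a b} {x y z : G} (hx : x ∈ Q)
    (hy : y ∈ Q) (hz : z ∈ Q) : cm (x * y) z = cm x z * cm y z := by
  have h := hc y hy z hz x hx
  calc cm (x * y) z = x * cm y z * (z * x⁻¹ * z⁻¹) := by simp only [cm]; group
    _ = cm y z * x * (z * x⁻¹ * z⁻¹) := by rw [h]
    _ = cm y z * cm x z := by simp only [cm]; group
    _ = cm x z * cm y z := hc y hy z hz _ (by
        simp only [cm]
        exact Q.mul_mem (Q.mul_mem (Q.mul_mem hx hz) (Q.inv_mem hx)) (Q.inv_mem hz))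

theorem cm_inv {x y : G} : (cm x y)⁻¹ = cm y x := by simp only [cm]; group

theorem cm_mul_right {hc : ∀ a ∈ Q, ∀ b ∈ Q, ∀ q ∈ Q, cm a b * q = q * cm a b} {x y z : G} (hx : x ∈ Q)
    (hy : y ∈ Q) (hz : z ∈ Q) : cm x (y * z) = cm x y * cm x z := by
  have h := cm_mul_left (hc := hc) hy hz hx
  have h2 := congrArg (fun a => a⁻¹) h
  simp only [mul_inv_rev, cm_inv] at h2
  rw [h2]
  exact hc x hx z hz _ (by
        simp only [cm]
        exact Q.mul_mem (Q.mul_mem (Q.mul_mem hx hy) (Q.inv_mem hx)) (Q.inv_mem hy))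

theorem cm_conj {g x y : G} : cm (g * x * g⁻¹) (g * y * g⁻¹) = g * cm x y * g⁻¹ := by simp only [cm]; group

theorem cm_eq_one {x y : G} : cm x y = 1 ↔ x * y = y * x := by
  simp only [cm]
  rw [mul_inv_eq_one, mul_inv_eq_iff_eq_mul]

theorem cm_mem {x y : G} (hx : x ∈ Q) (hy : y ∈ Q) : cm x y ∈ Q :=
  Q.mul_mem (Q.mul_mem (Q.mul_mem hx hy) (Q.inv_mem hx)) (Q.inv_mem hy)

/-- the class two case -/
theorem Hig.class_two (H : Hig G Q) (hc : ∀ a ∈ Q, ∀ b ∈ Q, ∀ q ∈ Q, cm a b * q = q * cm a b) :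
    ∀ a ∈ Q, ∀ b ∈ Q, a * b = b * a := by
  intro x hx y hy
  rw [← cm_eq_one]
  -- twisting
  have key : ∀ g : G, g ∉ Q → g ^ 3 ∈ Q → ∀ x ∈ Q, ∀ y ∈ Q, cm x (g * y * g⁻¹) = g⁻¹ * cm x y * g := by
    intro g h1 h2 x hx y hy
    have hxg := hQ.conj_mem x hx g
    have hyg := hQ.conj_mem y hy g
    have sym : ∀ x ∈ Q, ∀ y ∈ Q, cm x (g * y * g⁻¹) = cm (g * x * g⁻¹) y := by
      intro x hx y hy
      have hxg := hQ.conj_mem x hx g
      have hyg := hQ.conj_mem y hy g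
      have e1 := H.comm h1 h2 (Q.mul_mem hx hy)
      rw [← cm_eq_one] at e1
      have e2 : g * (x * y) * g⁻¹ = (g * x * g⁻¹) * (g * y * g⁻¹) := by group
      rw [e2, cm_mul_left (hc := hc) hx hy (Q.mul_mem hxg hyg), cm_mul_right (hc := hc) hx hxg hyg,
        cm_mul_right (hc := hc) hy hxg hyg, cm_eq_one.2 (H.comm h1 h2 hx), cm_eq_one.2 (H.comm h1 h2 hy),
        one_mul, mul_one] at e1
      rw [mul_eq_one_iff_eq_inv, cm_inv] at e1
      exact e1
    have e1 : cm x (y * (g * y * g⁻¹) * (g * (g * y * g⁻¹) * g⁻¹)) = 1 := by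
      rw [H.tele h1 h2 hy]; simp [cm]
    have hygg := hQ.conj_mem _ hyg g
    rw [cm_mul_right (hc := hc) hx (Q.mul_mem hy hyg) hygg, cm_mul_right (hc := hc) hx hy hyg,
      sym x hx _ hyg, cm_conj] at e1
    set w := cm x y with hw
    have hwQ : w ∈ Q := cm_mem hx hy
    have e2 := H.tele h1 h2 hwQ
    have h3 := H.cube h1 h2
    have e3 : g * (g * w * g⁻¹) * g⁻¹ = g⁻¹ * w * g := by
      calc g * (g * w * g⁻¹) * g⁻¹ = g⁻¹ * (g ^ 3 * w * (g ^ 3)⁻¹) * g := by simp [pow_succ, mul_assoc]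
        _ = _ := by rw [h3]; group
    rw [e3] at e2
    -- e1 : w * c * w^g = 1, e2 : w * w^g * w^{g⁻¹} = 1
    have hwc : ∀ q ∈ Q, w * q = q * w := hc x hx y hy
    have e4 : cm x (g * y * g⁻¹) = w⁻¹ * (g * w * g⁻¹)⁻¹ := by
      calc cm x (g * y * g⁻¹) = w⁻¹ * (w * cm x (g * y * g⁻¹) * (g * w * g⁻¹)) * (g * w * g⁻¹)⁻¹ := by group
        _ = _ := by rw [e1]; group
    have e5 : g⁻¹ * w * g = (g * w * g⁻¹)⁻¹ * w⁻¹ := by
      calc g⁻¹ * w * g = (g * w * g⁻¹)⁻¹ * w⁻¹ * (w * (g * w * g⁻¹) * (g⁻¹ * w * g)) := by group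
        _ = _ := by rw [e2]; group
    rw [e4, e5]
    have e6 := hwc _ (hQ.conj_mem w hwQ g)
    rw [← mul_inv_rev, ← mul_inv_rev, e6]
  set w := cm x y with hw
  have key2 : ∀ g h : G, g ∉ Q → g ^ 3 ∈ Q → h ∉ Q → h ^ 3 ∈ Q → g * h ∉ Q → (g * h) ^ 3 ∈ Q →
      (h * g * h⁻¹ * g⁻¹) * w = w * (h * g * h⁻¹ * g⁻¹) := by
    intro g h a1 a2 b1 b2 c1 c2
    have e1 := key (g * h) c1 c2 x hx y hy
    have e2 := key g a1 a2 x hx (h * y * h⁻¹) (hQ.conj_mem y hy h)
    rw [key h b1 b2 x hx y hy] at e2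
    have e3 : g * h * y * (g * h)⁻¹ = g * (h * y * h⁻¹) * g⁻¹ := by group
    rw [e3, e2] at e1
    -- e1 : g⁻¹ * (h⁻¹ * w * h) * g = (g * h)⁻¹ * w * (g * h)
    calc (h * g * h⁻¹ * g⁻¹) * w = (h * g) * ((g * h)⁻¹ * cm x y * (g * h)) * (g * h)⁻¹ := by rw [hw]; group
      _ = (h * g) * (g⁻¹ * (h⁻¹ * cm x y * h) * g) * (g * h)⁻¹ := by rw [e1]
      _ = w * (h * g * h⁻¹ * g⁻¹) := by rw [hw]; group
  obtain ⟨e⟩ := H.iso
  have lift : ∀ σ : alternatingGroup (Fin 5), ∃ g : G, e (QuotientGroup.mk g) = σ := by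
    intro σ
    obtain ⟨g, hg⟩ := QuotientGroup.mk_surjective (e.symm σ)
    exact ⟨g, by rw [hg, e.apply_symm_apply]⟩
  have h3 : ∀ g : G, (e (QuotientGroup.mk g) ≠ 1 ∧ e (QuotientGroup.mk g) * e (QuotientGroup.mk g) * e (QuotientGroup.mk g) = 1) →
      g ∉ Q ∧ g ^ 3 ∈ Q := by
    rintro g ⟨h1, h2⟩
    constructor
    · intro h
      apply h1
      rw [(QuotientGroup.eq_one_iff g).2 h, map_one]
    · rw [← QuotientGroup.eq_one_iff]
      apply e.injective
      rw [QuotientGroup.mk_pow, map_pow, map_one, pow_succ, pow_two, h2]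
  have hmul : ∀ g h : G, e (QuotientGroup.mk (g * h)) = e (QuotientGroup.mk g) * e (QuotientGroup.mk h) := by
    intro g h; rw [QuotientGroup.mk_mul, map_mul]
  have hinv : ∀ g : G, e (QuotientGroup.mk g⁻¹) = (e (QuotientGroup.mk g))⁻¹ := by
    intro g; rw [QuotientGroup.mk_inv, map_inv]
  obtain ⟨g, hg⟩ := lift (dd5 0 1 1 2 (by decide))
  obtain ⟨h, hh⟩ := lift (dd5 0 2 2 3 (by decide))
  obtain ⟨k, hk⟩ := lift (dd5 0 2 2 4 (by decide))
  have tg := h3 g (by rw [hg]; decide +kernel)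
  have th := h3 h (by rw [hh]; decide +kernel)
  have tk := h3 k (by rw [hk]; decide +kernel)
  have tgh := h3 (g * h) (by rw [hmul, hg, hh]; decide +kernel)
  have tgk := h3 (g * k) (by rw [hmul, hg, hk]; decide +kernel)
  have c1 := key2 g h tg.1 tg.2 th.1 th.2 tgh.1 tgh.2
  have c2 := key2 g k tg.1 tg.2 tk.1 tk.2 tgk.1 tgk.2
  have tK := h3 ((h * g * h⁻¹ * g⁻¹) * (k * g * k⁻¹ * g⁻¹)) (by
    rw [hmul, hmul, hmul, hmul, hmul, hmul, hmul, hinv, hinv, hinv, hg, hh, hk]; decide +kernel)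
  exact H.fpf _ tK.1 tK.2 w (cm_mem hx hy) (by
    calc (h * g * h⁻¹ * g⁻¹) * (k * g * k⁻¹ * g⁻¹) * w = (h * g * h⁻¹ * g⁻¹) * ((k * g * k⁻¹ * g⁻¹) * w) := by group
      _ = (h * g * h⁻¹ * g⁻¹) * (w * (k * g * k⁻¹ * g⁻¹)) := by rw [c2]
      _ = ((h * g * h⁻¹ * g⁻¹) * w) * (k * g * k⁻¹ * g⁻¹) := by group
      _ = (w * (h * g * h⁻¹ * g⁻¹)) * (k * g * k⁻¹ * g⁻¹) := by rw [c1]
      _ = _ := by group)

/-- central involutions of `Q` -/
def omQ (Q : Subgroup G) : Subgroup G where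
  carrier := {z | z ∈ Q ∧ (∀ q ∈ Q, z * q = q * z) ∧ z * z = 1}
  one_mem' := ⟨Q.one_mem, fun q _ => by rw [one_mul, mul_one], one_mul 1⟩
  mul_mem' := by
    rintro a b ⟨ha, ha1, ha2⟩ ⟨hb, hb1, hb2⟩
    refine ⟨Q.mul_mem ha hb, ?_, ?_⟩
    · intro q hq
      calc a * b * q = a * (b * q) := by group
        _ = a * (q * b) := by rw [hb1 q hq]
        _ = (a * q) * b := by group
        _ = (q * a) * b := by rw [ha1 q hq]
        _ = _ := by group
    · calc a * b * (a * b) = a * (b * a) * b := by group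
        _ = a * (a * b) * b := by rw [hb1 a ha]
        _ = (a * a) * (b * b) := by group
        _ = 1 := by rw [ha2, hb2, one_mul]
  inv_mem' := by
    rintro a ⟨ha, ha1, ha2⟩
    have : a⁻¹ = a := inv_eq_of_mul_eq_one_left ha2
    rw [this]
    exact ⟨ha, ha1, ha2⟩

theorem mem_omQ {z : G} : z ∈ omQ Q ↔ z ∈ Q ∧ (∀ q ∈ Q, z * q = q * z) ∧ z * z = 1 := Iff.rfl

theorem omQ_normal : (omQ Q).Normal := by
  constructor
  rintro z ⟨h1, h2, h3⟩ g
  refine ⟨hQ.conj_mem z h1 g, ?_, ?_⟩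
  · intro q hq
    have h4 := h2 (g⁻¹ * q * g) (by have := hQ.conj_mem q hq g⁻¹; rwa [inv_inv] at this)
    calc g * z * g⁻¹ * q = g * (z * (g⁻¹ * q * g)) * g⁻¹ := by group
      _ = g * ((g⁻¹ * q * g) * z) * g⁻¹ := by rw [h4]
      _ = _ := by group
  · calc g * z * g⁻¹ * (g * z * g⁻¹) = g * (z * z) * g⁻¹ := by group
      _ = 1 := by rw [h3]; group

theorem omQ_ne_bot (h2 : IsPGroup 2 Q) (h : Q ≠ ⊥) : omQ Q ≠ ⊥ := by
  haveI : Fact (Nat.Prime 2) := ⟨Nat.prime_two⟩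
  haveI : Nontrivial Q := (nontrivial_iff_ne_bot Q).2 h
  obtain ⟨n, hn, hn1⟩ := (h2.to_subgroup (center Q)).nontrivial_iff_card.1 h2.center_nontrivial
  obtain ⟨z, hz⟩ := exists_prime_orderOf_dvd_card' (G := center Q) 2 (by rw [hn1]; exact dvd_pow_self 2 (by omega))
  intro hb
  have h3 : ((z : Q) : G) ∈ omQ Q := by
    refine ⟨(z : Q).2, ?_, ?_⟩
    · intro q hq
      exact (congrArg Subtype.val (mem_center_iff.1 z.2 ⟨q, hq⟩)).symm
    · have h4 : z * z = 1 := by rw [← pow_two, ← hz, pow_orderOf_eq_one]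
      have h5 := congrArg (fun x : center Q => ((x : Q) : G)) h4
      exact h5
  rw [hb, mem_bot] at h3
  have h4 : z = 1 := Subtype.ext (Subtype.ext h3)
  rw [h4, orderOf_one] at hz
  omega

theorem Hig.quot (H : Hig G Q) (Z : Subgroup G) [hZ : Z.Normal] (hZQ : Z ≤ Q) :
    haveI : (Q.map (QuotientGroup.mk' Z)).Normal := hQ.map _ (QuotientGroup.mk'_surjective Z)
    Hig (G ⧸ Z) (Q.map (QuotientGroup.mk' Z)) := by
  haveI : (Q.map (QuotientGroup.mk' Z)).Normal := hQ.map _ (QuotientGroup.mk'_surjective Z)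
  have hmem : ∀ g : G, (QuotientGroup.mk g : G ⧸ Z) ∈ Q.map (QuotientGroup.mk' Z) ↔ g ∈ Q := by
    intro g
    constructor
    · rintro ⟨q, hq, e⟩
      have e1 : q⁻¹ * g ∈ Z := QuotientGroup.eq.1 e
      have : g = q * (q⁻¹ * g) := by group
      rw [this]
      exact Q.mul_mem hq (hZQ e1)
    · intro h
      exact ⟨g, h, rfl⟩
  refine ⟨H.two.map _, ?_, ?_⟩
  · obtain ⟨e⟩ := H.iso
    exact ⟨(QuotientGroup.quotientQuotientEquivQuotient Z Q hZQ).trans e⟩
  · intro x h1 h2 y hy hxy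
    obtain ⟨g, rfl⟩ := QuotientGroup.mk_surjective x
    obtain ⟨q, hq, rfl⟩ := hy
    rw [hmem] at h1
    rw [← QuotientGroup.mk_pow, hmem] at h2
    have h3 := H.cube h1 h2
    haveI : Fact (Nat.Prime 3) := ⟨Nat.prime_three⟩
    have hg1 : g ≠ 1 := by rintro rfl; exact h1 Q.one_mem
    have hgo : orderOf g = 3 := orderOf_eq_prime h3 hg1
    have hA : IsPGroup 3 (zpowers g) := IsPGroup.of_card (n := 1) (by rw [Nat.card_zpowers, hgo, pow_one])
    obtain ⟨y, hy1, hy2⟩ := SigF.exists_fixed_coset (A := zpowers g) (D := Z) hA (by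
        intro h
        haveI : Fact (Nat.Prime 2) := ⟨Nat.prime_two⟩
        obtain ⟨n, hn⟩ := (H.two.to_le hZQ).exists_card_eq
        rw [hn] at h
        have := (Nat.prime_dvd_prime_iff_eq Nat.prime_three Nat.prime_two).1 (Nat.prime_three.dvd_of_dvd_pow h)
        omega) (by rw [normalizer_eq_top]; exact le_top) (x := q) (by
        intro a ha
        obtain ⟨i, rfl⟩ := ha
        simp only
        rw [← QuotientGroup.eq_one_iff]
        have h5 : (QuotientGroup.mk q : G ⧸ Z) * (QuotientGroup.mk g) ^ i = (QuotientGroup.mk g) ^ i * QuotientGroup.mk q :=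
          Commute.zpow_right (show Commute (QuotientGroup.mk q : G ⧸ Z) (QuotientGroup.mk g) from hxy.symm) i
        have h6 : (QuotientGroup.mk (q⁻¹ * (g ^ i * q * (g ^ i)⁻¹)) : G ⧸ Z) =
          (QuotientGroup.mk q)⁻¹ * (((QuotientGroup.mk g) ^ i * QuotientGroup.mk q) * ((QuotientGroup.mk g) ^ i)⁻¹) := rfl
        rw [h6, ← h5]; group)
    have hyQ : y ∈ Q := by
      have : y = q * (q⁻¹ * y) := by group
      rw [this]; exact Q.mul_mem hq (hZQ hy1)
    have hy0 := H.fpf g h1 h2 y hyQ (hy2 g (mem_zpowers g))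
    rw [hy0, mul_one] at hy1
    exact (QuotientGroup.eq_one_iff q).2 (by have := Z.inv_mem hy1; rwa [inv_inv] at this)

theorem Hig.comm_aux : ∀ (n : ℕ) (G : Type u) [Group G] [Finite G] (Q : Subgroup G) [Q.Normal], Nat.card Q ≤ n →
    Hig G Q → ∀ a ∈ Q, ∀ b ∈ Q, a * b = b * a := by
  intro n
  induction n with
  | zero =>
    intro G _ _ Q _ h
    exact absurd (Nat.card_pos (α := Q)) (by omega)
  | succ n ih =>
    intro G _ _ Q hQ hn H
    by_cases hb : Q = ⊥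
    · intro a ha b hb'
      rw [hb, mem_bot] at ha hb'
      rw [ha, hb']
    haveI hZ : (omQ Q).Normal := omQ_normal
    have hZQ : omQ Q ≤ Q := fun z hz => hz.1
    have hZb := omQ_ne_bot H.two hb
    haveI : (Q.map (QuotientGroup.mk' (omQ Q))).Normal := hQ.map _ (QuotientGroup.mk'_surjective _)
    have H' := H.quot (omQ Q) hZQ
    have hcard : Nat.card (Q.map (QuotientGroup.mk' (omQ Q))) ≤ n := by
      have h5 : (⊥ : Subgroup (G ⧸ omQ Q)).comap (QuotientGroup.mk' (omQ Q)) = omQ Q :=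
        (MonoidHom.comap_bot _).trans (QuotientGroup.ker_mk' (omQ Q))
      have h6 : ((⊥ : Subgroup (G ⧸ omQ Q)).comap (QuotientGroup.mk' (omQ Q))).relIndex Q =
          Nat.card (Q.map (QuotientGroup.mk' (omQ Q))) := by
        rw [Subgroup.relIndex_comap, relIndex_bot_left]
      have h7 : (omQ Q).relIndex Q = Nat.card (Q.map (QuotientGroup.mk' (omQ Q))) := by
        rw [← h6]
        exact congrArg (fun K => Subgroup.relIndex K Q) h5.symm
      have h8 : Nat.card (omQ Q) * (omQ Q).relIndex Q = Nat.card Q := by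
        rw [← Nat.card_congr (subgroupOfEquivOfLe hZQ).toEquiv]
        exact card_mul_index _
      have h9 : 1 < Nat.card (omQ Q) := by
        haveI : Nontrivial (omQ Q) := (nontrivial_iff_ne_bot _).2 hZb
        exact Finite.one_lt_card
      rw [← h7]
      have h10 : 0 < (omQ Q).relIndex Q := by rw [h7]; exact Nat.card_pos
      have h11 : 2 * (omQ Q).relIndex Q ≤ Nat.card (omQ Q) * (omQ Q).relIndex Q := Nat.mul_le_mul_right _ h9
      omega
    have h1 := ih (G ⧸ omQ Q) (Q.map (QuotientGroup.mk' (omQ Q))) hcard H'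
    apply H.class_two
    intro a ha b hb q hq
    have h2 : cm a b ∈ omQ Q := by
      have h3 := h1 (QuotientGroup.mk a) ⟨a, ha, rfl⟩ (QuotientGroup.mk b) ⟨b, hb, rfl⟩
      rw [← QuotientGroup.eq_one_iff]
      change (QuotientGroup.mk a : G ⧸ omQ Q) * QuotientGroup.mk b * (QuotientGroup.mk a)⁻¹ * (QuotientGroup.mk b)⁻¹ = 1
      rw [h3]; group
    exact h2.2.1 q hq

end

theorem Hig.main {G : Type u} [Group G] [Finite G] {Q : Subgroup G} [Q.Normal] (H : Hig G Q) :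
    (∀ a ∈ Q, ∀ b ∈ Q, a * b = b * a) ∧ ∀ a ∈ Q, a * a = 1 := by
  have h := Hig.comm_aux (Nat.card Q) G Q le_rfl H
  exact ⟨h, H.exp_of_comm h⟩

end Cfsg.Agent.JY
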