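import Mathlib
import Cfsg.Agent.JY.Five2
import Cfsg.Agent.JY.Eppo
import Cfsg.Agent.Hall.Gaschutz

/-! The complement of the normal 2-subgroup. -/

set_option autoImplicit false
set_option linter.unusedSectionVars false
set_option linter.style.haveILetI false

namespace Cfsg.Agent.JY

open Subgroup Cfsg

universe u

/-- the four-group generated by two commuting involutions -/
def four {G : Type*} [Group G] (t u : G) (ht : t * t = 1) (hu : u * u = 1) (htu : u * t = t * u) : Subgroup G where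
  carrier := {x | x = 1 ∨ x = t ∨ x = u ∨ x = t * u}
  one_mem' := Or.inl rfl
  mul_mem' := by
    have h1 : t * (t * u) = u := by rw [← mul_assoc, ht, one_mul]
    have h2 : u * (t * u) = t := by rw [← mul_assoc, htu, mul_assoc, hu, mul_one]
    have h3 : t * u * t = u := by rw [mul_assoc, htu, h1]
    have h4 : t * u * u = t := by rw [mul_assoc, hu, mul_one]
    have h5 : t * u * (t * u) = 1 := by rw [← mul_assoc, h3, hu]
    rintro a b (rfl | rfl | rfl | rfl) (rfl | rfl | rfl | rfl) <;>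
      simp [ht, hu, htu, h1, h2, h3, h4, h5]
  inv_mem' := by
    have h1 : t⁻¹ = t := inv_eq_of_mul_eq_one_right ht
    have h2 : u⁻¹ = u := inv_eq_of_mul_eq_one_right hu
    rintro a (rfl | rfl | rfl | rfl) <;> simp [h1, h2, htu]

section

variable {G : Type u} [Group G] [Finite G] {Q : Subgroup G} [hQ : Q.Normal] (H : Hig G Q)

include H

theorem Hig.card_quot : Q.index = 60 := by
  obtain ⟨e⟩ := H.iso
  rw [Subgroup.index, Nat.card_congr e.toEquiv, Nat.card_eq_fintype_card]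
  decide +kernel

/-- an involution outside `Q` with a suitable 3-element -/
theorem Hig.exists_compl (hab : ∀ a ∈ Q, ∀ b ∈ Q, a * b = b * a) : ∃ K : Subgroup G, Subgroup.IsComplement' Q K := by
  obtain ⟨e⟩ := H.iso
  have hlift : ∀ x : alternatingGroup (Fin 5), ∃ g : G, e (QuotientGroup.mk g) = x := by
    intro x
    obtain ⟨g, hg⟩ := QuotientGroup.mk_surjective (e.symm x)
    exact ⟨g, by rw [hg, e.apply_symm_apply]⟩
  have hker : ∀ g : G, e (QuotientGroup.mk g) = 1 → g ∈ Q := by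
    intro g hg
    rw [← QuotientGroup.eq_one_iff]
    exact e.injective (by rw [hg, map_one])
  have hker' : ∀ g : G, g ∈ Q → e (QuotientGroup.mk g) = 1 := by
    intro g hg
    rw [(QuotientGroup.eq_one_iff g).2 hg, map_one]
  set t0 : alternatingGroup (Fin 5) := dd5 0 1 2 3 (by decide) with ht0
  set s0 : alternatingGroup (Fin 5) := dd5 0 1 1 4 (by decide) with hs0
  set r0 : alternatingGroup (Fin 5) := dd5 0 1 1 2 (by decide) with hr0
  have d1 : t0 ≠ 1 ∧ t0 * t0 = 1 ∧ s0 ≠ 1 ∧ s0 * s0 * s0 = 1 ∧ t0 * s0 * t0⁻¹ = s0⁻¹ ∧ r0 ≠ 1 ∧ r0 * r0 * r0 = 1 ∧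
      t0 * r0 ≠ 1 ∧ (t0 * r0) * (t0 * r0) * (t0 * r0) = 1 ∧ r0 * t0 * r0⁻¹ ≠ 1 ∧ t0 * (r0 * t0 * r0⁻¹) ≠ 1 := by
    rw [ht0, hs0, hr0]; decide +kernel
  clear_value t0 s0 r0
  obtain ⟨c1, c2, c3, c4, c5, c6, c7, c8, c9, c10, c11⟩ := d1
  obtain ⟨g, hg⟩ := hlift t0
  obtain ⟨s, hs⟩ := hlift s0
  obtain ⟨r, hr⟩ := hlift r0
  have hs1 : s ∉ Q := fun h => c3 (by rw [← hs]; exact hker' s h)
  have hs2 : s ^ 3 ∈ Q := hker _ (by rw [QuotientGroup.mk_pow, map_pow, hs, pow_succ, pow_two, c4])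
  -- adjust
  let f : Q → Q := fun y => ⟨s * y * s⁻¹ * (y : G)⁻¹, Q.mul_mem (hQ.conj_mem y y.2 s) (Q.inv_mem y.2)⟩
  have hf : Function.Injective f := by
    intro y z e0
    have e1 : s * (y : G) * s⁻¹ * (y : G)⁻¹ = s * z * s⁻¹ * (z : G)⁻¹ := congrArg Subtype.val e0
    have e2 : (z : G)⁻¹ * (y : G) = 1 := by
      apply H.fpf s hs1 hs2 _ (Q.mul_mem (Q.inv_mem z.2) y.2)
      have e3 : s * ((z : G)⁻¹ * y) * s⁻¹ = (z : G)⁻¹ * y := by
        calc s * ((z : G)⁻¹ * y) * s⁻¹ = (s * z * s⁻¹)⁻¹ * (s * (y : G) * s⁻¹ * (y : G)⁻¹) * y := by group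
          _ = (s * z * s⁻¹)⁻¹ * (s * z * s⁻¹ * (z : G)⁻¹) * y := by rw [e1]
          _ = _ := by group
      calc s * ((z : G)⁻¹ * y) = s * ((z : G)⁻¹ * y) * s⁻¹ * s := by group
        _ = _ := by rw [e3]
    exact Subtype.ext (inv_mul_eq_one.1 e2).symm
  have hmem : s * (g * s * g⁻¹) ∈ Q := hker _ (by
    rw [QuotientGroup.mk_mul, QuotientGroup.mk_mul, QuotientGroup.mk_mul, QuotientGroup.mk_inv, map_mul, map_mul,
      map_mul, map_inv, hs, hg, c5, mul_inv_cancel])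
  obtain ⟨q, hq⟩ := (Finite.injective_iff_surjective.1 hf) ⟨_, hmem⟩
  have hq' : s * (q : G) * s⁻¹ * (q : G)⁻¹ = s * (g * s * g⁻¹) := congrArg Subtype.val hq
  have hq2 : (q : G) * s⁻¹ * (q : G)⁻¹ = g * s * g⁻¹ := by
    apply mul_left_cancel (a := s)
    rw [← hq']; group
  set t : G := (q : G)⁻¹ * g with ht
  have hqt : e (QuotientGroup.mk (t : G)) = t0 := by
    rw [ht, QuotientGroup.mk_mul, map_mul, hker' _ (Q.inv_mem q.2), one_mul, hg]
  have hts : t * s * t⁻¹ = s⁻¹ := by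
    calc t * s * t⁻¹ = (q : G)⁻¹ * (g * s * g⁻¹) * q := by rw [ht]; group
      _ = (q : G)⁻¹ * ((q : G) * s⁻¹ * (q : G)⁻¹) * q := by rw [hq2]
      _ = s⁻¹ := by group
  have htt : t * t = 1 := by
    apply H.fpf s hs1 hs2
    · apply hker
      rw [QuotientGroup.mk_mul, map_mul, hqt, c2]
    · have h1 : t * t * s * (t * t)⁻¹ = s := by
        calc t * t * s * (t * t)⁻¹ = t * (t * s * t⁻¹) * t⁻¹ := by group
          _ = t * s⁻¹ * t⁻¹ := by rw [hts]
          _ = (t * s * t⁻¹)⁻¹ := by group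
          _ = s := by rw [hts, inv_inv]
      calc s * (t * t) = (t * t * s * (t * t)⁻¹) * (t * t) := by rw [h1]
        _ = t * t * s := by group
  set u : G := r * t * r⁻¹ with hu
  have huu : u * u = 1 := by
    calc u * u = r * (t * t) * r⁻¹ := by rw [hu]; group
      _ = 1 := by rw [htt]; group
  have hqu : e (QuotientGroup.mk (u : G)) = r0 * t0 * r0⁻¹ := by
    rw [hu, QuotientGroup.mk_mul, QuotientGroup.mk_mul, QuotientGroup.mk_inv, map_mul, map_mul, map_inv, hr, hqt]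
  have hr1 : r ∉ Q := fun h => c6 (by rw [← hr]; exact hker' r h)
  have hr2 : r ^ 3 ∈ Q := hker _ (by rw [QuotientGroup.mk_pow, map_pow, hr, pow_succ, pow_two, c7])
  have hr3 := H.cube hr1 hr2
  have htr : e (QuotientGroup.mk (t * r : G)) = t0 * r0 := by rw [QuotientGroup.mk_mul, map_mul, hqt, hr]
  have htr1 : t * r ∉ Q := fun h => c8 (by rw [← htr]; exact hker' _ h)
  have htr2 : (t * r) ^ 3 ∈ Q := hker _ (by rw [QuotientGroup.mk_pow, map_pow, htr, pow_succ, pow_two, c9])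
  have htr3 := H.cube htr1 htr2
  have htu2 : t * u * (r * u * r⁻¹) = 1 := by
    have : r⁻¹ * r⁻¹ = r := by
      have h : r * r * r = 1 := by rw [← hr3, pow_succ, pow_two]
      calc r⁻¹ * r⁻¹ = r⁻¹ * r⁻¹ * (r * r * r) := by rw [h, mul_one]
        _ = r := by group
    calc t * u * (r * u * r⁻¹) = t * r * t * r * t * (r⁻¹ * r⁻¹) := by rw [hu]; group
      _ = t * r * t * r * t * r := by rw [this]
      _ = (t * r) ^ 3 := by rw [pow_succ, pow_two]; group
      _ = 1 := htr3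
  have htu3 : (t * u) * (t * u) = 1 := by
    have h1 : t * u = (r * u * r⁻¹)⁻¹ := eq_inv_of_mul_eq_one_left htu2
    calc (t * u) * (t * u) = (r * u * r⁻¹)⁻¹ * (r * u * r⁻¹)⁻¹ := by rw [← h1]
      _ = r * (u * u)⁻¹ * r⁻¹ := by group
      _ = 1 := by rw [huu]; group
  have hut : u * t = t * u := by
    have h1 : t⁻¹ = t := inv_eq_of_mul_eq_one_right htt
    have h2 : u⁻¹ = u := inv_eq_of_mul_eq_one_right huu
    have h3 : (t * u)⁻¹ = t * u := inv_eq_of_mul_eq_one_right htu3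
    rw [mul_inv_rev, h1, h2] at h3
    exact h3
  let A : Subgroup G := four t u htt huu hut
  have hmemA : ∀ x : G, x ∈ A ↔ (x = 1 ∨ x = t ∨ x = u ∨ x = t * u) := fun x => Iff.rfl
  have ht1 : t ∉ Q := fun h => c1 (by rw [← hqt]; exact hker' t h)
  have hu1 : u ∉ Q := fun h => c10 (by rw [← hqu]; exact hker' u h)
  have hqtu : e (QuotientGroup.mk (t * u : G)) = t0 * (r0 * t0 * r0⁻¹) := by
    rw [QuotientGroup.mk_mul, map_mul, hqt, hqu]
  have htu1 : t * u ∉ Q := fun h => c11 (by rw [← hqtu]; exact hker' _ h)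
  have hAQ : A ⊓ Q = ⊥ := by
    rw [eq_bot_iff]
    rintro x ⟨hxA, hxQ⟩
    rw [Subgroup.mem_bot]
    rcases (hmemA x).1 hxA with h | h | h | h
    · exact h
    · exact absurd (h ▸ hxQ) ht1
    · exact absurd (h ▸ hxQ) hu1
    · exact absurd (h ▸ hxQ) htu1
  have hcA : Nat.card A = 4 := by
    classical
    have h0 : (A : Set G) = (({1, t, u, t * u} : Finset G) : Set G) := by
      ext x
      rw [SetLike.mem_coe, hmemA]; simp
    have n1 : t ≠ 1 := fun h => ht1 (h ▸ Q.one_mem)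
    have n2 : u ≠ 1 := fun h => hu1 (h ▸ Q.one_mem)
    have n3 : t * u ≠ 1 := fun h => htu1 (h ▸ Q.one_mem)
    have n4 : t ≠ u := fun h => n3 (by rw [← h, htt])
    have n5 : t ≠ t * u := fun h => n2 (mul_eq_left.1 h.symm)
    have n6 : u ≠ t * u := fun h => n1 (mul_eq_right.1 h.symm)
    change Nat.card (A : Set G) = 4
    rw [Nat.card_coe_set_eq, h0, Set.ncard_coe_finset, Finset.card_insert_of_notMem, Finset.card_insert_of_notMem,
      Finset.card_insert_of_notMem, Finset.card_singleton]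
    · simpa using n6
    · simp only [Finset.mem_insert, Finset.mem_singleton, not_or]; exact ⟨n4, n5⟩
    · simp only [Finset.mem_insert, Finset.mem_singleton, not_or]; exact ⟨n1.symm, n2.symm, n3.symm⟩
  have hidx : (Q ⊔ A).index = 15 := by
    have h1 := Subgroup.relIndex_mul_index (le_sup_left : Q ≤ Q ⊔ A)
    rw [Subgroup.relIndex_sup_left, ← Subgroup.inf_relIndex_right, inf_comm, hAQ, Subgroup.relIndex_bot_left, hcA,
      H.card_quot] at h1
    omega
  haveI : IsMulCommutative Q := ⟨⟨fun a b => Subtype.ext (hab a a.2 b b.2)⟩⟩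
  haveI : Fact (Nat.Prime 2) := ⟨Nat.prime_two⟩
  apply Cfsg.Agent.Hall.gaschutz_exists Q (Q ⊔ A) le_sup_left _ A le_sup_right hAQ rfl
  rw [hidx]
  obtain ⟨n, hn⟩ := H.two.exists_card_eq
  rw [hn]
  exact Nat.Coprime.pow_left n (by norm_num)

theorem Hig.exists_sl2 (hab : ∀ a ∈ Q, ∀ b ∈ Q, a * b = b * a) :
    ∃ (F : Type) (_ : Field F) (_ : Fintype F), Fintype.card F = 4 ∧
      ∃ ψ : Matrix.SpecialLinearGroup (Fin 2) F →* G, ∀ A, ψ A ∈ Q → A = 1 := by
  obtain ⟨F, iF, iF2, hF, ⟨e1⟩⟩ := alt_five_psl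
  obtain ⟨K, hK⟩ := H.exists_compl hab
  obtain ⟨e⟩ := H.iso
  have hF' : Fintype.card F = 2 ^ 2 := by rw [hF]; norm_num
  haveI := (H68.CA.isCA_psl2 (by norm_num : 1 ≤ 2) hF').1
  obtain ⟨e2⟩ := H21.nonempty_mulEquiv_psl2 (F := F)
  refine ⟨F, iF, iF2, hF, K.subtype.comp (((e2.trans e1.symm).trans (e.symm.trans hK.symm.QuotientMulEquiv)).toMonoidHom),
    ?_⟩
  intro A hA
  have h1 : ((((e2.trans e1.symm).trans (e.symm.trans hK.symm.QuotientMulEquiv)) A : K) : G) ∈ Q ⊓ K :=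
    ⟨hA, Subtype.property _⟩
  rw [hK.disjoint.eq_bot, Subgroup.mem_bot] at h1
  exact (MulEquiv.map_eq_one_iff _).1 (Subtype.ext h1)

end

end Cfsg.Agent.JY
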