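import Mathlib
import Cfsg.Agent.JY.CritA
import Cfsg.Agent.RankOne.SteinHom

/-! The natural module inside the normal 2-subgroup. -/

set_option autoImplicit false
set_option linter.unusedSectionVars false
set_option linter.style.haveILetI false

namespace Cfsg.Agent.JY

open Subgroup Cfsg

universe u

section

variable {F : Type} [Field F]

/-- diagonal matrices -/
def dg (c : Fˣ) : Matrix.SpecialLinearGroup (Fin 2) F :=
  ⟨!![(c : F), 0; 0, ((c⁻¹ : Fˣ) : F)], by rw [Matrix.det_fin_two_of]; simp⟩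

theorem coe_dg (c : Fˣ) : (dg c : Matrix (Fin 2) (Fin 2) F) = !![(c : F), 0; 0, ((c⁻¹ : Fˣ) : F)] := rfl

theorem dg_mul (c d : Fˣ) : dg (c * d) = dg c * dg d := by
  apply RankOne.sl_ext <;> simp [coe_dg, Matrix.mul_apply, Fin.sum_univ_two, mul_comm]

theorem dg_one : dg (1 : Fˣ) = 1 := by
  apply RankOne.sl_ext <;> simp [coe_dg]

end

section

variable {G : Type u} [Group G] {F : Type} [Field F]

/-- conjugation through `ψ` -/
def ac (ψ : Matrix.SpecialLinearGroup (Fin 2) F →* G) (A : Matrix.SpecialLinearGroup (Fin 2) F) (x : G) : G :=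
  ψ A * x * (ψ A)⁻¹

variable (ψ : Matrix.SpecialLinearGroup (Fin 2) F →* G)

theorem ac_comp (A B : Matrix.SpecialLinearGroup (Fin 2) F) (x : G) : ac ψ (A * B) x = ac ψ A (ac ψ B x) := by
  simp only [ac, map_mul]; group

theorem ac_one (x : G) : ac ψ 1 x = x := by simp [ac]

theorem ac_mul (A : Matrix.SpecialLinearGroup (Fin 2) F) (x y : G) : ac ψ A (x * y) = ac ψ A x * ac ψ A y := by
  simp only [ac]; group

theorem ac_id (A : Matrix.SpecialLinearGroup (Fin 2) F) : ac ψ A 1 = 1 := by simp [ac]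

theorem ac_mem {Q : Subgroup G} [hQ : Q.Normal] (A : Matrix.SpecialLinearGroup (Fin 2) F) {x : G} (hx : x ∈ Q) :
    ac ψ A x ∈ Q := hQ.conj_mem x hx _

end

section

variable {F : Type} [Field F] [Fintype F] (hF : Fintype.card F = 4)

include hF

theorem charTwo : CharP F 2 := by
  obtain ⟨p, hp⟩ := CharP.exists F
  haveI := hp
  obtain ⟨n, hp1, hn⟩ := FiniteField.card F p
  rw [hF] at hn
  have h1 : p ∣ 2 ^ 2 := by
    have : p ∣ p ^ (n : ℕ) := dvd_pow_self p n.pos.ne'
    rw [← hn] at this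
    exact this
  have h2 := (Nat.prime_dvd_prime_iff_eq hp1 Nat.prime_two).1 (hp1.dvd_of_dvd_pow h1)
  rw [← h2]; exact hp

theorem cube_one {c : F} (hc : c ≠ 0) : c ^ 3 = 1 := by
  have := FiniteField.pow_card_sub_one_eq_one c hc
  rwa [hF] at this

theorem one_add {z : F} (h0 : z ≠ 0) (h1 : z ≠ 1) : 1 + z = z * z := by
  haveI := charTwo hF
  have h2 : (2 : F) = 0 := by exact_mod_cast CharP.cast_eq_zero F 2
  have h3 := cube_one hF h0
  have h4 : (z - 1) * (z * z + z + 1) = 0 := by linear_combination h3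
  have h5 := (mul_eq_zero.1 h4).resolve_left (sub_ne_zero.2 h1)
  linear_combination h5 - z * z * h2

end

section

variable {G : Type u} [Group G] [Finite G] {Q : Subgroup G} [hQ : Q.Normal] {F : Type} [Field F] [Fintype F]

theorem exists_fix (h2 : IsPGroup 2 Q) (hne : Q ≠ ⊥) (hF : Fintype.card F = 4)
    (ψ : Matrix.SpecialLinearGroup (Fin 2) F →* G) :
    ∃ e ∈ Q, e ≠ 1 ∧ ∀ t : F, ac ψ (RankOne.up t) e = e := by
  haveI : Fact (Nat.Prime 2) := ⟨Nat.prime_two⟩
  let μ : Multiplicative F →* MulAut Q :=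
    { toFun := fun t => MulAut.conjNormal (ψ (RankOne.up t.toAdd))
      map_one' := by
        change MulAut.conjNormal (ψ (RankOne.up (0 : F))) = 1
        rw [RankOne.up_zero, map_one, map_one]
      map_mul' := by
        intro a b
        change MulAut.conjNormal (ψ (RankOne.up (a.toAdd + b.toAdd))) = _
        rw [← RankOne.up_mul, map_mul, map_mul] }
  letI : MulAction (Multiplicative F) Q := MulAction.compHom Q μ
  have hsm : ∀ (t : Multiplicative F) (x : Q), ((t • x : Q) : G) = ac ψ (RankOne.up t.toAdd) x := by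
    intro t x
    exact MulAut.conjNormal_apply _ _
  have hP : IsPGroup 2 (Multiplicative F) := IsPGroup.of_card (n := 2) (by
    rw [Nat.card_eq_fintype_card, Fintype.card_multiplicative, hF]; norm_num)
  have hd : 2 ∣ Nat.card Q := by
    obtain ⟨n, hn⟩ := h2.exists_card_eq
    rw [hn]
    apply dvd_pow_self
    rintro rfl
    rw [pow_zero] at hn
    exact hne (Subgroup.card_eq_one.1 hn)
  have h1 : (1 : Q) ∈ MulAction.fixedPoints (Multiplicative F) Q := by
    intro t
    apply Subtype.ext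
    rw [hsm]
    exact ac_id ψ _
  obtain ⟨b, hb, hb1⟩ := hP.exists_fixed_point_of_prime_dvd_card_of_fixed_point Q hd h1
  refine ⟨b, b.2, fun h => hb1 (Subtype.ext h.symm), fun t => ?_⟩
  exact (hsm (Multiplicative.ofAdd t) b).symm.trans (congrArg Subtype.val (hb _))

theorem Hig.exists_mod (H : Hig G Q) (hab : ∀ a ∈ Q, ∀ b ∈ Q, a * b = b * a) (hsq : ∀ a ∈ Q, a * a = 1)
    (hne : Q ≠ ⊥) (hF : Fintype.card F = 4) (ψ : Matrix.SpecialLinearGroup (Fin 2) F →* G)
    (hψ : ∀ A, ψ A ∈ Q → A = 1) :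
    ∃ φ : (Fin 2 → F) → G, (∀ v, φ v ∈ Q) ∧ (∀ v w, φ (v + w) = φ v * φ w) ∧ (∀ v, φ v = 1 → v = 0) ∧
      ∀ A v, ac ψ A (φ v) = φ ((A : Matrix (Fin 2) (Fin 2) F).mulVec v) := by
  classical
  haveI := charTwo hF
  have h2 : (2 : F) = 0 := by exact_mod_cast CharP.cast_eq_zero F 2
  have hneg : ∀ a : F, -a = a := fun a => by linear_combination -a * h2
  have haa : ∀ a : F, a + a = 0 := fun a => by linear_combination a * h2
  have hinv : ∀ a ∈ Q, a⁻¹ = a := fun a ha => inv_eq_of_mul_eq_one_right (hsq a ha)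
  have key3 : ∀ A : Matrix.SpecialLinearGroup (Fin 2) F, A ≠ 1 → A * A * A = 1 → ∀ x ∈ Q,
      x * ac ψ A x * ac ψ A (ac ψ A x) = 1 := by
    intro A h1 h3 x hx
    apply H.tele (g := ψ A) (fun h => h1 (hψ A h)) _ hx
    rw [← map_pow, pow_succ, pow_two, h3, map_one]
    exact Q.one_mem
  obtain ⟨e, heQ, he1, hefix⟩ := exists_fix H.two hne hF ψ
  let br : F → G := fun c => if h : c = 0 then 1 else ac ψ (dg (Units.mk0 c h)) e
  have br0 : br 0 = 1 := dif_pos rfl
  have brne : ∀ c : Fˣ, br c = ac ψ (dg c) e := by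
    intro c
    have h1 : br c = ac ψ (dg (Units.mk0 (c : F) c.ne_zero)) e := dif_neg c.ne_zero
    rw [h1, Units.mk0_val]
  have brcases : ∀ c : F, c = 0 ∨ ∃ d : Fˣ, (d : F) = c := by
    intro c
    by_cases h : c = 0
    · exact Or.inl h
    · exact Or.inr ⟨Units.mk0 c h, rfl⟩
  have brmem : ∀ c, br c ∈ Q := by
    intro c
    rcases brcases c with rfl | ⟨d, rfl⟩
    · rw [br0]; exact Q.one_mem
    · rw [brne]; exact ac_mem ψ _ heQ
  have brsm : ∀ (c : Fˣ) (x : F), ac ψ (dg c) (br x) = br (c * x) := by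
    intro c x
    rcases brcases x with rfl | ⟨d, rfl⟩
    · rw [mul_zero, br0, ac_id]
    · rw [← Units.val_mul, brne, brne, dg_mul, ac_comp]
  have brfix : ∀ t x : F, ac ψ (RankOne.up t) (br x) = br x := by
    intro t x
    rcases brcases x with rfl | ⟨d, rfl⟩
    · rw [br0, ac_id]
    · have h1 : RankOne.up t * dg d = dg d * RankOne.up (t * ((d⁻¹ : Fˣ) : F) * ((d⁻¹ : Fˣ) : F)) := by
        apply RankOne.sl_ext <;> simp [coe_dg, RankOne.coe_up, Matrix.mul_apply, Fin.sum_univ_two]
        field_simp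
      rw [brne, ← ac_comp, h1, ac_comp, hefix]
  have brone : ∀ c : F, br c = 1 → c = 0 := by
    intro c hc
    rcases brcases c with rfl | ⟨d, rfl⟩
    · rfl
    · exfalso
      rw [brne] at hc
      apply he1
      have h1 := congrArg (ac ψ (dg d⁻¹)) hc
      rwa [← ac_comp, ← dg_mul, inv_mul_cancel, dg_one, ac_one, ac_id] at h1
  have bradd : ∀ a b : F, br (a + b) = br a * br b := by
    intro a b
    rcases brcases a with rfl | ⟨x, rfl⟩
    · rw [zero_add, br0, one_mul]
    rcases brcases b with rfl | ⟨y, rfl⟩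
    · rw [add_zero, br0, mul_one]
    by_cases hxy : x = y
    · subst hxy
      rw [haa, br0, hsq _ (brmem _)]
    · obtain ⟨z, hz⟩ : ∃ z : Fˣ, z = y * x⁻¹ := ⟨_, rfl⟩
      have hz1 : z ≠ 1 := by
        intro h
        rw [hz, mul_inv_eq_one] at h
        exact hxy h.symm
      have hz1' : (z : F) ≠ 1 := fun h => hz1 (Units.ext h)
      have hzy : y = z * x := by rw [hz]; group
      have hz3 : z * z * z = 1 := by
        apply Units.ext
        rw [Units.val_mul, Units.val_mul, Units.val_one, ← cube_one hF z.ne_zero]; ring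
      have h1 := one_add hF z.ne_zero hz1'
      have h3 := key3 (dg z) (by
        intro h
        have h5 := congrArg (fun A : Matrix.SpecialLinearGroup (Fin 2) F => (A : Matrix (Fin 2) (Fin 2) F) 0 0) h
        simp [coe_dg] at h5
        exact hz1 h5) (by rw [← dg_mul, ← dg_mul, hz3, dg_one]) (br x) (brmem _)
      rw [brsm, brsm] at h3
      have e1 : ((x : F) + y) = z * (z * x) := by
        rw [hzy, Units.val_mul]
        linear_combination (x : F) * h1
      rw [e1, hzy, Units.val_mul]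
      have h4 := eq_inv_of_mul_eq_one_right h3
      rw [h4, hinv _ (Q.mul_mem (brmem _) (brmem _))]
  set w : Matrix.SpecialLinearGroup (Fin 2) F := RankOne.wm F with hw
  have hww : w * w = 1 := by
    apply RankOne.sl_ext <;> simp [hw, RankOne.coe_wm, Matrix.mul_apply, Fin.sum_univ_two, hneg]
  have rel1 : ∀ c : F, ac ψ (RankOne.up 1) (ac ψ w (br c)) = br c * ac ψ w (br c) := by
    intro c
    have h3 := key3 (RankOne.up 1 * w) (by
        intro h
        have h5 := congrArg (fun A : Matrix.SpecialLinearGroup (Fin 2) F => (A : Matrix (Fin 2) (Fin 2) F) 1 1) h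
        simp [hw, RankOne.coe_wm, RankOne.coe_up, Matrix.mul_apply, Fin.sum_univ_two] at h5) (by
        apply RankOne.sl_ext <;> simp [hw, RankOne.coe_wm, RankOne.coe_up, Matrix.mul_apply, Fin.sum_univ_two, hneg, haa])
      (br c) (brmem c)
    have h4 : RankOne.up 1 * w * (RankOne.up 1 * w) = w * RankOne.up 1 := by
      apply RankOne.sl_ext <;> simp [hw, RankOne.coe_wm, RankOne.coe_up, Matrix.mul_apply, Fin.sum_univ_two, hneg, haa]
    rw [← ac_comp, h4, ac_comp, ac_comp, brfix] at h3
    have m1 := ac_mem ψ w (brmem c)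
    have m2 := ac_mem ψ (RankOne.up 1) m1
    have h5 : br c * ac ψ (RankOne.up 1) (ac ψ w (br c)) = ac ψ w (br c) := by
      have := eq_inv_of_mul_eq_one_left h3
      rwa [hinv _ m1] at this
    calc ac ψ (RankOne.up 1) (ac ψ w (br c)) = br c * (br c * ac ψ (RankOne.up 1) (ac ψ w (br c))) := by
          rw [← mul_assoc, hsq _ (brmem c), one_mul]
      _ = _ := by rw [h5]
  have relt : ∀ t c : F, ac ψ (RankOne.up t) (ac ψ w (br c)) = br (t * c) * ac ψ w (br c) := by
    intro t c
    rcases brcases t with rfl | ⟨x, rfl⟩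
    · rw [RankOne.up_zero, ac_one, zero_mul, br0, one_mul]
    · set s : Fˣ := x * x with hs
      have hss : (s : F) * s = x := by
        rw [hs, Units.val_mul]
        have := cube_one hF x.ne_zero
        linear_combination (x : F) * this
      have h1 : RankOne.up (x : F) * w = dg s * (RankOne.up 1 * (w * dg s)) := by
        apply RankOne.sl_ext <;> simp [hw, coe_dg, RankOne.coe_wm, RankOne.coe_up, Matrix.mul_apply, Fin.sum_univ_two, hneg, hss]
      have h3 : dg s * w = w * dg s⁻¹ := by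
        apply RankOne.sl_ext <;> simp [hw, coe_dg, RankOne.coe_wm, RankOne.coe_up, Matrix.mul_apply, Fin.sum_univ_two, hneg]
      rw [← ac_comp, h1, ac_comp, ac_comp, ac_comp, brsm, rel1, ac_mul, brsm, ← ac_comp, h3, ac_comp, brsm,
        ← mul_assoc, hss, ← mul_assoc, ← Units.val_mul, inv_mul_cancel, Units.val_one, one_mul]
  let φ : (Fin 2 → F) → G := fun v => br (v 0) * ac ψ w (br (v 1))
  have φmem : ∀ v, φ v ∈ Q := fun v => Q.mul_mem (brmem _) (ac_mem ψ w (brmem _))
  have φw : ∀ v, ac ψ w (φ v) = φ ((w : Matrix (Fin 2) (Fin 2) F).mulVec v) := by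
    intro v
    have h1 : (w : Matrix (Fin 2) (Fin 2) F).mulVec v = ![v 1, v 0] := by
      funext i
      fin_cases i <;> simp [hw, RankOne.coe_wm, Matrix.mulVec, dotProduct, Fin.sum_univ_two, hneg]
    rw [h1]
    change ac ψ w (br (v 0) * ac ψ w (br (v 1))) = br (v 1) * ac ψ w (br (v 0))
    rw [ac_mul, ← ac_comp, hww, ac_one]
    exact hab _ (ac_mem ψ w (brmem _)) _ (brmem _)
  have φup : ∀ t v, ac ψ (RankOne.up t) (φ v) = φ ((RankOne.up t : Matrix (Fin 2) (Fin 2) F).mulVec v) := by
    intro t v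
    have h1 : (RankOne.up t : Matrix (Fin 2) (Fin 2) F).mulVec v = ![v 0 + t * v 1, v 1] := by
      funext i
      fin_cases i <;> simp [RankOne.coe_up, Matrix.mulVec, dotProduct, Fin.sum_univ_two]
    rw [h1]
    change ac ψ (RankOne.up t) (br (v 0) * ac ψ w (br (v 1))) = br (v 0 + t * v 1) * ac ψ w (br (v 1))
    rw [ac_mul, brfix, relt, bradd, mul_assoc]
  refine ⟨φ, φmem, ?_, ?_, ?_⟩
  · intro v v'
    change br (v 0 + v' 0) * ac ψ w (br (v 1 + v' 1)) = br (v 0) * ac ψ w (br (v 1)) * (br (v' 0) * ac ψ w (br (v' 1)))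
    rw [bradd, bradd, ac_mul, mul_assoc, mul_assoc, ← mul_assoc (br (v' 0)), ← mul_assoc (ac ψ w (br (v 1))),
      hab _ (brmem (v' 0)) _ (ac_mem ψ w (brmem (v 1)))]
  · intro v hv
    have h1 : v 1 = 0 := by
      apply brone
      have h3 := φup 1 v
      rw [hv, ac_id] at h3
      have h4 : ((RankOne.up (1 : F) : Matrix.SpecialLinearGroup (Fin 2) F) : Matrix (Fin 2) (Fin 2) F).mulVec v = ![v 0 + 1 * v 1, v 1] := by
        funext i
        fin_cases i <;> simp [RankOne.coe_up, Matrix.mulVec, dotProduct, Fin.sum_univ_two]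
      rw [h4] at h3
      change 1 = br (v 0 + 1 * v 1) * ac ψ w (br (v 1)) at h3
      change br (v 0) * ac ψ w (br (v 1)) = 1 at hv
      rw [one_mul, bradd, hab _ (brmem _) _ (brmem _), mul_assoc, hv, mul_one] at h3
      exact h3.symm
    have h0 : v 0 = 0 := by
      apply brone
      change br (v 0) * ac ψ w (br (v 1)) = 1 at hv
      rwa [h1, br0, ac_id, mul_one] at hv
    funext i
    fin_cases i
    · exact h0
    · exact h1
  · intro A
    have hA : A ∈ Subgroup.closure (Set.range (RankOne.up : F → Matrix.SpecialLinearGroup (Fin 2) F) ∪ {RankOne.wm F}) := by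
      rw [RankOne.closure_up_wm]; trivial
    induction hA using Subgroup.closure_induction with
    | mem x hx =>
      rcases hx with ⟨t, rfl⟩ | hx
      · exact φup t
      · rw [Set.mem_singleton_iff] at hx
        rw [hx]
        exact φw
    | one =>
      intro v
      rw [ac_one, Matrix.SpecialLinearGroup.coe_one, Matrix.one_mulVec]
    | mul x y _ _ hx hy =>
      intro v
      rw [ac_comp, hy, hx, Matrix.SpecialLinearGroup.coe_mul, Matrix.mulVec_mulVec]
    | inv x _ hx =>
      intro v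
      have h1 : v = (x : Matrix (Fin 2) (Fin 2) F).mulVec (((x⁻¹ : Matrix.SpecialLinearGroup (Fin 2) F) : Matrix (Fin 2) (Fin 2) F).mulVec v) := by
        rw [Matrix.mulVec_mulVec, ← Matrix.SpecialLinearGroup.coe_mul, mul_inv_cancel, Matrix.SpecialLinearGroup.coe_one,
          Matrix.one_mulVec]
      conv_lhs => rw [h1, ← hx, ← ac_comp, inv_mul_cancel, ac_one]

end

end Cfsg.Agent.JY
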