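import Mathlib
import Cfsg.Prelude.Def_Transfer
import Cfsg.Agent.JY.EppoMain
import Cfsg.Agent.JY.Six
import Cfsg.Agent.JY.Five2

/-! Groups with element orders `1, 2, 3, 4, 5`. -/

set_option autoImplicit false
set_option linter.unusedSectionVars false
set_option linter.style.haveILetI false

namespace Cfsg.Agent.JY

open Subgroup Cfsg

universe u

variable {G : Type u} [Group G] [Finite G]

/-- a noncyclic group of order nine does not act freely -/
theorem EPPO.core_bot_six (h : EPPO G) (hord : ∀ g : G, orderOf g ≤ 5) (hc : Nat.card (G ⧸ pCore 2 G) = 360) :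
    pCore 2 G = ⊥ := by
  by_contra hQ
  haveI : Fact (Nat.Prime 3) := ⟨Nat.prime_three⟩
  haveI : Fact (Nat.Prime 2) := ⟨Nat.prime_two⟩
  have hp2 : IsPGroup 2 (pCore 2 G) := pCore_two
  set Z := omQ (pCore 2 G) with hZdef
  haveI hZ : Z.Normal := omQ_normal
  have hZb : Z ≠ ⊥ := omQ_ne_bot hp2 hQ
  letI : CommGroup Z := { (inferInstance : Group Z) with
    mul_comm := fun a b => Subtype.ext (a.2.2.1 b b.2.1) }
  haveI : Nontrivial Z := (nontrivial_iff_ne_bot Z).2 hZb
  obtain ⟨P⟩ : Nonempty (Sylow 3 G) := inferInstance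
  have hPc : Nat.card P = 3 * 3 := by
    rw [Sylow.card_eq_multiplicity P]
    obtain ⟨n, hn⟩ := hp2.exists_card_eq
    have h1 : Nat.card G = 3 ^ 2 * (40 * 2 ^ n) := by
      rw [← Subgroup.card_eq_card_quotient_mul_card_subgroup (pCore 2 G) |>.symm, hc, hn]; ring
    have h2 : ¬ 3 ∣ 40 * 2 ^ n := by
      intro h
      rcases (Nat.Prime.dvd_mul Nat.prime_three).1 h with h | h
      · norm_num at h
      · have := (Nat.prime_dvd_prime_iff_eq Nat.prime_three Nat.prime_two).1 (Nat.prime_three.dvd_of_dvd_pow h)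
        omega
    rw [factorization_eq Nat.prime_three h1 h2]
    norm_num
  let φ : P →* MulAut Z := (MulAut.conjNormal (H := Z)).comp (P : Subgroup G).subtype
  have hφ : Frob.IsFPF φ := by
    intro a ha z hz
    have h1 : (a : G) * z * (a : G)⁻¹ = z := by
      have h2 : ((φ a z : Z) : G) = z := congrArg Subtype.val hz
      exact (MulAut.conjNormal_apply (a : G) z).symm.trans h2
    have h2 : (a : G) * z = z * a := by
      calc (a : G) * z = ((a : G) * z * (a : G)⁻¹) * a := by group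
        _ = z * a := by rw [h1]
    by_contra hz1
    have ha1 : (a : G) ≠ 1 := fun e => ha (Subtype.ext e)
    obtain ⟨k, hk⟩ := P.2 a
    obtain ⟨j, hj⟩ := h.comm Nat.prime_three ha1 ⟨k, congrArg Subtype.val hk⟩ h2
    have hz2 : (z : G) ^ 2 = 1 := by rw [pow_two]; exact z.2.2.2
    have h3 := orderOf_dvd_of_pow_eq_one hj
    have h4 := orderOf_dvd_of_pow_eq_one hz2
    have h5 : Nat.Coprime (3 ^ j) 2 := Nat.Coprime.pow_left j (by norm_num)
    have h6 := Nat.eq_one_of_dvd_coprimes h5 h3 h4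
    rw [orderOf_eq_one_iff] at h6
    exact hz1 (Subtype.ext h6)
  have hcyc : IsCyclic P := hφ.isCyclic_of_card_eq_mul Nat.prime_three Nat.prime_three hPc
  obtain ⟨x, hx⟩ := IsCyclic.exists_generator (α := P)
  have h1 := orderOf_eq_card_of_forall_mem_zpowers hx
  rw [hPc] at h1
  have h2 := hord x
  rw [Subgroup.orderOf_coe, h1] at h2
  omega

theorem eppo_of_ord (hord : ∀ g : G, orderOf g ≤ 5) : EPPO G := by
  intro g hg
  have h1 := hord g
  have h2 := orderOf_pos g
  have h3 : orderOf g ≠ 1 := by rwa [Ne, orderOf_eq_one_iff]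
  interval_cases h : orderOf g
  · exact absurd rfl h3
  · exact Nat.prime_two.isPrimePow
  · exact Nat.prime_three.isPrimePow
  · exact ⟨2, 2, Nat.prime_two.prime, by norm_num, by norm_num⟩
  · exact Nat.prime_five.isPrimePow

theorem spec5 (hCT : CT.{u}) (hFT : OS.{u}) (h : Set.range (orderOf : G → ℕ) = {k : ℕ | 1 ≤ k ∧ k ≤ 5}) :
    Nonempty (G ≃* ↥(alternatingGroup (Fin 6))) ∨
      (Nonempty (G ⧸ pCore 2 G ≃* ↥(alternatingGroup (Fin 5))) ∧ Hig G (pCore 2 G)) := by
  have hord : ∀ g : G, orderOf g ≤ 5 := by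
    intro g
    have : orderOf g ∈ Set.range (orderOf : G → ℕ) := ⟨g, rfl⟩
    rw [h] at this
    exact this.2
  have hex : ∀ k, 1 ≤ k → k ≤ 5 → ∃ g : G, orderOf g = k := by
    intro k h1 h2
    have : k ∈ Set.range (orderOf : G → ℕ) := by rw [h]; exact ⟨h1, h2⟩
    exact this
  have hE : EPPO G := eppo_of_ord hord
  have h3 : 3 ≤ (Nat.card G).primeFactors.card := by
    have hsub : ({2, 3, 5} : Finset ℕ) ⊆ (Nat.card G).primeFactors := by
      intro r hr
      simp only [Finset.mem_insert, Finset.mem_singleton] at hr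
      rw [Nat.mem_primeFactors_of_ne_zero Nat.card_pos.ne']
      rcases hr with rfl | rfl | rfl
      · exact ⟨Nat.prime_two, (prime_dvd_iff Nat.prime_two).2 (hex 2 (by norm_num) (by norm_num))⟩
      · exact ⟨Nat.prime_three, (prime_dvd_iff Nat.prime_three).2 (hex 3 (by norm_num) (by norm_num))⟩
      · exact ⟨Nat.prime_five, (prime_dvd_iff Nat.prime_five).2 (hex 5 (by norm_num) (by norm_num))⟩
    have := Finset.card_le_card hsub
    simpa using this
  obtain ⟨L, hD, hL, hLE⟩ := hE.dat hCT hFT (hE.not_solvable h3)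
  haveI := hD.normal
  have hbad : ∀ r : ℕ, r.Prime → 5 < r → ¬ r ∣ Nat.card L := by
    intro r hr h5 hd
    obtain ⟨g, hg⟩ := (prime_dvd_iff hr).1 ((hD.prime_iff hFT hr).1 hd)
    have := hord g
    omega
  have hordX : ∀ x : G ⧸ pCore 2 G, orderOf x ≤ 5 := by
    intro x
    obtain ⟨g, rfl⟩ := QuotientGroup.mk_surjective x
    refine (Nat.le_of_dvd (orderOf_pos g) ?_).trans (hord g)
    apply orderOf_dvd_of_pow_eq_one
    rw [← QuotientGroup.mk_pow, pow_orderOf_eq_one]; rfl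
  rcases hL.card_cases with ⟨⟨e⟩, hc⟩ | ⟨K, i1, i2, hK, ⟨e⟩, hc⟩ | ⟨-, -, -, -, -, h1⟩ | ⟨-, -, -, -, -, h1⟩ |
    ⟨-, -, -, -, -, h1⟩ | ⟨-, -, -, -, -, h1⟩ | ⟨-, -, -, -, -, h1⟩ | ⟨-, -, -, -, -, h1⟩
  · left
    have ht := top_six hD.citX hordX L hD.quot (hD.list.one_class) e
    have h6 := hE.core_bot_six hord ((card_eq_of_top ht).trans hc)
    obtain ⟨f⟩ := equiv_of ht
    obtain ⟨g⟩ := equiv_of' h6
    exact ⟨(g.trans f).trans e⟩
  · right
    have ht := (hE.quot (pCore 2 G)).top_small L hD.quot (Or.inr hc)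
    obtain ⟨f⟩ := equiv_of ht
    obtain ⟨g⟩ := psl_simple_four hK
    have hiso : Nonempty (G ⧸ pCore 2 G ≃* ↥(alternatingGroup (Fin 5))) := ⟨(f.trans e).trans g⟩
    refine ⟨hiso, pCore_two, hiso, ?_⟩
    intro g hg1 hg3 q hq hc
    by_contra hq1
    obtain ⟨k, hk⟩ := pCore_two (G := G) ⟨q, hq⟩
    obtain ⟨j, hj⟩ := hE.comm Nat.prime_two hq1 ⟨k, congrArg Subtype.val hk⟩ hc.symm
    apply hg1
    rw [← QuotientGroup.eq_one_iff]
    have h1 : (QuotientGroup.mk g : G ⧸ pCore 2 G) ^ 2 ^ j = 1 := by rw [← QuotientGroup.mk_pow, hj]; rfl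
    have h2 : (QuotientGroup.mk g : G ⧸ pCore 2 G) ^ 3 = 1 := by
      rw [← QuotientGroup.mk_pow]; exact (QuotientGroup.eq_one_iff _).2 hg3
    have h3 := Nat.eq_one_of_dvd_coprimes (Nat.Coprime.pow_left j (by norm_num : Nat.Coprime 2 3))
      (orderOf_dvd_of_pow_eq_one h1) (orderOf_dvd_of_pow_eq_one h2)
    rwa [orderOf_eq_one_iff] at h3
  · exact absurd (by rw [h1]; norm_num) (hbad 7 (by norm_num) (by norm_num))
  · exact absurd (by rw [h1]; norm_num) (hbad 7 (by norm_num) (by norm_num))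
  · exact absurd (by rw [h1]; norm_num) (hbad 17 (by norm_num) (by norm_num))
  · exact absurd (by rw [h1]; norm_num) (hbad 7 (by norm_num) (by norm_num))
  · exact absurd (by rw [h1]; norm_num) (hbad 7 (by norm_num) (by norm_num))
  · exact absurd (by rw [h1]; norm_num) (hbad 31 (by norm_num) (by norm_num))

theorem spec5' (hCT : CT.{u}) (hFT : OS.{u}) (h : Set.range (orderOf : G → ℕ) = {k : ℕ | 1 ≤ k ∧ k ≤ 5}) :
    Nonempty (G ≃* ↥(alternatingGroup (Fin 6))) ∨
      ∃ (N : Subgroup G) (_ : N.Normal), Cfsg.IsElementaryAbelian 2 N ∧ Nonempty (G ⧸ N ≃* ↥(alternatingGroup (Fin 5))) := by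
  rcases spec5 hCT hFT h with h | ⟨h1, h2⟩
  · exact Or.inl h
  · right
    refine ⟨pCore 2 G, inferInstance, ⟨⟨⟨fun a b => Subtype.ext (h2.main.1 a a.2 b b.2)⟩⟩, fun a ha => ?_⟩, h1⟩
    rw [pow_two]; exact h2.main.2 a ha

end Cfsg.Agent.JY
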