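import Mathlib
import Cfsg.Agent.JY.CritB
import Cfsg.Agent.JY.Spec5

/-! Critical groups for the spectrum of `A₆`. -/

set_option autoImplicit false
set_option linter.unusedSectionVars false
set_option linter.style.haveILetI false

namespace Cfsg.Agent.JY

open Subgroup Cfsg

universe u

section

variable (F : Type) [Field F]

/-- the affine group -/
def aff : Subgroup (Matrix.SpecialLinearGroup (Fin 3) F) where
  carrier := {M | (M : Matrix (Fin 3) (Fin 3) F) 2 0 = 0 ∧ (M : Matrix (Fin 3) (Fin 3) F) 2 1 = 0 ∧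
    (M : Matrix (Fin 3) (Fin 3) F) 2 2 = 1}
  one_mem' := by simp
  mul_mem' := by
    rintro M N ⟨h1, h2, h3⟩ ⟨h4, h5, h6⟩
    simp [Matrix.mul_apply, Fin.sum_univ_three, h1, h2, h3, h4, h5, h6]
  inv_mem' := by
    rintro M ⟨h1, h2, h3⟩
    have h : ∀ j, ((M⁻¹ : Matrix.SpecialLinearGroup (Fin 3) F) : Matrix (Fin 3) (Fin 3) F) 2 j =
        (1 : Matrix (Fin 3) (Fin 3) F) 2 j := by
      intro j
      rw [← Matrix.SpecialLinearGroup.coe_one, ← mul_inv_cancel M, Matrix.SpecialLinearGroup.coe_mul, Matrix.mul_apply,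
        Fin.sum_univ_three, h1, h2, h3]
      ring
    refine ⟨?_, ?_, ?_⟩
    · rw [h]; simp
    · rw [h]; simp
    · rw [h]; simp

variable {F}

theorem mem_aff {M : Matrix.SpecialLinearGroup (Fin 3) F} : M ∈ aff F ↔ (M : Matrix (Fin 3) (Fin 3) F) 2 0 = 0 ∧
    (M : Matrix (Fin 3) (Fin 3) F) 2 1 = 0 ∧ (M : Matrix (Fin 3) (Fin 3) F) 2 2 = 1 := Iff.rfl

theorem closure_aff : Subgroup.closure {M : Matrix.SpecialLinearGroup (Fin 3) F |
    (M : Matrix (Fin 3) (Fin 3) F) 2 0 = 0 ∧ (M : Matrix (Fin 3) (Fin 3) F) 2 1 = 0 ∧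
      (M : Matrix (Fin 3) (Fin 3) F) 2 2 = 1} = aff F := Subgroup.closure_eq (aff F)

/-- the linear part -/
def blk (M : aff F) : Matrix.SpecialLinearGroup (Fin 2) F :=
  ⟨!![((M : Matrix.SpecialLinearGroup (Fin 3) F) : Matrix (Fin 3) (Fin 3) F) 0 0,
      ((M : Matrix.SpecialLinearGroup (Fin 3) F) : Matrix (Fin 3) (Fin 3) F) 0 1;
      ((M : Matrix.SpecialLinearGroup (Fin 3) F) : Matrix (Fin 3) (Fin 3) F) 1 0,
      ((M : Matrix.SpecialLinearGroup (Fin 3) F) : Matrix (Fin 3) (Fin 3) F) 1 1], by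
    obtain ⟨h1, h2, h3⟩ := mem_aff.1 M.2
    have h := M.1.det_coe
    rw [Matrix.det_fin_three, h1, h2, h3] at h
    rw [Matrix.det_fin_two_of]
    linear_combination h⟩

theorem coe_blk (M : aff F) : (blk M : Matrix (Fin 2) (Fin 2) F) =
    !![((M : Matrix.SpecialLinearGroup (Fin 3) F) : Matrix (Fin 3) (Fin 3) F) 0 0,
      ((M : Matrix.SpecialLinearGroup (Fin 3) F) : Matrix (Fin 3) (Fin 3) F) 0 1;
      ((M : Matrix.SpecialLinearGroup (Fin 3) F) : Matrix (Fin 3) (Fin 3) F) 1 0,
      ((M : Matrix.SpecialLinearGroup (Fin 3) F) : Matrix (Fin 3) (Fin 3) F) 1 1] := rfl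

/-- the translation part -/
def trn (M : aff F) : Fin 2 → F :=
  ![((M : Matrix.SpecialLinearGroup (Fin 3) F) : Matrix (Fin 3) (Fin 3) F) 0 2,
      ((M : Matrix.SpecialLinearGroup (Fin 3) F) : Matrix (Fin 3) (Fin 3) F) 1 2]

theorem blk_mul (M N : aff F) : blk (M * N) = blk M * blk N := by
  obtain ⟨h1, h2, h3⟩ := mem_aff.1 N.2
  apply RankOne.sl_ext <;>
    simp [coe_blk, Matrix.mul_apply, Fin.sum_univ_two, Fin.sum_univ_three, h1, h2]

theorem blk_one : blk (1 : aff F) = 1 := by
  apply RankOne.sl_ext <;> simp [coe_blk]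

theorem trn_mul (M N : aff F) : trn (M * N) = trn M + (blk M : Matrix (Fin 2) (Fin 2) F).mulVec (trn N) := by
  obtain ⟨h1, h2, h3⟩ := mem_aff.1 N.2
  funext i
  fin_cases i <;>
    simp [trn, coe_blk, Matrix.mul_apply, Matrix.mulVec, dotProduct, Fin.sum_univ_two, Fin.sum_univ_three, h3] <;> ring

theorem aff_ext {M N : aff F} (h1 : blk M = blk N) (h2 : trn M = trn N) : M = N := by
  obtain ⟨a1, a2, a3⟩ := mem_aff.1 M.2
  obtain ⟨b1, b2, b3⟩ := mem_aff.1 N.2
  have e : ∀ i j, (blk M : Matrix (Fin 2) (Fin 2) F) i j = (blk N : Matrix (Fin 2) (Fin 2) F) i j := by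
    intro i j; rw [h1]
  have e00 := e 0 0
  have e01 := e 0 1
  have e10 := e 1 0
  have e11 := e 1 1
  have t0 := congrFun h2 0
  have t1 := congrFun h2 1
  simp only [coe_blk, Matrix.of_apply, Matrix.cons_val', Matrix.cons_val_zero, Matrix.cons_val_one,
    Matrix.cons_val_fin_one] at e00 e01 e10 e11
  simp only [trn, Matrix.cons_val_zero, Matrix.cons_val_one, Matrix.cons_val_fin_one] at t0 t1
  apply Subtype.ext
  apply Matrix.SpecialLinearGroup.ext
  intro i j
  fin_cases i <;> fin_cases j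
  · exact e00
  · exact e01
  · exact t0
  · exact e10
  · exact e11
  · exact t1
  · exact a1.trans b1.symm
  · exact a2.trans b2.symm
  · exact a3.trans b3.symm

/-- affine matrices -/
def mk3 (A : Matrix.SpecialLinearGroup (Fin 2) F) (v : Fin 2 → F) : aff F :=
  ⟨⟨!![(A : Matrix (Fin 2) (Fin 2) F) 0 0, (A : Matrix (Fin 2) (Fin 2) F) 0 1, v 0;
      (A : Matrix (Fin 2) (Fin 2) F) 1 0, (A : Matrix (Fin 2) (Fin 2) F) 1 1, v 1; 0, 0, 1], by
    have h := A.det_coe
    rw [Matrix.det_fin_two] at h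
    rw [Matrix.det_fin_three]
    simp
    linear_combination h⟩, mem_aff.2 ⟨rfl, rfl, rfl⟩⟩

theorem blk_mk3 (A : Matrix.SpecialLinearGroup (Fin 2) F) (v : Fin 2 → F) : blk (mk3 A v) = A := by
  apply RankOne.sl_ext <;> simp [coe_blk, mk3]

theorem trn_mk3 (A : Matrix.SpecialLinearGroup (Fin 2) F) (v : Fin 2 → F) : trn (mk3 A v) = v := by
  funext i
  fin_cases i <;> simp [trn, mk3]

end

section

variable {G : Type u} [Group G] [Finite G] {Q : Subgroup G} [hQ : Q.Normal]

theorem Hig.exists_hom (H : Hig G Q) (hab : ∀ a ∈ Q, ∀ b ∈ Q, a * b = b * a) (hsq : ∀ a ∈ Q, a * a = 1)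
    (hne : Q ≠ ⊥) : ∃ (F : Type) (_ : Field F) (_ : Fintype F), Fintype.card F = 4 ∧
      ∃ Φ : aff F →* G, Function.Injective Φ := by
  obtain ⟨F, iF, iF2, hF, ψ, hψ⟩ := H.exists_sl2 hab
  obtain ⟨φ, φmem, φadd, φone, φeq⟩ := H.exists_mod hab hsq hne hF ψ hψ
  refine ⟨F, iF, iF2, hF, ?_⟩
  have φ0 : φ 0 = 1 := by
    have := φadd 0 0
    rw [add_zero] at this
    exact left_eq_mul.1 this
  let Φ : aff F →* G :=
    { toFun := fun M => φ (trn M) * ψ (blk M)
      map_one' := by
        have h1 : trn (1 : aff F) = 0 := by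
          have := trn_mul (1 : aff F) 1
          rw [one_mul, blk_one, Matrix.SpecialLinearGroup.coe_one, Matrix.one_mulVec] at this
          exact left_eq_add.1 this
        rw [h1, blk_one, φ0, map_one, one_mul]
      map_mul' := by
        intro M N
        rw [trn_mul, blk_mul, φadd, ← φeq, map_mul]
        simp only [ac]
        group }
  refine ⟨Φ, (injective_iff_map_eq_one Φ).2 fun M hM => ?_⟩
  have h1 : φ (trn M) * ψ (blk M) = 1 := hM
  have h2 : blk M = 1 := by
    apply hψ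
    rw [eq_inv_of_mul_eq_one_right h1]; exact Q.inv_mem (φmem _)
  have h3 : trn M = 0 := by
    apply φone
    rwa [h2, map_one, mul_one] at h1
  apply aff_ext
  · rw [h2, blk_one]
  · have h4 : trn (1 : aff F) = 0 := by
      have := trn_mul (1 : aff F) 1
      rw [one_mul, blk_one, Matrix.SpecialLinearGroup.coe_one, Matrix.one_mulVec] at this
      exact left_eq_add.1 this
    rw [h3, h4]

end

/-- the orders of elements of the affine group -/
theorem aff_orders {F : Type} [Field F] [Fintype F] (hF : Fintype.card F = 4) :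
    ∀ k, 1 ≤ k → k ≤ 5 → ∃ M : aff F, orderOf M = k := by
  classical
  haveI := charTwo hF
  have h2 : (2 : F) = 0 := by exact_mod_cast CharP.cast_eq_zero F 2
  have hneg : ∀ a : F, -a = a := fun a => by linear_combination -a * h2
  have haa : ∀ a : F, a + a = 0 := fun a => by linear_combination a * h2
  have hF' : Fintype.card F = 2 ^ 2 := by rw [hF]; norm_num
  haveI := (H68.CA.isCA_psl2 (by norm_num : 1 ≤ 2) hF').1
  obtain ⟨e2⟩ := H21.nonempty_mulEquiv_psl2 (F := F)
  obtain ⟨e1⟩ := psl_simple_four hF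
  have hcard : Nat.card (Matrix.SpecialLinearGroup (Fin 2) F) = 60 := by
    rw [Nat.card_congr (e2.trans e1).toEquiv, Nat.card_eq_fintype_card]
    decide +kernel
  let j : Matrix.SpecialLinearGroup (Fin 2) F →* aff F :=
    { toFun := fun A => mk3 A 0
      map_one' := by
        apply aff_ext
        · rw [blk_mk3, blk_one]
        · rw [trn_mk3]
          have := trn_mul (1 : aff F) 1
          rw [one_mul, blk_one, Matrix.SpecialLinearGroup.coe_one, Matrix.one_mulVec] at this
          exact (left_eq_add.1 this).symm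
      map_mul' := by
        intro A B
        apply aff_ext
        · rw [blk_mul, blk_mk3, blk_mk3, blk_mk3]
        · rw [trn_mul, trn_mk3, trn_mk3, trn_mk3, Matrix.mulVec_zero, add_zero] }
  have hj : Function.Injective j := by
    intro A B h
    have := congrArg blk h
    change blk (mk3 A 0) = blk (mk3 B 0) at this
    rwa [blk_mk3, blk_mk3] at this
  have hpr : ∀ p : ℕ, p.Prime → p ∣ 60 → ∃ M : aff F, orderOf M = p := by
    intro p hp hd
    haveI := Fact.mk hp
    rw [← hcard] at hd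
    obtain ⟨x, hx⟩ := exists_prime_orderOf_dvd_card' (G := Matrix.SpecialLinearGroup (Fin 2) F) p hd
    exact ⟨j x, by rw [orderOf_injective j hj, hx]⟩
  intro k hk1 hk5
  interval_cases k
  · exact ⟨1, orderOf_one⟩
  · exact hpr 2 Nat.prime_two (by norm_num)
  · exact hpr 3 Nat.prime_three (by norm_num)
  · -- order four
    let M : aff F := mk3 (RankOne.wm F) ![1, 0]
    have hMM : M * M = mk3 1 ![1, 1] := by
      apply aff_ext
      · rw [blk_mul, blk_mk3, blk_mk3]
        apply RankOne.sl_ext <;> simp [RankOne.coe_wm, Matrix.mul_apply, Fin.sum_univ_two, hneg]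
      · rw [trn_mul, trn_mk3, trn_mk3, blk_mk3]
        funext i
        fin_cases i <;> simp [RankOne.coe_wm, Matrix.mulVec, dotProduct, Fin.sum_univ_two, hneg]
    have hM4 : (mk3 1 ![1, 1] : aff F) * mk3 1 ![1, 1] = 1 := by
      apply aff_ext
      · rw [blk_mul, blk_mk3, blk_one, one_mul]
      · rw [trn_mul, trn_mk3, blk_mk3, Matrix.SpecialLinearGroup.coe_one, Matrix.one_mulVec]
        have := trn_mul (1 : aff F) 1
        rw [one_mul, blk_one, Matrix.SpecialLinearGroup.coe_one, Matrix.one_mulVec] at this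
        rw [left_eq_add.1 this]
        funext i
        fin_cases i <;> simp [haa]
    refine ⟨M, ?_⟩
    have h4 : M ^ 2 ^ (1 + 1) = 1 := by
      rw [pow_succ, pow_mul, pow_one, pow_two, pow_two, hMM, hM4]
    have h2' : ¬ M ^ 2 ^ 1 = 1 := by
      rw [pow_one, pow_two, hMM]
      intro h
      have h5 := congrFun (congrArg trn h) 0
      rw [trn_mk3] at h5
      have := trn_mul (1 : aff F) 1
      rw [one_mul, blk_one, Matrix.SpecialLinearGroup.coe_one, Matrix.one_mulVec] at this
      rw [left_eq_add.1 this] at h5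
      simp at h5
    haveI : Fact (Nat.Prime 2) := ⟨Nat.prime_two⟩
    have := orderOf_eq_prime_pow h2' h4
    rw [this]; norm_num
  · exact hpr 5 Nat.prime_five (by norm_num)

theorem critical {G : Type u} [Group G] [Finite G] (hCT : CT.{u}) (hFT : OS.{u})
    (h : Set.range (orderOf : G → ℕ) = {k : ℕ | 1 ≤ k ∧ k ≤ 5})
    (hcr : ∀ H : Subgroup G, H ≠ ⊤ → Set.range (orderOf : H → ℕ) ≠ {k : ℕ | 1 ≤ k ∧ k ≤ 5}) :
    Nonempty (G ≃* alternatingGroup (Fin 6)) ∨
      ∃ (F : Type) (_ : Field F) (_ : Fintype F), Fintype.card F = 4 ∧ Nonempty (G ≃* aff F) := by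
  rcases spec5 hCT hFT h with h1 | ⟨⟨e⟩, h2⟩
  · exact Or.inl h1
  · right
    have hne : pCore 2 G ≠ ⊥ := by
      intro hb
      have h4 : (4 : ℕ) ∈ Set.range (orderOf : G → ℕ) := by rw [h]; exact ⟨by norm_num, by norm_num⟩
      obtain ⟨g, hg⟩ := h4
      have h5 : orderOf (e (QuotientGroup.mk g)) = 4 := by
        rw [MulEquiv.orderOf_eq, ← hg]
        apply orderOf_injective (QuotientGroup.mk' (pCore 2 G))
        intro a b hab
        have := QuotientGroup.eq.1 hab
        rw [hb, Subgroup.mem_bot] at this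
        exact inv_mul_eq_one.1 this
      have h6 : ∀ x : alternatingGroup (Fin 5), x * x * x * x = 1 → x * x = 1 := by decide +kernel
      have h7 := h6 (e (QuotientGroup.mk g)) (by
        have := pow_orderOf_eq_one (e (QuotientGroup.mk g))
        rw [h5] at this
        rw [← this]; simp only [pow_succ, pow_zero, one_mul])
      have h8 : orderOf (e (QuotientGroup.mk g)) ∣ 2 := orderOf_dvd_of_pow_eq_one (by rw [pow_two]; exact h7)
      rw [h5] at h8
      norm_num at h8
    obtain ⟨F, iF, iF2, hF, Φ, hΦ⟩ := h2.exists_hom h2.main.1 h2.main.2 hne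
    refine ⟨F, iF, iF2, hF, ?_⟩
    have htop : Φ.range = ⊤ := by
      by_contra hcon
      apply hcr Φ.range hcon
      ext k
      constructor
      · rintro ⟨x, rfl⟩
        have : orderOf (x : G) ∈ Set.range (orderOf : G → ℕ) := ⟨x, rfl⟩
        rw [h] at this
        rwa [Subgroup.orderOf_coe] at this
      · rintro ⟨hk1, hk5⟩
        obtain ⟨M, hM⟩ := aff_orders hF k hk1 hk5
        refine ⟨⟨Φ M, MonoidHom.mem_range.2 ⟨M, rfl⟩⟩, ?_⟩
        rw [← hM, ← orderOf_injective Φ hΦ M]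
        exact (Subgroup.orderOf_coe _).symm
    exact ⟨(MulEquiv.ofBijective Φ ⟨hΦ, MonoidHom.range_eq_top.1 htop⟩).symm⟩

end Cfsg.Agent.JY
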