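import Mathlib
import Cfsg.Agent.JY.Graph

/-! Groups with the prime graph of a Suzuki group. -/

set_option autoImplicit false
set_option linter.unusedSectionVars false
set_option linter.style.haveILetI false

namespace Cfsg.Agent.JY

open Subgroup Cfsg Cfsg.Agent.Suz

universe u

theorem sz_cit' {F : Type*} [Field F] [Fintype F] {m : ℕ} (hm : 1 ≤ m)
    (hF : Fintype.card F = 2 ^ (2 * m + 1)) : CIT (Cfsg.Sz F m) := by
  haveI := charP_two hF
  exact sz_cit hm hF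

theorem CIT.of_equiv {G H : Type*} [Group G] [Group H] (h : CIT G) (e : G ≃* H) : CIT H := by
  intro t ht x
  have h1 : orderOf (e.symm t) = 2 := by rw [MulEquiv.orderOf_eq, ht]
  have h2 : e.symm x ∈ centralizer ({e.symm t} : Set G) := by
    rw [mem_centr, ← map_mul, ← map_mul, mem_centr.1 x.2]
  obtain ⟨k, hk⟩ := h _ h1 ⟨_, h2⟩
  refine ⟨k, ?_⟩
  apply Subtype.ext
  have h3 : (e.symm x) ^ 2 ^ k = 1 := congrArg Subtype.val hk
  apply e.symm.injective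
  change e.symm ((x : H) ^ 2 ^ k) = e.symm 1
  rw [map_pow, h3, map_one]

theorem lie_card {F : Type*} [Field F] [Fintype F] {m : ℕ} (hm : 1 ≤ m)
    (hF : Fintype.card F = 2 ^ (2 * m + 1)) : Nat.card (Cfsg.Lie.Sz F (2 ^ (m + 1))) =
    (2 ^ (2 * m + 1)) ^ 2 * ((2 ^ (2 * m + 1)) ^ 2 + 1) * (2 ^ (2 * m + 1) - 1) := by
  obtain ⟨e⟩ := nonempty_lieEquiv hm hF
  rw [← Nat.card_congr e.toEquiv, sz_card hm hF]

theorem two_pow_odd_mod_three (m : ℕ) : 2 ^ (2 * m + 1) % 3 = 2 := by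
  induction m with
  | zero => rfl
  | succ m ih =>
    have : 2 ^ (2 * (m + 1) + 1) = 4 * 2 ^ (2 * m + 1) := by
      rw [show 2 * (m + 1) + 1 = 2 * m + 1 + 2 by ring, pow_add]; ring
    rw [this]; omega

theorem not_three_dvd_sz (m : ℕ) :
    ¬ 3 ∣ (2 ^ (2 * m + 1)) ^ 2 * ((2 ^ (2 * m + 1)) ^ 2 + 1) * (2 ^ (2 * m + 1) - 1) := by
  intro h
  have h1 := two_pow_odd_mod_three m
  generalize 2 ^ (2 * m + 1) = q at *
  have h2 : q ^ 2 % 3 = 1 := by rw [Nat.pow_mod, h1]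
  rcases (Nat.Prime.dvd_mul Nat.prime_three).1 h with h | h
  · rcases (Nat.Prime.dvd_mul Nat.prime_three).1 h with h | h <;> omega
  · omega

theorem three_dvd_psl2 {F : Type*} [Field F] [Fintype F] :
    3 ∣ Nat.card (Matrix.ProjectiveSpecialLinearGroup (Fin 2) F) := by
  have h1 : 3 ∣ Fintype.card F * ((Fintype.card F - 1) * (Fintype.card F + 1)) := by
    have h0 : 1 ≤ Fintype.card F := Fintype.card_pos
    generalize Fintype.card F = q at *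
    have : q % 3 = 0 ∨ q % 3 = 1 ∨ q % 3 = 2 := by omega
    rcases this with h | h | h
    · exact Dvd.dvd.mul_right (Nat.dvd_of_mod_eq_zero h) _
    · exact Dvd.dvd.mul_left (Dvd.dvd.mul_right (by omega) _) _
    · exact Dvd.dvd.mul_left (Dvd.dvd.mul_left (by omega) _) _
  rcases Nat.even_or_odd (Fintype.card F) with he | ho
  · rw [H14.SubField.card_PSL2_even he]; exact h1
  · rw [← H14.SubField.card_PSL2_odd ho] at h1
    rcases (Nat.Prime.dvd_mul Nat.prime_three).1 h1 with h | h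
    · norm_num at h
    · exact h

/-- the primes of a Suzuki group determine the field -/
theorem sz_dvd {m k : ℕ} (hm : 1 ≤ m)
    (h : ∀ r : ℕ, r.Prime → r ≠ 2 →
      r ∣ (2 ^ (2 * m + 1)) ^ 2 * ((2 ^ (2 * m + 1)) ^ 2 + 1) * (2 ^ (2 * m + 1) - 1) →
      r ∣ (2 ^ (2 * k + 1)) ^ 2 * ((2 ^ (2 * k + 1)) ^ 2 + 1) * (2 ^ (2 * k + 1) - 1)) :
    2 * m + 1 ∣ 2 * k + 1 := by
  obtain ⟨r, hr, hr2, -, hk⟩ := zs (n := 4 * (2 * m + 1)) (by omega) (by omega)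
  have e4 : ∀ j : ℕ, 2 ^ (4 * (2 * j + 1)) - 1 =
      ((2 ^ (2 * j + 1)) ^ 2 + 1) * ((2 ^ (2 * j + 1) + 1) * (2 ^ (2 * j + 1) - 1)) := by
    intro j
    have h1 : 2 ^ (4 * (2 * j + 1)) = ((2 ^ (2 * j + 1)) ^ 2) ^ 2 := by
      rw [← pow_mul, ← pow_mul]
      congr 1
      ring
    have h2 := Nat.sq_sub_sq ((2 ^ (2 * j + 1)) ^ 2) 1
    have h3 := Nat.sq_sub_sq (2 ^ (2 * j + 1)) 1
    rw [one_pow] at h2 h3
    rw [h1, h2, h3]
  have e2 : ∀ j : ℕ, 2 ^ (2 * (2 * j + 1)) - 1 = (2 ^ (2 * j + 1) + 1) * (2 ^ (2 * j + 1) - 1) := by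
    intro j
    have h1 : 2 ^ (2 * (2 * j + 1)) = (2 ^ (2 * j + 1)) ^ 2 := by
      rw [← pow_mul]
      congr 1
      ring
    have h3 := Nat.sq_sub_sq (2 ^ (2 * j + 1)) 1
    rw [one_pow] at h3
    rw [h1, h3]
  have h1 : r ∣ 2 ^ (4 * (2 * m + 1)) - 1 := (hk _).2 dvd_rfl
  have h2 : ¬ r ∣ 2 ^ (2 * (2 * m + 1)) - 1 := by
    rw [hk]
    intro h
    have := Nat.le_of_dvd (by omega) h
    omega
  rw [e4] at h1
  rw [e2] at h2
  have h3 : r ∣ (2 ^ (2 * m + 1)) ^ 2 + 1 := ((Nat.Prime.dvd_mul hr).1 h1).resolve_right h2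
  have h4 := h r hr hr2 (Dvd.dvd.mul_right (Dvd.dvd.mul_left h3 _) _)
  have h5 : r ∣ 2 ^ (4 * (2 * k + 1)) - 1 := by
    rw [e4]
    rcases (Nat.Prime.dvd_mul hr).1 h4 with h | h
    · rcases (Nat.Prime.dvd_mul hr).1 h with h | h
      · exact absurd ((Nat.prime_dvd_prime_iff_eq hr Nat.prime_two).1 (hr.dvd_of_dvd_pow (hr.dvd_of_dvd_pow h))) hr2
      · exact Dvd.dvd.mul_right h _
    · exact Dvd.dvd.mul_left (Dvd.dvd.mul_left h _) _
  rw [hk] at h5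
  exact Nat.dvd_of_mul_dvd_mul_left (by norm_num) h5

/-- a nonedge of the prime graph -/
theorem sz_nonedge {F : Type*} [Field F] [Fintype F] {m : ℕ} (hm : 1 ≤ m)
    (hF : Fintype.card F = 2 ^ (2 * m + 1)) : ∃ r s : ℕ, r.Prime ∧ s.Prime ∧ r ≠ 2 ∧ s ≠ 2 ∧ r ≠ s ∧
      r ∣ Nat.card (Cfsg.Sz F m) ∧ s ∣ Nat.card (Cfsg.Sz F m) ∧ ¬ ∃ x : Cfsg.Sz F m, orderOf x = r * s := by
  have hq : 8 ≤ 2 ^ (2 * m + 1) := by
    calc 8 = 2 ^ 3 := by norm_num
      _ ≤ 2 ^ (2 * m + 1) := Nat.pow_le_pow_right (by norm_num) (by omega)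
  have hq2 : 2 ∣ 2 ^ (2 * m + 1) := dvd_pow_self 2 (by omega)
  have hcard := sz_card hm hF
  set q := 2 ^ (2 * m + 1) with hqdef
  have hsq : 2 ∣ q ^ 2 := dvd_pow hq2 (by norm_num)
  have hr := Nat.minFac_prime (n := q - 1) (by omega)
  have hq0 : 0 < q ^ 2 := by positivity
  have hs := Nat.minFac_prime (n := q ^ 2 + 1) (by omega)
  have hrd := Nat.minFac_dvd (q - 1)
  have hsd := Nat.minFac_dvd (q ^ 2 + 1)
  set r := (q - 1).minFac with hrdef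
  set s := (q ^ 2 + 1).minFac with hsdef
  have hr2 : r ≠ 2 := by intro h; rw [h] at hrd; omega
  have hs2 : s ≠ 2 := by intro h; rw [h] at hsd; omega
  have hcop : ¬ s ∣ q - 1 := by
    intro h
    have h1 : s ∣ q ^ 2 - 1 := by
      have h3 := Nat.sq_sub_sq q 1
      rw [one_pow] at h3
      rw [h3]
      exact Dvd.dvd.mul_left h _
    have h2 := Nat.dvd_sub hsd h1
    have h3 : 1 ≤ q ^ 2 := Nat.one_le_pow _ _ (by omega)
    have h4 : q ^ 2 + 1 - (q ^ 2 - 1) = 2 := by omega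
    rw [h4] at h2
    exact hs2 ((Nat.prime_dvd_prime_iff_eq hs Nat.prime_two).1 h2)
  refine ⟨r, s, hr, hs, hr2, hs2, ?_, ?_, ?_, ?_⟩
  · intro e; rw [← e] at hcop; exact hcop hrd
  · rw [hcard]; exact Dvd.dvd.mul_left hrd _
  · rw [hcard]; exact Dvd.dvd.mul_right (Dvd.dvd.mul_left hsd _) _
  · rintro ⟨x, hx⟩
    have h1 : orderOf (x ^ s) = r := by
      rw [orderOf_pow_of_dvd hs.pos.ne' (by rw [hx]; exact dvd_mul_left _ _), hx, Nat.mul_div_cancel _ hs.pos]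
    have h2 := card_centr_of_dvd hm hF hr hrd h1
    have h3 : x ∈ centralizer ({x ^ s} : Set (Cfsg.Sz F m)) := mem_centr.2 (Commute.pow_self x s)
    have h4 := orderOf_dvd_natCard (⟨x, h3⟩ : centralizer ({x ^ s} : Set (Cfsg.Sz F m)))
    rw [Subgroup.orderOf_mk, h2, hx] at h4
    exact hcop ((dvd_mul_left s r).trans h4)

theorem SameGraph.symm_equiv {S S' G : Type*} [Group S] [Group S'] [Group G] (h : SameGraph S G) (e : S ≃* S') :
    SameGraph S' G := by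
  constructor
  · intro r hr
    rw [← Nat.card_congr e.toEquiv]
    exact h.1 r hr
  · intro r s hr hs hrs
    rw [← h.2 r s hr hs hrs]
    constructor
    · rintro ⟨x, hx⟩; exact ⟨e.symm x, by rw [MulEquiv.orderOf_eq, hx]⟩
    · rintro ⟨x, hx⟩; exact ⟨e x, by rw [MulEquiv.orderOf_eq, hx]⟩

theorem sz_graph (hCT : CT.{u}) (hFT : OS.{u}) {F : Type*} [Field F] [Fintype F] (m : ℕ) (hm : 1 ≤ m)
    (hF : Fintype.card F = 2 ^ (2 * m + 1)) {G : Type u} [Group G] [Finite G]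
    (h : SameGraph (Cfsg.Lie.Sz F (2 ^ (m + 1))) G) :
    Nonempty (G ⧸ Cfsg.pCore 2 G ≃* ↥(Cfsg.Lie.Sz F (2 ^ (m + 1)))) := by
  obtain ⟨e0⟩ := nonempty_lieEquiv hm hF
  have h' : SameGraph (Cfsg.Sz F m) G := h.symm_equiv e0.symm
  have hcard := sz_card hm hF
  have hN : NoTwo (Cfsg.Sz F m) := (sz_cit' hm hF).noTwo
  have hG := h'.cit hN
  obtain ⟨r, s, hr, hs, hr2, hs2, hrs, hrS, hsS, hno⟩ := sz_nonedge hm hF
  have hns := h'.not_solvable hN (by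
    rw [hcard, mul_assoc]
    exact Dvd.dvd.mul_right (dvd_pow (dvd_pow_self 2 (by omega)) (by norm_num)) _) hr hs hr2 hs2 hrs hrS hsS hno
  obtain ⟨L, hD⟩ := hG.main hCT hFT hns
  haveI := hD.normal
  have hpr : ∀ r : ℕ, r.Prime → (r ∣ Nat.card (Cfsg.Sz F m) ↔ r ∣ Nat.card L) := fun r hr =>
    (h'.1 r hr).trans (hD.prime_iff hFT hr).symm
  have h3 : ¬ 3 ∣ Nat.card L := by
    rw [← hpr 3 Nat.prime_three, hcard]
    exact not_three_dvd_sz m
  rcases hD.list with ⟨K, i1, i2, -, ⟨e⟩⟩ | ⟨K, i1, i2, hK, ⟨e⟩⟩ | ⟨K, i1, i2, k, hk, hK, ⟨e⟩⟩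
  · exact absurd (by rw [Nat.card_congr e.toEquiv]; exact three_dvd_psl2) h3
  · exact absurd (by rw [Nat.card_congr e.toEquiv, card_psl3_four hK]; norm_num) h3
  · have hcL : Nat.card L = (2 ^ (2 * k + 1)) ^ 2 * ((2 ^ (2 * k + 1)) ^ 2 + 1) * (2 ^ (2 * k + 1) - 1) := by
      rw [Nat.card_congr e.toEquiv, lie_card hk hK]
    have h4 : 2 * m + 1 ∣ 2 * k + 1 := sz_dvd hm (fun r hr _ h => by
      rw [← hcL, ← hpr r hr, hcard]; exact h)
    have h5 : 2 * k + 1 ∣ 2 * m + 1 := sz_dvd hk (fun r hr _ h => by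
      rw [← hcard, hpr r hr, hcL]; exact h)
    have h6 := Nat.dvd_antisymm h4 h5
    have h7 : k = m := by omega
    subst h7
    have ht := eq_top_of_out_odd L hD.centr hD.quot (out_odd hk hK e)
    obtain ⟨f⟩ := equiv_of ht
    obtain ⟨g⟩ := lie_congr hk hK hF
    exact ⟨(f.trans e).trans g⟩

end Cfsg.Agent.JY
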