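import Cfsg.Agent.JY.CNA
import Cfsg.Agent.JY.EvenGraph
import Cfsg.Agent.JY.EppoMain
import Cfsg.Agent.JY.SzGraph
import Cfsg.Agent.S3050
import Cfsg.Prelude.Def_Exceptional

/-!
# S4351: assembly (helper60)
-/

set_option autoImplicit false
set_option linter.style.haveILetI false
set_option linter.unusedSectionVars false

namespace Cfsg.Agent.JY.S4351B

open Subgroup Cfsg Cfsg.Agent.JY

universe u

/-- `top3` (helper15) -/
def Top3 : Prop := ∀ {X : Type u} [Group X] [Finite X], CIT X → ∀ (L : Subgroup X) [L.Normal],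
  IsPGroup 2 (X ⧸ L) → ∀ {F : Type} [Field F] [Fintype F],
    (Fintype.card F = 4 ∨ ((Fintype.card F).Prime ∧ 5 ≤ Fintype.card F)) →
    Nonempty (L ≃* Matrix.ProjectiveSpecialLinearGroup (Fin 2) F) → L = ⊤

/-- `top9` (helper15) -/
def Top9 : Prop := ∀ {X : Type u} [Group X] [Finite X], CIT X → ∀ (L : Subgroup X) [L.Normal],
  IsPGroup 2 (X ⧸ L) →
  ((∃ (F : Type) (_ : Field F) (_ : Fintype F), Fintype.card F = 9 ∧
      Nonempty (L ≃* Matrix.ProjectiveSpecialLinearGroup (Fin 2) F)) → L = ⊤ ∨ L.index = 2) ∧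
  ((∃ (F : Type) (_ : Field F) (_ : Fintype F), Fintype.card F = 4 ∧
      Nonempty (L ≃* Matrix.ProjectiveSpecialLinearGroup (Fin 3) F)) → L = ⊤)

/-- `p11b` (helper54) -/
def P11b : Prop := ∀ {G : Type u} [Group G] [Finite G], CIT G → ∀ {L : Subgroup (G ⧸ pCore 2 G)},
  Dat G L → pCore 2 G ≠ ⊥ →
  (∃ (F : Type) (_ : Field F) (_ : Fintype F) (n : ℕ), 2 ≤ n ∧ Fintype.card F = 2 ^ n ∧
    Nonempty (L ≃* Matrix.ProjectiveSpecialLinearGroup (Fin 2) F)) ∨ Cfsg.Lie.IsoSuzuki L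

/-- Martineau (helper71) -/
def MartH : Prop := ∀ {G : Type u} [Group G] [Finite G] (Q : Subgroup G) [Q.Normal],
  IsPGroup 2 Q → Cfsg.Lie.IsoSuzuki (G ⧸ Q) →
  (∀ g : G, Odd (orderOf g) → g ≠ 1 → ∀ x ∈ Q, g * x = x * g → x = 1) →
  (∀ x ∈ Q, ∀ y ∈ Q, x * y = y * x) ∧ ∀ x ∈ Q, x * x = 1

variable {G : Type u} [Group G] [Finite G]

theorem top_two (h3 : Top3.{u}) {X : Type u} [Group X] [Finite X] (hX : CIT X) (L : Subgroup X)
    [L.Normal] (hq : IsPGroup 2 (X ⧸ L)) {F : Type} [Field F] [Fintype F] {n : ℕ} (hn : 2 ≤ n)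
    (hF : Fintype.card F = 2 ^ n) (e : L ≃* Matrix.ProjectiveSpecialLinearGroup (Fin 2) F) : L = ⊤ := by
  rcases Nat.lt_or_ge 2 n with h | h
  · exact hX.top_even L hq h hF e
  · have h2 : n = 2 := by omega
    subst h2
    exact h3 hX L hq (F := F) (Or.inl (by rw [hF]; norm_num)) ⟨e⟩

theorem top_all (h3 : Top3.{u}) (h9 : Top9.{u}) {X : Type u} [Group X] [Finite X] (hX : CIT X)
    (L : Subgroup X) [L.Normal] (hq : IsPGroup 2 (X ⧸ L)) (hc : centralizer (L : Set X) = ⊥)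
    (hns : ¬ Group.IsSolvable L) (hl : CitList L) :
    L = ⊤ ∨ (L.index = 2 ∧ ∃ (F : Type) (_ : Field F) (_ : Fintype F), Fintype.card F = 9 ∧
      Nonempty (L ≃* Matrix.ProjectiveSpecialLinearGroup (Fin 2) F)) := by
  rcases hl with ⟨F, i1, i2, hF, ⟨e⟩⟩ | ⟨F, i1, i2, hF, ⟨e⟩⟩ | ⟨F, i1, i2, m, hm, hF, ⟨e⟩⟩
  · have h4 := four_le hns e
    rcases hF with hF | ⟨n, hF⟩ | ⟨hF, -⟩
    · rcases (h9 hX L hq).1 ⟨F, i1, i2, hF, ⟨e⟩⟩ with h | h
      · exact Or.inl h
      · exact Or.inr ⟨h, F, i1, i2, hF, ⟨e⟩⟩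
    · left
      refine top_two h3 hX L hq (n := n) ?_ hF e
      by_contra hn
      have : n = 0 ∨ n = 1 := by omega
      rcases this with rfl | rfl <;> rw [hF] at h4 <;> norm_num at h4
    · left
      refine h3 hX L hq (F := F) (Or.inr ⟨hF, ?_⟩) ⟨e⟩
      by_contra h5
      have h6 : Fintype.card F = 4 := by omega
      rw [h6] at hF
      exact absurd hF (by decide)
  · left
    exact (h9 hX L hq).2 ⟨F, i1, i2, hF, ⟨e⟩⟩
  · left
    exact eq_top_of_out_odd L hc hq (out_odd hm hF e)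

theorem Dat.not_solvable {L : Subgroup (G ⧸ pCore 2 G)} (D : Dat G L) : ¬ Group.IsSolvable L := by
  intro h
  haveI := D.simple
  obtain ⟨a, b, hab⟩ := D.comm
  exact hab ((IsSimpleGroup.comm_iff_isSolvable.2 h) a b)

theorem isSuzuki_of {X : Type*} [Group X] (hs : IsSimpleGroup X) (h : Cfsg.Lie.IsoSuzuki X) :
    Cfsg.IsSuzuki X := by
  obtain ⟨F, _, _, m, hm, hF, ⟨e⟩⟩ := h
  exact ⟨hs, m, hm, by rw [Nat.card_congr e.toEquiv, lie_card hm hF]⟩

theorem simple_of_equiv {A B : Type*} [Group A] [Group B] (e : A ≃* B) [IsSimpleGroup B] :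
    IsSimpleGroup A := by
  haveI : Nontrivial A := e.toEquiv.nontrivial
  exact IsSimpleGroup.isSimpleGroup_of_surjective e.symm.toMonoidHom e.symm.surjective

/-- the classification of nonsolvable CN-groups -/
theorem final (h3 : Top3.{u}) (h9 : Top9.{u}) (hb : P11b.{u}) (hM : MartH.{u})
    (hG : ¬ Group.IsSolvable G)
    (hCN : ∀ x : G, x ≠ 1 → Group.IsNilpotent (Subgroup.centralizer ({x} : Set G))) :
    (IsSimpleGroup G ∧ ¬ IsMulCommutative G) ∨
    (∃ (N : Subgroup G), N.Normal ∧ N.index = 2 ∧ ∃ (F : Type) (_ : Field F) (_ : Fintype F), Fintype.card F = 9 ∧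
        Nonempty (N ≃* Matrix.ProjectiveSpecialLinearGroup (Fin 2) F)) ∨
    (∃ (N : Subgroup G) (_ : N.Normal), N ≠ ⊥ ∧ IsPGroup 2 N ∧ IsMulCommutative N ∧ (∀ x ∈ N, x * x = 1) ∧
        ((∃ (F : Type) (_ : Field F) (_ : Fintype F), CharP F 2 ∧ 4 ≤ Fintype.card F ∧
            Nonempty (G ⧸ N ≃* Matrix.ProjectiveSpecialLinearGroup (Fin 2) F)) ∨ Cfsg.IsSuzuki (G ⧸ N))) := by
  classical
  haveI : Fact (Nat.Prime 2) := ⟨Nat.prime_two⟩
  have hcit : CIT G := CNA.CN.cit hCN os hG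
  obtain ⟨L, D⟩ := CIT.main ct os hcit hG
  haveI := D.normal
  have hLs := Dat.not_solvable D
  by_cases hQ : pCore 2 G = ⊥
  · obtain ⟨e⟩ := equiv_of' hQ
    rcases top_all h3 h9 D.citX L D.quot D.centr hLs D.list with ht | ⟨hi, F, i1, i2, hF, ⟨f⟩⟩
    · left
      obtain ⟨f⟩ := equiv_of ht
      haveI := D.simple
      refine ⟨simple_of_equiv (e.trans f), ?_⟩
      intro hc
      apply hG
      exact Group.isSolvable_of_comm (fun a b => hc.is_comm.comm a b)
    · right; left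
      refine ⟨L.comap e.toMonoidHom, inferInstance, ?_, F, i1, i2, hF, ⟨?_⟩⟩
      · rw [Subgroup.index_comap_of_surjective _ e.surjective, hi]
      · exact (e.subgroupMap (L.comap e.toMonoidHom)).trans
          ((MulEquiv.subgroupCongr (Subgroup.map_comap_eq_self_of_surjective e.surjective L)).trans f)
  · right; right
    have hodd : ∀ g : G, Odd (orderOf g) → g ≠ 1 → ∀ x ∈ pCore 2 G, g * x = x * g → x = 1 := by
      intro g hg hg1 x hx hc
      by_contra hx1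
      obtain ⟨k, hk⟩ := (pCore_two (G := G)) ⟨x, hx⟩
      have hk' : x ^ 2 ^ k = 1 := congrArg Subtype.val hk
      exact hg1 (hcit.odd_comm hx1 hk' (by
        rw [← even_iff_two_dvd, Nat.not_even_iff_odd]; exact hg) hc.symm)
    rcases hb hcit D hQ with ⟨F, i1, i2, n, hn, hF, ⟨f⟩⟩ | hS
    · have ht := top_two h3 D.citX L D.quot hn hF f
      obtain ⟨g⟩ := equiv_of ht
      haveI : CharP F 2 := by
        have h1 := FiniteField.card F (ringChar F)
        obtain ⟨m, hp, hm⟩ := h1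
        have h2 : ringChar F = 2 := by
          rw [hF] at hm
          have h3 : ringChar F ∣ 2 ^ n := by rw [hm]; exact dvd_pow_self _ m.ne_zero
          exact (Nat.prime_dvd_prime_iff_eq hp Nat.prime_two).1 (hp.dvd_of_dvd_pow h3)
        rw [← h2]; exact ringChar.charP F
      obtain ⟨s⟩ := H21.nonempty_mulEquiv_psl2 (F := F)
      obtain ⟨x, hx⟩ : ∃ x : G, orderOf x = 3 := by
        haveI : Fact (Nat.Prime 3) := ⟨Nat.prime_three⟩
        apply exists_prime_orderOf_dvd_card'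
        have h1 : 3 ∣ Nat.card (G ⧸ pCore 2 G) := by
          rw [Nat.card_congr (g.trans f).toEquiv]; exact three_dvd_psl2
        exact h1.trans (Subgroup.card_quotient_dvd_card _)
      have hx1 : x ≠ 1 := by rintro rfl; rw [orderOf_one] at hx; omega
      have h1 := (S3050.result (pCore 2 G) pCore_two n hn F hF ((g.trans f).trans s.symm) x hx (by
        intro q hq hxq
        exact hodd x (by rw [hx]; decide) hx1 q hq (mul_inv_eq_iff_eq_mul.1 hxq))).1
      refine ⟨pCore 2 G, inferInstance, hQ, pCore_two, h1.1, ?_, Or.inl ⟨F, i1, i2, inferInstance, ?_, ⟨g.trans f⟩⟩⟩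
      · intro x hx
        rw [← pow_two]; exact h1.2 x hx
      · rw [hF]
        calc 4 = 2 ^ 2 := by norm_num
          _ ≤ 2 ^ n := Nat.pow_le_pow_right (by norm_num) hn
    · obtain ⟨F, i1, i2, m, hm, hF, ⟨f⟩⟩ := hS
      have ht := eq_top_of_out_odd L D.centr D.quot (out_odd hm hF f)
      obtain ⟨g⟩ := equiv_of ht
      have hSz : Cfsg.Lie.IsoSuzuki (G ⧸ pCore 2 G) := ⟨F, i1, i2, m, hm, hF, ⟨g.trans f⟩⟩
      obtain ⟨h1, h2⟩ := hM (pCore 2 G) pCore_two hSz hodd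
      haveI := D.simple
      refine ⟨pCore 2 G, inferInstance, hQ, pCore_two, ⟨⟨fun a b => Subtype.ext (h1 a a.2 b b.2)⟩⟩, h2,
        Or.inr (isSuzuki_of (simple_of_equiv g) hSz)⟩

end Cfsg.Agent.JY.S4351B
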