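import Mathlib
import Cfsg.Agent.JY.TTB
import Cfsg.Agent.JY.EppoGrp
import Cfsg.Agent.S0742

/-! At least two fixed points: the conclusion. -/

set_option autoImplicit false
set_option linter.unusedSectionVars false
set_option linter.style.haveILetI false

namespace Cfsg.Agent.JY.TT

open MulAction Subgroup Cfsg

universe u v

/-- there is a regular normal subgroup -/
def RegN (G : Type u) (Ω : Type v) [Group G] [MulAction G Ω] : Prop :=
  ∃ R : Subgroup G, R.Normal ∧ (∀ x y : Ω, ∃ r ∈ R, r • x = y) ∧ ∀ x : Ω, ∀ r ∈ R, r • x = x → r = 1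

section

variable {G : Type u} {Ω : Type v} [Group G] [MulAction G Ω] [Finite G] [Finite Ω]

/-- the order of a two-transitive group -/
theorem card_G (htr : ∀ {a b c d : Ω}, a ≠ b → c ≠ d → ∃ g : G, g • a = c ∧ g • b = d) {a b : Ω} (hab : a ≠ b) :
    Nat.card G = Nat.card Ω * (Nat.card Ω - 1) * Nat.card (DD G a b) := by
  classical
  letI : Fintype Ω := Fintype.ofFinite Ω
  have h1 : Nat.card {p : Ω × Ω // p.1 ≠ p.2} = Nat.card Ω * (Nat.card Ω - 1) := by
    rw [Nat.card_eq_fintype_card, Nat.card_eq_fintype_card, Fintype.card_subtype, Nat.mul_sub, mul_one,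
      ← Finset.card_univ, ← Finset.offDiag_card]
    congr 1
    ext p
    simp
  rw [← h1, ← Nat.card_prod]
  symm
  have hc : ∀ p : {p : Ω × Ω // p.1 ≠ p.2}, ∃ s : G, s • a = p.1.1 ∧ s • b = p.1.2 := fun p => htr hab p.2
  choose s hs1 hs2 using hc
  refine Nat.card_congr (Equiv.ofBijective (fun q : {p : Ω × Ω // p.1 ≠ p.2} × DD G a b => s q.1 * (q.2 : G)) ⟨?_, ?_⟩)
  · rintro ⟨p, d, hd⟩ ⟨p', d', hd'⟩ e
    have e1 : s p * d = s p' * d' := e
    have e2 : p = p' := by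
      apply Subtype.ext
      apply Prod.ext
      · rw [← hs1, ← hs1, ← (mem_DD.1 hd).1, ← mul_smul, e1, mul_smul, (mem_DD.1 hd').1, (mem_DD.1 hd).1]
      · rw [← hs2, ← hs2, ← (mem_DD.1 hd).2, ← mul_smul, e1, mul_smul, (mem_DD.1 hd').2, (mem_DD.1 hd).2]
    subst e2
    have e4 : d = d' := mul_left_cancel e1
    subst e4
    rfl
  · intro g
    have hne : g • a ≠ g • b := fun e => hab (smul_left_cancel g e)
    refine ⟨⟨⟨(g • a, g • b), hne⟩, ⟨(s ⟨(g • a, g • b), hne⟩)⁻¹ * g, ?_⟩⟩, ?_⟩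
    · rw [mem_DD, mul_smul, mul_smul, inv_smul_eq_iff, inv_smul_eq_iff, hs1, hs2]
      exact ⟨rfl, rfl⟩
    · change s ⟨(g • a, g • b), hne⟩ * ((s ⟨(g • a, g • b), hne⟩)⁻¹ * g) = g
      group

variable (htr : ∀ {a b c d : Ω}, a ≠ b → c ≠ d → ∃ g : G, g • a = c ∧ g • b = d)
  (hf : ∀ g : G, (∀ x : Ω, g • x = x) → g = 1)

include htr hf

theorem normal_trans {N : Subgroup G} [hN : N.Normal] (hN1 : N ≠ ⊥) (x y : Ω) : ∃ r ∈ N, r • x = y := by
  by_cases hxy : x = y
  · exact ⟨1, N.one_mem, by rw [one_smul, hxy]⟩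
  obtain ⟨g, hg, hg1⟩ := (Subgroup.ne_bot_iff_exists_ne_one.1 hN1 |> fun ⟨a, ha⟩ => (⟨a, a.2, fun e => ha (Subtype.ext e)⟩ :
    ∃ g : G, g ∈ N ∧ g ≠ 1))
  have : ∃ a : Ω, g • a ≠ a := by
    by_contra hcon
    push Not at hcon
    exact hg1 (hf g hcon)
  obtain ⟨a, ha⟩ := this
  obtain ⟨s, hs1, hs2⟩ := htr (Ne.symm ha) hxy
  refine ⟨s * g * s⁻¹, hN.conj_mem g hg s, ?_⟩
  rw [← hs1, mul_smul, mul_smul, inv_smul_smul, hs2]

theorem regN_of_comm {N : Subgroup G} [hN : N.Normal] (hN1 : N ≠ ⊥) (hc : ∀ a ∈ N, ∀ b ∈ N, a * b = b * a) :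
    RegN G Ω := by
  refine ⟨N, hN, normal_trans htr hf hN1, ?_⟩
  intro x r hr hrx
  apply hf
  intro y
  obtain ⟨s, hs, rfl⟩ := normal_trans htr hf hN1 x y
  rw [← mul_smul, hc r hr s hs, mul_smul, hrx]

theorem regN_of_solvable {N : Subgroup G} [hN : N.Normal] (hN1 : N ≠ ⊥) (hs : Group.IsSolvable N) : RegN G Ω := by
  haveI : Nontrivial N := (nontrivial_iff_ne_bot N).2 hN1
  obtain ⟨r, V, hr, hV, hVc, hVr, hV1, -⟩ := Frob.exists_characteristic_abelian (G := N) hs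
  haveI : (V.map N.subtype).Normal := inferInstance
  refine regN_of_comm htr hf (N := V.map N.subtype) ?_ ?_
  · intro e
    apply hV1
    rwa [Subgroup.map_eq_bot_iff_of_injective _ N.subtype_injective] at e
  · rintro _ ⟨a, ha, rfl⟩ _ ⟨b, hb, rfl⟩
    have := hVc.is_comm.comm ⟨a, ha⟩ ⟨b, hb⟩
    have h2 : a * b = b * a := congrArg Subtype.val this
    change (a : G) * b = b * a
    exact congrArg Subtype.val h2

end

section

variable {G : Type u} {Ω : Type v} [Group G] [MulAction G Ω] [Finite G] [Finite Ω] {i : ℕ} {t : G}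

theorem Hyp.cit (h : Hyp Ω G i t) (hi : 2 < i) : CIT G := by
  intro s hs g
  have hs1 : s * s = 1 := by rw [← pow_two, ← hs, pow_orderOf_eq_one]
  have hs2 : s ≠ 1 := by rintro rfl; rw [orderOf_one] at hs; omega
  refine ⟨1, Subtype.ext ?_⟩
  have h1 := (h.of_inv hs1 hs2).elem hi (g := g) g.2
  rw [pow_one, pow_two]
  exact h1

theorem no_arith {i d k : ℕ} (hk : i * d = 2 ^ k) (hi : 2 < i) (hd : 0 < d)
    (h : (i + i * d) * (i + i * d - 1) * d = 20160) : False := by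
  have hk8 : k < 8 := by
    by_contra hcon
    push Not at hcon
    have h1 : 256 ≤ i * d := by
      rw [hk]
      calc 256 = 2 ^ 8 := by norm_num
        _ ≤ 2 ^ k := Nat.pow_le_pow_right (by norm_num) hcon
    have h2 : 256 * 255 * 1 ≤ (i + i * d) * (i + i * d - 1) * d := by
      apply Nat.mul_le_mul
      · apply Nat.mul_le_mul <;> omega
      · exact hd
    rw [h] at h2
    norm_num at h2
  have hi1 : i ∣ 2 ^ k := ⟨d, hk.symm⟩
  obtain ⟨j, hj, rfl⟩ := (Nat.dvd_prime_pow Nat.prime_two).1 hi1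
  have hd1 : d = 2 ^ (k - j) := by
    apply Nat.eq_of_mul_eq_mul_left (by positivity : 0 < 2 ^ j)
    rw [hk, ← pow_add]; congr 1; omega
  subst hd1
  interval_cases k <;> interval_cases j <;> norm_num at h

theorem Hyp.big (hCT : CT.{u}) (hFT : OS.{u}) (h : Hyp Ω G i t) (hi : 2 < i) :
    (∃ (F : Type) (_ : Field F) (_ : Fintype F), Nonempty (G ≃* Matrix.ProjectiveSpecialLinearGroup (Fin 2) F)) ∨
    Cfsg.Lie.IsoSuzuki G ∨ RegN G Ω := by
  by_cases hR : RegN G Ω
  · exact Or.inr (Or.inr hR)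
  have hcit := h.cit hi
  have hns : ¬ Group.IsSolvable G := by
    intro hs
    apply hR
    apply regN_of_solvable (G := G) h.tr h.faith (N := ⊤)
    · intro e
      have : t ∈ (⊤ : Subgroup G) := trivial
      rw [e, Subgroup.mem_bot] at this
      exact h.t1 this
    · exact Group.isSolvable_of_isSolvable_injective (f := (⊤ : Subgroup G).subtype) Subtype.coe_injective
  have h2 : pCore 2 G = ⊥ := by
    by_contra hne
    apply hR
    haveI : Fact (Nat.Prime 2) := ⟨Nat.prime_two⟩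
    haveI : Group.IsNilpotent (pCore 2 G) := (pCore_two (G := G)).isNilpotent
    exact regN_of_solvable (G := G) h.tr h.faith (N := pCore 2 G) hne (solvable_of_nilpotent inferInstance)
  obtain ⟨L, hL, hs, hab, hcent⟩ := hcit.exists_simple hFT hns h2
  have hlist := hCT L hs hab (hcit.subgroup L)
  have hLs : ¬ Group.IsSolvable L := by
    intro h1
    obtain ⟨a, b, hne⟩ := hab
    haveI := hs
    exact hne ((IsSimpleGroup.comm_iff_isSolvable.2 h1) a b)
  haveI : Fact (Nat.Prime 2) := ⟨Nat.prime_two⟩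
  obtain ⟨t0, ht0⟩ := exists_prime_orderOf_dvd_card' (G := L) 2 (even_card hFT hLs)
  have hinv : ∀ s : G, s * s = 1 → s ∈ L := by
    intro s hs1
    by_cases hs2 : s = 1
    · rw [hs2]; exact L.one_mem
    obtain ⟨g, hg⟩ := (h.of_inv (s := (t0 : G)) (by
      have := pow_orderOf_eq_one t0
      rw [ht0, pow_two] at this
      exact congrArg Subtype.val this) (by
      intro e
      have : t0 = 1 := Subtype.ext e
      rw [this, orderOf_one] at ht0
      omega)).conj_inv hs1 hs2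
    rw [← hg]
    exact hL.conj_mem _ t0.2 g
  have htL : t ∈ L := hinv t h.tt
  have hto : orderOf t = 2 := orderOf_eq_prime (by rw [pow_two, h.tt]) h.t1
  have htop : L = ⊤ := by
    rw [eq_top_iff]
    intro g _
    obtain ⟨l, hl⟩ := hlist.one_class ⟨g * t * g⁻¹, hL.conj_mem t htL g⟩ ⟨t, htL⟩ (by
      rw [Subgroup.orderOf_mk, ← hto]
      exact orderOf_injective (MulAut.conj g).toMonoidHom (MulAut.conj g).injective t) (by
      rw [Subgroup.orderOf_mk, hto])
    have h3 : (l : G) * (g * t * g⁻¹) * (l : G)⁻¹ = t := congrArg Subtype.val hl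
    have h4 : (l : G) * g ∈ KK t := by
      rw [mem_KK]
      calc (l : G) * g * t = ((l : G) * (g * t * g⁻¹) * (l : G)⁻¹) * (l * g) := by group
        _ = _ := by rw [h3]
    have h5 : (l : G) * g ∈ L := hinv _ (h.elem hi h4)
    have h6 := L.mul_mem (L.inv_mem l.2) h5
    rwa [inv_mul_cancel_left] at h6
  have e0 : G ≃* L := by
    rw [htop]; exact Subgroup.topEquiv.symm
  rcases hlist with ⟨F, i1, i2, -, ⟨e⟩⟩ | ⟨F, i1, i2, hc, ⟨e⟩⟩ | ⟨F, i1, i2, m, hm, hc, ⟨e⟩⟩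
  · exact Or.inl ⟨F, i1, i2, ⟨e0.trans e⟩⟩
  · exfalso
    obtain ⟨x, y, hxy, hx, hy⟩ := h.exists_fixed hi.le
    have c1 := card_G (G := G) h.tr hxy
    have c2 := h.card_KD hi.le hxy
    have c3 := h.card_K
    have c4 : Nat.card G = 20160 := by
      rw [Nat.card_congr (e0.trans e).toEquiv, card_psl3_four hc]
    have c5 : IsPGroup 2 (KK t) := hcit t hto
    obtain ⟨k, hk⟩ := c5.exists_card_eq
    rw [← c3, c2, c4, add_comm] at c1
    exact no_arith (c2.symm.trans hk) hi Nat.card_pos c1.symm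
  · exact Or.inr (Or.inl ⟨F, i1, i2, m, hm, hc, ⟨e0.trans e⟩⟩)

theorem Hyp.zas_cond (h : Hyp Ω G i t) (h2 : MulAction.IsMultiplyPretransitive G Ω 2)
    (hR : ¬ RegN G Ω) (hfix : ∀ (a b : Ω), a ≠ b → ∀ g ∈ DD G a b, g ≠ 1 → ∀ c : Ω, g • c = c → c = a ∨ c = b)
    (hD : ∃ a b : Ω, a ≠ b ∧ DD G a b ≠ ⊥) : Cfsg.IsZassenhausGroup G Ω := by
  refine ⟨⟨?_⟩, h2, ?_, ?_, ?_⟩
  · intro x y hxy
    have := h.faith (y⁻¹ * x) (fun z => by rw [mul_smul, inv_smul_eq_iff]; exact hxy z)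
    rw [inv_mul_eq_one] at this
    exact this.symm
  · intro g a b c hab hbc hac h1 h2 h3
    by_contra hg
    rcases hfix a b hab g (mem_DD.2 ⟨h1, h2⟩) hg c h3 with e | e
    · exact hac e.symm
    · exact hbc e.symm
  · obtain ⟨a, b, hab, hne⟩ := hD
    obtain ⟨g, hg⟩ := Subgroup.ne_bot_iff_exists_ne_one.1 hne
    exact ⟨g, fun e => hg (Subtype.ext e), a, b, hab, (mem_DD.1 g.2).1, (mem_DD.1 g.2).2⟩
  · intro N hN hNt
    by_contra hcon
    push Not at hcon
    apply hR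
    refine ⟨N, hN, ?_, ?_⟩
    · intro x y
      obtain ⟨r, hr⟩ := hNt.exists_smul_eq x y
      exact ⟨r, r.2, hr⟩
    · intro x r hr hrx
      have h1 : (⟨r, hr⟩ : N) ∈ stabilizer N x := hrx
      rw [hcon x, Subgroup.mem_bot] at h1
      exact congrArg Subtype.val h1

theorem Hyp.two (h : Hyp Ω G 2 t) (h2 : MulAction.IsMultiplyPretransitive G Ω 2) :
    (∃ (F : Type) (_ : Field F) (_ : Fintype F), Nonempty (G ≃* Matrix.ProjectiveSpecialLinearGroup (Fin 2) F)) ∨
    RegN G Ω := by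
  classical
  by_cases hR : RegN G Ω
  · exact Or.inr hR
  left
  letI : Fintype Ω := Fintype.ofFinite Ω
  obtain ⟨x, y, hxy, hx, hy⟩ := h.exists_fixed le_rfl
  have hKD := h.DD_le_K hxy hx hy
  -- elements with two fixed points
  have hfix0 : ∀ g ∈ DD G x y, g ≠ 1 → ∀ c : Ω, g • c = c → c = x ∨ c = y := by
    intro g hg hg1 c hc
    by_contra hcon
    push Not at hcon
    have h3 := h.fix g (mem_KK.1 (hKD hg)) hg1
    letI : Fintype {x : Ω // g • x = x} := Fintype.ofFinite _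
    rw [Nat.card_eq_fintype_card] at h3
    have h4 : 2 < Fintype.card {x : Ω // g • x = x} := Fintype.two_lt_card_iff.2
      ⟨⟨x, (mem_DD.1 hg).1⟩, ⟨y, (mem_DD.1 hg).2⟩, ⟨c, hc⟩, fun e => hxy (congrArg Subtype.val e),
        fun e => hcon.1 (congrArg Subtype.val e).symm, fun e => hcon.2 (congrArg Subtype.val e).symm⟩
    omega
  have hfix : ∀ (a b : Ω), a ≠ b → ∀ g ∈ DD G a b, g ≠ 1 → ∀ c : Ω, g • c = c → c = a ∨ c = b := by
    intro a b hab g hg hg1 c hc
    obtain ⟨s, hs1, hs2⟩ := h.tr hab hxy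
    have hm : s * g * s⁻¹ ∈ DD G x y := by
      rw [mem_DD, ← hs1, ← hs2, mul_smul, mul_smul, inv_smul_smul, (mem_DD.1 hg).1, mul_smul, mul_smul, inv_smul_smul,
        (mem_DD.1 hg).2]
      exact ⟨rfl, rfl⟩
    have h1 : s * g * s⁻¹ ≠ 1 := by
      intro e
      apply hg1
      calc g = s⁻¹ * (s * g * s⁻¹) * s := by group
        _ = 1 := by rw [e]; group
    rcases hfix0 _ hm h1 (s • c) (by rw [mul_smul, mul_smul, inv_smul_smul, hc]) with e | e
    · left; rw [← hs1] at e; exact smul_left_cancel _ e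
    · right; rw [← hs2] at e; exact smul_left_cancel _ e
  have hD : DD G x y ≠ ⊥ := by
    intro e
    have : t ∈ DD G x y := mem_DD.2 ⟨hx, hy⟩
    rw [e, Subgroup.mem_bot] at this
    exact h.t1 this
  have hZ := h.zas_cond h2 hR hfix ⟨x, y, hxy, hD⟩
  have c2 := h.card_KD le_rfl hxy
  have c3 := h.card_K
  have hev : Even (Nat.card ↥(stabilizer G x ⊓ stabilizer G y)) := by
    have hto : orderOf t = 2 := orderOf_eq_prime (by rw [pow_two, h.tt]) h.t1
    rw [even_iff_two_dvd, ← hto]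
    exact Subgroup.orderOf_dvd_natCard _ (mem_DD.2 ⟨hx, hy⟩ : t ∈ DD G x y)
  obtain ⟨p, f, K, i1, i2, -, -, -, -, ⟨e⟩⟩ := S0742.result hZ hxy hev (by
    change 2 * Nat.card (DD G x y) ≤ _
    rw [← Nat.card_eq_fintype_card]
    omega)
  exact ⟨K, i1, i2, ⟨e⟩⟩

end

end Cfsg.Agent.JY.TT
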