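import Mathlib
import Cfsg.Agent.JY.TTC
import Cfsg.Agent.H4.Final

/-! At most one fixed point. -/

set_option autoImplicit false
set_option linter.unusedSectionVars false
set_option linter.style.haveILetI false

namespace Cfsg.Agent.JY.TT

open MulAction Subgroup Cfsg

universe u v

section

variable {G : Type u} {Ω : Type v} [Group G] [MulAction G Ω]

/-- the `p`-part of an abelian two-point stabilizer -/
def pp (p : ℕ) (a b : Ω) (hc : ∀ x ∈ DD G a b, ∀ y ∈ DD G a b, x * y = y * x) : Subgroup G where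
  carrier := {x | x ∈ DD G a b ∧ ∃ k : ℕ, x ^ p ^ k = 1}
  one_mem' := ⟨(DD G a b).one_mem, 0, one_pow _⟩
  mul_mem' := by
    rintro x y ⟨hx, k, hk⟩ ⟨hy, l, hl⟩
    refine ⟨(DD G a b).mul_mem hx hy, k + l, ?_⟩
    have hxy : Commute x y := hc x hx y hy
    rw [hxy.mul_pow, pow_add, pow_mul, hk, one_pow, mul_comm (p ^ k), pow_mul, hl, one_pow, one_mul]
  inv_mem' := by
    rintro x ⟨hx, k, hk⟩
    exact ⟨(DD G a b).inv_mem hx, k, by rw [inv_pow, hk, inv_one]⟩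

theorem mem_pp {p : ℕ} {a b : Ω} {hc : ∀ x ∈ DD G a b, ∀ y ∈ DD G a b, x * y = y * x} {x : G} :
    x ∈ pp p a b hc ↔ x ∈ DD G a b ∧ ∃ k : ℕ, x ^ p ^ k = 1 := Iff.rfl

theorem conj_DD [Finite G] [Finite Ω] {a b : Ω} {g x : G} (hx : x ∈ DD G a b) : g * x * g⁻¹ ∈ DD G (g • a) (g • b) := by
  rw [mem_DD, mul_smul, mul_smul, inv_smul_smul, (mem_DD.1 hx).1, mul_smul, mul_smul, inv_smul_smul, (mem_DD.1 hx).2]
  exact ⟨rfl, rfl⟩

theorem conj_pow' {g x : G} (k : ℕ) : (g * x * g⁻¹) ^ k = g * x ^ k * g⁻¹ := conj_pow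

end

section

variable {G : Type u} {Ω : Type v} [Group G] [MulAction G Ω] [Finite G] [Finite Ω] {i : ℕ} {t : G}

variable (h : Hyp Ω G i t)

/-- the `p`-part -/
def PP (h : Hyp Ω G i t) (p : ℕ) {a b : Ω} (hab : a ≠ b) : Subgroup G :=
  pp p a b (fun _ hx _ hy => h.DD_comm hab hx hy)

include h

theorem Hyp.mem_PP {p : ℕ} {a b : Ω} {hab : a ≠ b} {x : G} :
    x ∈ PP h p hab ↔ x ∈ DD G a b ∧ ∃ k : ℕ, x ^ p ^ k = 1 := Iff.rfl

theorem Hyp.conj_PP {p : ℕ} {a b c d : Ω} {hab : a ≠ b} (hcd : c ≠ d) {g x : G} (h1 : g • a = c) (h2 : g • b = d)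
    (hx : x ∈ PP h p hab) : g * x * g⁻¹ ∈ PP h p hcd := by
  obtain ⟨hx1, k, hk⟩ := h.mem_PP.1 hx
  refine h.mem_PP.2 ⟨?_, k, ?_⟩
  · have := conj_DD (g := g) hx1
    rwa [h1, h2] at this
  · rw [conj_pow', hk]; group

theorem Hyp.card_PP {p : ℕ} {a b c d : Ω} (hab : a ≠ b) (hcd : c ≠ d) :
    Nat.card (PP h p hab) = Nat.card (PP h p hcd) := by
  obtain ⟨g, hg1, hg2⟩ := h.tr hab hcd
  refine Nat.card_congr ⟨fun x => ⟨g * x * g⁻¹, h.conj_PP hcd hg1 hg2 x.2⟩, fun x => ⟨g⁻¹ * x * g, ?_⟩, ?_, ?_⟩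
  · have := h.conj_PP (g := g⁻¹) hab (by rw [← hg1, inv_smul_smul]) (by rw [← hg2, inv_smul_smul]) x.2
    rwa [inv_inv] at this
  · intro x; apply Subtype.ext; change g⁻¹ * (g * x * g⁻¹) * g = x; group
  · intro x; apply Subtype.ext; change g * (g⁻¹ * x * g) * g⁻¹ = x; group

/-- fixed points of the `p`-part -/
theorem Hyp.PP_eq {p : ℕ} {a b c d : Ω} (hab : a ≠ b) (hcd : c ≠ d) (hc : ∀ x ∈ PP h p hab, x • c = c)
    (hd : ∀ x ∈ PP h p hab, x • d = d) : PP h p hab = PP h p hcd := by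
  apply SetLike.coe_injective
  refine Set.eq_of_subset_of_ncard_le ?_ ?_ (Set.toFinite _)
  · intro x hx
    exact h.mem_PP.2 ⟨mem_DD.2 ⟨hc x hx, hd x hx⟩, (h.mem_PP.1 hx).2⟩
  · rw [← Nat.card_coe_set_eq, ← Nat.card_coe_set_eq]
    exact (h.card_PP hab hcd).ge

variable (hi : i ≤ 1)

include hi

theorem Hyp.no_two {a b : Ω} (hab : a ≠ b) {x : G} (hx : x ∈ DD G a b) {s : G} (hs1 : s * s = 1) (hs2 : s ≠ 1)
    (hc : s * x = x * s) : x = 1 := by
  by_contra hx1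
  have h1 := (h.of_inv hs1 hs2).fix x hc.symm hx1
  have h2 : 1 < Nat.card {y : Ω // x • y = y} := by
    rw [Finite.one_lt_card_iff_nontrivial]
    exact ⟨⟨a, (mem_DD.1 hx).1⟩, ⟨b, (mem_DD.1 hx).2⟩, fun e => hab (congrArg Subtype.val e)⟩
  omega

theorem Hyp.one_fix {s : G} (hs1 : s * s = 1) (hs2 : s ≠ 1) {x y : Ω} (hx : s • x = x) (hy : s • y = y) : x = y := by
  by_contra hxy
  have := h.no_two hi hxy (mem_DD.2 ⟨hx, hy⟩) hs1 hs2 rfl
  exact hs2 this

theorem Hyp.odd_cent {C : Subgroup G} {a b : Ω} (hab : a ≠ b) {x : G} (hx : x ∈ DD G a b) (hx1 : x ≠ 1)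
    (hC : ∀ g ∈ C, g * x = x * g) : ¬ 2 ∣ Nat.card C := by
  intro hd
  haveI : Fact (Nat.Prime 2) := ⟨Nat.prime_two⟩
  obtain ⟨s, hs⟩ := exists_prime_orderOf_dvd_card' (G := C) 2 hd
  apply hx1
  apply h.no_two hi hab hx (s := (s : G)) _ _ (hC s s.2)
  · have := pow_orderOf_eq_one s
    rw [hs, pow_two] at this
    exact congrArg Subtype.val this
  · intro e
    have : s = 1 := Subtype.ext e
    rw [this, orderOf_one] at hs
    omega

theorem Hyp.sq_one {a b : Ω} (hab : a ≠ b) {x : G} (hx : x ∈ DD G a b) (h1 : x * x = 1) : x = 1 := by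
  by_contra hx1
  exact hx1 (h.no_two hi hab hx h1 hx1 rfl)

/-- the main dichotomy: the fixed points of the `p`-part -/
theorem Hyp.third {p : ℕ} {a b c : Ω} (hab : a ≠ b) (hca : c ≠ a) (hcb : c ≠ b) (hne : PP h p hab ≠ ⊥)
    (hc : ∀ x ∈ PP h p hab, x • c = c) : ∃ u : G, u * u = 1 ∧ u ≠ 1 ∧ ∀ v, v * v = 1 → v ≠ 1 → v * u = u * v → v = u := by
  classical
  set P := PP h p hab with hP
  let Φ : Set Ω := {y | ∀ x ∈ P, x • y = y}
  have haΦ : a ∈ Φ := fun x hx => (mem_DD.1 (h.mem_PP.1 hx).1).1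
  have hbΦ : b ∈ Φ := fun x hx => (mem_DD.1 (h.mem_PP.1 hx).1).2
  have hcΦ : c ∈ Φ := hc
  have heq : ∀ {y z : Ω} (hyz : y ≠ z), y ∈ Φ → z ∈ Φ → P = PP h p hyz := fun hyz hy hz => h.PP_eq hab hyz hy hz
  have hmemD : ∀ {y z : Ω}, y ∈ Φ → z ∈ Φ → ∀ x ∈ P, x ∈ DD G y z := fun hy hz x hx => mem_DD.2 ⟨hy x hx, hz x hx⟩
  -- swappers of points of `Φ` invert `P`
  have hswap : ∀ {y z : Ω} {w : G}, y ≠ z → y ∈ Φ → z ∈ Φ → w • y = z → w • z = y → ∀ x ∈ P, w * x * w⁻¹ = x⁻¹ := by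
    intro y z w hyz hy hz h1 h2 x hx
    exact h.inverts hyz h1 h2 (hmemD hy hz x hx)
  obtain ⟨x0, hx0⟩ := Subgroup.ne_bot_iff_exists_ne_one.1 hne
  have hx0D : (x0 : G) ∈ DD G a b := (h.mem_PP.1 x0.2).1
  have hx01 : (x0 : G) ≠ 1 := fun e => hx0 (Subtype.ext e)
  let C : Subgroup G := centralizer (P : Set G)
  have hCmem : ∀ g, g ∈ C ↔ ∀ x ∈ P, x * g = g * x := by
    intro g
    exact Subgroup.mem_centralizer_iff
  have hCodd : ¬ 2 ∣ Nat.card C := h.odd_cent hi hab hx0D hx01 (fun g hg => ((hCmem g).1 hg x0 x0.2).symm)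
  have hCΦ : ∀ g ∈ C, ∀ y ∈ Φ, g • y ∈ Φ := by
    intro g hg y hy x hx
    rw [← mul_smul, (hCmem g).1 hg x hx, mul_smul, hy x hx]
  -- `C` moves a point of `Φ`
  obtain ⟨u, hu1, hu2⟩ := h.exists_swap hab
  obtain ⟨v, hv1, hv2⟩ := h.exists_swap hca.symm
  have huP := hswap hab haΦ hbΦ hu1 hu2
  have hvP := hswap hca.symm haΦ hcΦ hv1 hv2
  have hvu : v⁻¹ * u ∈ C := by
    rw [hCmem]
    intro x hx
    have e1 := huP x hx
    have e2 := hvP x hx
    have e3 : u * x * u⁻¹ = v * x * v⁻¹ := by rw [e1, e2]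
    calc x * (v⁻¹ * u) = v⁻¹ * (v * x * v⁻¹) * u := by group
      _ = v⁻¹ * (u * x * u⁻¹) * u := by rw [e3]
      _ = v⁻¹ * u * x := by group
  have hmove : (v⁻¹ * u) • a ≠ a := by
    rw [mul_smul, hu1]
    intro e
    rw [inv_smul_eq_iff, hv1] at e
    exact hcb e.symm
  -- transitivity
  have htransC : ∀ y ∈ Φ, ∃ g ∈ C, g • a = y := by
    intro y hy
    by_cases hya : a = y
    · exact ⟨1, C.one_mem, by rw [one_smul, hya]⟩
    have ha' := hCΦ _ hvu a haΦ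
    obtain ⟨s, hs1, hs2⟩ := h.tr (Ne.symm hmove) hya
    have hfor : ∀ x ∈ P, s⁻¹ * x * s ∈ P := by
      intro x hx
      have hx' : x ∈ PP h p hya := by rw [← heq hya haΦ hy]; exact hx
      have := h.conj_PP (g := s⁻¹) (c := a) (d := (v⁻¹ * u) • a) (Ne.symm hmove) (by rw [inv_smul_eq_iff, hs1])
        (by rw [inv_smul_eq_iff, hs2]) hx'
      rw [inv_inv] at this
      rw [heq (Ne.symm hmove) haΦ ha']
      exact this
    refine ⟨s * (v⁻¹ * u) * s⁻¹, ?_, ?_⟩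
    · rw [hCmem]
      intro x hx
      have e1 := (hCmem _).1 hvu _ (hfor x hx)
      calc x * (s * (v⁻¹ * u) * s⁻¹) = s * ((s⁻¹ * x * s) * (v⁻¹ * u)) * s⁻¹ := by group
        _ = s * ((v⁻¹ * u) * (s⁻¹ * x * s)) * s⁻¹ := by rw [e1]
        _ = _ := by group
    · rw [mul_smul, mul_smul]
      have : s⁻¹ • a = a := by rw [inv_smul_eq_iff, hs1]
      rw [this, hs2]
  have hΦodd : ¬ 2 ∣ Nat.card Φ := by
    intro hd
    apply hCodd
    have horb : orbit C a = Φ := by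
      ext y
      constructor
      · rintro ⟨g, rfl⟩
        exact hCΦ g g.2 a haΦ
      · intro hy
        obtain ⟨g, hg, hgy⟩ := htransC y hy
        exact ⟨⟨g, hg⟩, hgy⟩
    rw [← horb] at hd
    refine hd.trans ?_
    letI : Fintype C := Fintype.ofFinite _
    letI : Fintype (orbit C a) := Fintype.ofFinite _
    letI : Fintype (stabilizer C a) := Fintype.ofFinite _
    rw [Nat.card_eq_fintype_card, Nat.card_eq_fintype_card]
    exact Dvd.intro _ (card_orbit_mul_card_stabilizer_eq_card_group C a)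
  -- `u` acts on `Φ`
  have huu : u * u = 1 := h.swap_inv hab hu1 hu2
  have hu1' : u ≠ 1 := by
    rintro rfl
    rw [one_smul] at hu1
    exact hab hu1
  have huinv : u⁻¹ = u := inv_eq_of_mul_eq_one_right huu
  have huΦ : ∀ y ∈ Φ, u • y ∈ Φ := by
    intro y hy x hx
    have e1 := huP x hx
    rw [mul_inv_eq_iff_eq_mul] at e1
    have e2 : x * u = u * x⁻¹ := by
      calc x * u = u⁻¹ * (u * x) * u := by group
        _ = u * (x⁻¹ * u) * u := by rw [e1, huinv]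
        _ = u * x⁻¹ * (u * u) := by group
        _ = u * x⁻¹ := by rw [huu, mul_one]
    rw [← mul_smul, e2, mul_smul]
    congr 1
    rw [inv_smul_eq_iff, hy x hx]
  haveI : Fact (Nat.Prime 2) := ⟨Nat.prime_two⟩
  obtain ⟨⟨c0, hc0⟩, hfix⟩ : ∃ y : Φ, u • (y : Ω) = y := by
    let σ : Equiv.Perm Φ :=
      { toFun := fun y => ⟨u • (y : Ω), huΦ y y.2⟩
        invFun := fun y => ⟨u • (y : Ω), huΦ y y.2⟩
        left_inv := fun y => Subtype.ext (by change u • u • (y : Ω) = y; rw [← mul_smul, huu, one_smul])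
        right_inv := fun y => Subtype.ext (by change u • u • (y : Ω) = y; rw [← mul_smul, huu, one_smul]) }
    letI : Fintype Φ := Fintype.ofFinite _
    obtain ⟨y, hy⟩ := Equiv.Perm.exists_fixed_point_of_prime (p := 2) (n := 1) (α := Φ)
      (by rw [← Nat.card_eq_fintype_card]; exact hΦodd) (σ := σ) (by
        ext y
        change u • (u • (y : Ω)) = y
        rw [← mul_smul, huu, one_smul])
    exact ⟨y, congrArg Subtype.val hy⟩
  have hfix' : u • c0 = c0 := hfix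
  have hHu := h.of_inv huu hu1'
  have hi1 : i = 1 := by
    have h1 := hHu.card_fix
    have h2 : 0 < Nat.card {x : Ω // u • x = x} := by
      haveI : Nonempty {x : Ω // u • x = x} := ⟨⟨c0, hfix'⟩⟩
      exact Nat.card_pos
    omega
  -- a further point of `Φ`
  obtain ⟨x, hxΦ, hxc⟩ : ∃ x ∈ Φ, x ≠ c0 := by
    by_cases hac : a = c0
    · exact ⟨b, hbΦ, by rw [← hac]; exact hab.symm⟩
    · exact ⟨a, haΦ, hac⟩
  have hKfix : ∀ k ∈ KK u, k • c0 = c0 := by
    intro k hk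
    exact h.one_fix hi huu hu1' (smul_fix hk hfix') hfix'
  have hKtr : ∀ y z : Ω, y ≠ c0 → z ≠ c0 → ∃ k ∈ KK u, k • y = z := by
    intro y z hy hz
    have hne : ∀ k ∈ KK u, k • y ≠ c0 := by
      intro k hk e
      apply hy
      apply smul_left_cancel k
      rw [e, hKfix k hk]
    let f : KK u → {z : Ω // z ≠ c0} := fun k => ⟨(k : G) • y, hne k k.2⟩
    have hf : Function.Injective f := by
      intro k l hkl
      have e1 : (k : G) • y = (l : G) • y := congrArg Subtype.val hkl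
      by_contra hkl'
      have e2 : ((l : G)⁻¹ * k) • y = y := by rw [mul_smul, e1, inv_smul_smul]
      have hm : (l : G)⁻¹ * k ∈ KK u := (KK u).mul_mem ((KK u).inv_mem l.2) k.2
      have e3 := hKfix _ hm
      have e4 := h.no_two hi hy (mem_DD.2 ⟨e2, e3⟩) huu hu1' (mem_KK.1 hm).symm
      exact hkl' (Subtype.ext (inv_mul_eq_one.1 e4).symm)
    have hcard : Nat.card (KK u) = Nat.card {z : Ω // z ≠ c0} := by
      have h1 := hHu.card_K
      have h2 : Nat.card {z : Ω // z = c0} + Nat.card {z : Ω // ¬ z = c0} = Nat.card Ω := by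
        rw [← Nat.card_sum]; exact Nat.card_congr (Equiv.sumCompl _)
      have h3 : Nat.card {z : Ω // z = c0} = 1 := by
        rw [Nat.card_eq_one_iff_unique]
        exact ⟨⟨fun a b => Subtype.ext (a.2.trans b.2.symm)⟩, ⟨⟨c0, rfl⟩⟩⟩
      change _ = Nat.card {z : Ω // ¬ z = c0}
      omega
    obtain ⟨k, hk⟩ := ((Nat.bijective_iff_injective_and_card f).2 ⟨hf, hcard⟩).2 ⟨z, hz⟩
    exact ⟨k, k.2, congrArg Subtype.val hk⟩
  -- all involutions fixing `c0` invert `P`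
  have hinvall : ∀ s : G, s * s = 1 → s ≠ 1 → s • c0 = c0 → ∀ y ∈ P, s * y * s⁻¹ = y⁻¹ := by
    intro s hs1 hs2 hsc y hy
    obtain ⟨g, hg⟩ := hHu.conj_inv hs1 hs2
    have hgc : g • c0 = c0 := by
      apply h.one_fix hi hs1 hs2 _ hsc
      rw [← hg, mul_smul, mul_smul, inv_smul_smul, hfix']
    have hgx : g⁻¹ • x ≠ c0 := by
      intro e
      apply hxc
      rw [inv_smul_eq_iff, hgc] at e
      exact e
    obtain ⟨k, hk, hkx⟩ := hKtr x (g⁻¹ • x) hxc hgx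
    have hk' := mem_KK.1 hk
    have hgk : g * k ∈ DD G c0 x := by
      rw [mem_DD, mul_smul, mul_smul, hKfix k hk, hkx, smul_inv_smul]
      exact ⟨hgc, rfl⟩
    have hs : s = (g * k) * u * (g * k)⁻¹ := by
      rw [← hg]
      calc g * u * g⁻¹ = g * (u * k) * k⁻¹ * g⁻¹ := by group
        _ = g * (k * u) * k⁻¹ * g⁻¹ := by rw [hk']
        _ = _ := by group
    have hcomm : ∀ z ∈ P, (g * k) * z * (g * k)⁻¹ = z := by
      intro z hz
      have := h.DD_comm hxc.symm hgk (hmemD hc0 hxΦ z hz)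
      rw [this]; group
    have hcomm' : ∀ z ∈ P, (g * k)⁻¹ * z * (g * k) = z := by
      intro z hz
      have := h.DD_comm hxc.symm hgk (hmemD hc0 hxΦ z hz)
      rw [mul_assoc, ← this]; group
    calc s * y * s⁻¹ = (g * k) * (u * ((g * k)⁻¹ * y * (g * k)) * u⁻¹) * (g * k)⁻¹ := by rw [hs]; group
      _ = (g * k) * y⁻¹ * (g * k)⁻¹ := by rw [hcomm' y hy, huP y hy]
      _ = y⁻¹ := hcomm _ (P.inv_mem hy)
  refine ⟨u, huu, hu1', ?_⟩
  intro v' hv1' hv2' hvu'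
  by_contra hne'
  have hvc : v' • c0 = c0 := hKfix v' (mem_KK.2 hvu')
  have huv1 : (u * v') * (u * v') = 1 := by
    calc (u * v') * (u * v') = u * (v' * u) * v' := by group
      _ = u * (u * v') * v' := by rw [hvu']
      _ = (u * u) * (v' * v') := by group
      _ = 1 := by rw [huu, hv1', one_mul]
  have huv2 : u * v' ≠ 1 := by
    intro e
    apply hne'
    rw [← huinv]
    exact (eq_inv_of_mul_eq_one_right e)
  have e1 := hinvall (u * v') huv1 huv2 (by rw [mul_smul, hvc, hfix']) x0 x0.2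
  have e2 := hinvall v' hv1' hv2' hvc x0 x0.2
  have e3 := huP _ (P.inv_mem x0.2)
  have e4 : (x0 : G)⁻¹ = x0 := by
    rw [← e1]
    calc u * v' * (x0 : G) * (u * v')⁻¹ = u * (v' * x0 * v'⁻¹) * u⁻¹ := by group
      _ = u * (x0 : G)⁻¹ * u⁻¹ := by rw [e2]
      _ = x0 := by rw [e3, inv_inv]
  apply hx01
  apply h.sq_one hi hab hx0D
  calc (x0 : G) * x0 = (x0 : G)⁻¹ * x0 := by rw [e4]
    _ = 1 := inv_mul_cancel _

end

end Cfsg.Agent.JY.TT
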