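import Mathlib
import Cfsg.Agent.JY.TTD
import Cfsg.Agent.H34.Sharp2
import Cfsg.Agent.H37.FNF
import Cfsg.Agent.S0338
import Cfsg.Agent.S0346
import Cfsg.Agent.S0731
import Cfsg.Agent.S0738
import Cfsg.Agent.S0885

/-! At most one fixed point: the conclusion. -/

set_option autoImplicit false
set_option linter.unusedSectionVars false
set_option linter.style.haveILetI false

namespace Cfsg.Agent.JY.TT

open MulAction Subgroup Cfsg

universe u v

theorem inj3 {α : Type v} {a b c : α} (hab : a ≠ b) (hac : a ≠ c) (hbc : b ≠ c) : Function.Injective ![a, b, c] := by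
  intro i j hij
  fin_cases i <;> fin_cases j <;>
    first
    | rfl
    | exact absurd hij hab
    | exact absurd hij.symm hab
    | exact absurd hij hac
    | exact absurd hij.symm hac
    | exact absurd hij hbc
    | exact absurd hij.symm hbc

section

variable {G : Type u} {Ω : Type v} [Group G] [MulAction G Ω] [Finite G] [Finite Ω] {i : ℕ} {t : G}

variable (h : Hyp Ω G i t)

include h

theorem Hyp.reg_of_unique (hFT : OS.{u})
    (hu : ∃ u : G, u * u = 1 ∧ u ≠ 1 ∧ ∀ v, v * v = 1 → v ≠ 1 → v * u = u * v → v = u) : RegN G Ω := by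
  obtain ⟨u, hu1, hu2, hu3⟩ := hu
  have huo : orderOf u = 2 := orderOf_eq_prime (by rw [pow_two, hu1]) hu2
  have hiso : Cfsg.IsIsolatedInvolution u := by
    refine ⟨huo, fun g hg => ?_⟩
    apply hu3 _ _ _ hg.symm
    · calc g * u * g⁻¹ * (g * u * g⁻¹) = g * (u * u) * g⁻¹ := by group
        _ = 1 := by rw [hu1]; group
    · intro e
      apply hu2
      calc u = g⁻¹ * (g * u * g⁻¹) * g := by group
        _ = 1 := by rw [e]; group
  have h2 := H4.zstar huo (H4.OddComm.of_isolated hiso)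
  by_cases hO : pPrimeCore 2 G = ⊥
  · refine regN_of_comm (G := G) h.tr h.faith (N := Subgroup.center G) ?_ ?_
    · intro e
      apply hu2
      have : u ∈ Subgroup.center G := by
        rw [Subgroup.mem_center_iff]
        intro g
        have h3 := h2 g
        rw [hO, Subgroup.mem_bot, mul_inv_eq_one, mul_inv_eq_iff_eq_mul] at h3
        exact h3.symm
      rw [e, Subgroup.mem_bot] at this
      exact this
    · intro a ha b _
      exact (Subgroup.mem_center_iff.1 ha b).symm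
  · exact regN_of_solvable (G := G) h.tr h.faith (N := pPrimeCore 2 G) hO (hFT _ H4.odd_card_pPrimeCore_two)

variable (hi : i ≤ 1) (hFT : OS.{u}) (hR : ¬ RegN G Ω)

include hi hFT hR

theorem Hyp.base {a b c : Ω} (hab : a ≠ b) (hca : c ≠ a) {x : G} (hx : x ∈ DD G a b) (hx1 : x ≠ 1)
    (hxc : x • c = c) : ∃ g : G, g * x = x * g ∧ g • a = a ∧ g • b = c := by
  classical
  have hne : Nat.card (DD G a b) ≠ 1 := by
    intro e
    rw [Subgroup.card_eq_one] at e
    rw [e, Subgroup.mem_bot] at hx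
    exact hx1 hx
  obtain ⟨p, hp, hpd⟩ := Nat.exists_prime_and_dvd hne
  haveI := Fact.mk hp
  set P := PP h p hab with hP
  have hPne : P ≠ ⊥ := by
    obtain ⟨z, hz⟩ := exists_prime_orderOf_dvd_card' (G := DD G a b) p hpd
    intro e
    have : (z : G) ∈ P := h.mem_PP.2 ⟨z.2, 1, by
      rw [pow_one, ← Subgroup.coe_pow, ← hz, pow_orderOf_eq_one, Subgroup.coe_one]⟩
    rw [e, Subgroup.mem_bot] at this
    have h1 : z = 1 := Subtype.ext this
    rw [h1, orderOf_one] at hz
    exact hp.one_lt.ne hz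
  have hthird : ∀ y : Ω, (∀ z ∈ P, z • y = y) → y = a ∨ y = b := by
    intro y hy
    by_contra hcon
    push Not at hcon
    exact hR (h.reg_of_unique hFT (h.third hi hab hcon.1 hcon.2 hPne hy))
  have hPD : ∀ z ∈ P, z ∈ DD G a b := fun z hz => (h.mem_PP.1 hz).1
  let S : Subgroup G := stabilizer G a
  let P' : Subgroup S := P.subgroupOf S
  have hP'mem : ∀ z : S, z ∈ P' ↔ (z : G) ∈ P := fun z => Subgroup.mem_subgroupOf
  have hP' : IsPGroup p P' := by
    intro z
    obtain ⟨k, hk⟩ := (h.mem_PP.1 ((hP'mem _).1 z.2)).2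
    exact ⟨k, Subtype.ext (Subtype.ext hk)⟩
  obtain ⟨Q, hQ⟩ := hP'.exists_le_sylow
  have hnorm : ∀ n : S, (∀ z : S, z ∈ P' → n⁻¹ * z * n ∈ P') → (n : G) ∈ DD G a b := by
    intro n hn
    have h1 : (n : G) • b = b := by
      have h2 := hthird ((n : G) • b) (by
        intro z hz
        have hzS : z ∈ S := (mem_DD.1 (hPD z hz)).1
        have h3 := (hP'mem _).1 (hn ⟨z, hzS⟩ ((hP'mem _).2 hz))
        have h4 : ((n : G)⁻¹ * z * n) • b = b := (mem_DD.1 (hPD _ h3)).2
        rw [mul_smul, mul_smul, inv_smul_eq_iff] at h4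
        exact h4)
      rcases h2 with h2 | h2
      · exfalso
        apply hab
        have h3 : (n : G) • a = a := n.2
        apply smul_left_cancel (n : G)
        rw [h3, h2]
      · exact h2
    exact mem_DD.2 ⟨n.2, h1⟩
  have hQP : (Q : Subgroup S) ≤ P' := by
    by_contra hne'
    have hlt : P'.subgroupOf (Q : Subgroup S) < ⊤ :=
      lt_top_iff_ne_top.2 (fun e => hne' (Subgroup.subgroupOf_eq_top.1 e))
    haveI : Group.IsNilpotent (Q : Subgroup S) := Q.2.isNilpotent
    obtain ⟨g, hg, hg'⟩ := SetLike.exists_of_lt (Group.normalizerCondition_of_isNilpotent _ hlt)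
    apply hg'
    rw [Subgroup.mem_subgroupOf, hP'mem]
    refine h.mem_PP.2 ⟨hnorm g ?_, ?_⟩
    · intro z hz
      have h1 : (⟨z, hQ hz⟩ : (Q : Subgroup S)) ∈ P'.subgroupOf (Q : Subgroup S) := Subgroup.mem_subgroupOf.2 hz
      have h2 := Subgroup.mem_normalizer_iff.1 ((Subgroup.normalizer _).inv_mem hg) ⟨z, hQ hz⟩
      have h3 := Subgroup.mem_subgroupOf.1 (h2.1 h1)
      rw [inv_inv] at h3
      exact h3
    · obtain ⟨k, hk⟩ := Q.2 g
      exact ⟨k, congrArg (fun y : (Q : Subgroup S) => ((y : S) : G)) hk⟩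
  have hQeq : (Q : Subgroup S) = P' := le_antisymm hQP hQ
  obtain ⟨g0, hg1, hg2⟩ := h.tr hab hca.symm
  have hy : g0⁻¹ * x * g0 ∈ DD G a b := by
    rw [mem_DD, mul_smul, mul_smul, hg1, (mem_DD.1 hx).1, mul_smul, mul_smul, hg2, hxc, inv_smul_eq_iff, inv_smul_eq_iff]
    exact ⟨hg1.symm, hg2.symm⟩
  have hcen : ∀ y : G, ∀ hyS : y ∈ S, y ∈ DD G a b → (⟨y, hyS⟩ : S) ∈ centralizer ((Q : Subgroup S) : Set S) := by
    intro y hyS hyD
    rw [Subgroup.mem_centralizer_iff]
    intro z hz
    have hz' : (z : G) ∈ DD G a b := hPD _ ((hP'mem _).1 (hQP hz))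
    exact Subtype.ext (h.DD_comm hab hz' hyD)
  obtain ⟨n, hn, hne2⟩ := Sylow.conj_eq_normalizer_conj_of_mem_centralizer Q (⟨x, (mem_DD.1 hx).1⟩ : S) ⟨g0, hg1⟩
    (hcen x _ hx) (hcen (g0⁻¹ * x * g0) (mem_DD.1 hy).1 hy)
  have hnD : (n : G) ∈ DD G a b := by
    apply hnorm
    intro z hz
    rw [← hQeq] at hz ⊢
    have h2 := (Subgroup.mem_normalizer_iff.1 ((Subgroup.normalizer _).inv_mem hn) z).1 hz
    rwa [inv_inv] at h2
  have e1 : g0⁻¹ * x * g0 = (n : G)⁻¹ * x * n := congrArg Subtype.val hne2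
  have e2 : (n : G)⁻¹ * x * n = x := by
    have := h.DD_comm hab hx hnD
    rw [mul_assoc, this]; group
  refine ⟨g0, ?_, hg1, hg2⟩
  rw [e2] at e1
  calc g0 * x = g0 * (g0⁻¹ * x * g0) := by rw [e1]
    _ = x * g0 := by group

theorem Hyp.fix2 (a b : Ω) (hab : a ≠ b) (x : G) (hx : x ∈ DD G a b) (hx1 : x ≠ 1) (c : Ω) (hc : x • c = c) :
    c = a ∨ c = b := by
  by_contra hcon
  push Not at hcon
  obtain ⟨hca, hcb⟩ := hcon
  have hxa := (mem_DD.1 hx).1
  have hxb := (mem_DD.1 hx).2
  obtain ⟨g1, h1, h2, h3⟩ := h.base hi hFT hR (a := c) (b := a) (c := b) hca hcb.symm (mem_DD.2 ⟨hc, hxa⟩) hx1 hxb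
  have hswap : ∀ w : G, w * x = x * w → w • a = b → w • b = a → False := by
    intro w hw hwa hwb
    have e1 := h.inverts hab hwa hwb hx
    rw [hw, mul_inv_cancel_right] at e1
    apply hx1
    apply h.sq_one hi hab hx
    calc x * x = x * x⁻¹ := by rw [← e1]
      _ = 1 := mul_inv_cancel x
  have hxe : x • (g1 • b) = g1 • b := by rw [← mul_smul, ← h1, mul_smul, hxb]
  by_cases he : g1 • b = a
  · exact hswap g1 h1 h3 he
  · have hbe : b ≠ g1 • b := by
      intro e
      apply hab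
      apply smul_left_cancel g1
      rw [h3, ← e]
    obtain ⟨g2, k1, k2, k3⟩ := h.base hi hFT hR (a := b) (b := g1 • b) (c := a) hbe hab (mem_DD.2 ⟨hxb, hxe⟩) hx1 hxa
    apply hswap (g2 * g1)
    · rw [mul_assoc, h1, ← mul_assoc, k1, mul_assoc]
    · rw [mul_smul, h3, k2]
    · rw [mul_smul, k3]

theorem Hyp.small (hCT : CT.{u}) (h2 : MulAction.IsMultiplyPretransitive G Ω 2) :
    (∃ (F : Type) (_ : Field F) (_ : Fintype F), Nonempty (G ≃* Matrix.ProjectiveSpecialLinearGroup (Fin 2) F)) ∨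
    Cfsg.Lie.IsoSuzuki G := by
  classical
  letI : Fintype Ω := Fintype.ofFinite Ω
  obtain ⟨a, ha⟩ := h.exists_move
  have hab : a ≠ t • a := ha.symm
  set b := t • a with hb
  have hn2 : 2 ≤ Nat.card Ω := by
    haveI : Nontrivial Ω := ⟨⟨a, b, hab⟩⟩
    exact Finite.one_lt_card_iff_nontrivial.2 inferInstance
  by_cases hD : DD G a b = ⊥
  · exfalso
    apply hR
    have hsh : H34.Sharp2 G Ω := by
      refine ⟨h.tr, ?_⟩
      intro g c d hcd hc hd
      have h1 := h.card_DD hab hcd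
      rw [hD, Subgroup.card_bot, eq_comm, Subgroup.card_eq_one] at h1
      have h3 : g ∈ DD G c d := mem_DD.2 ⟨hc, hd⟩
      rw [h1, Subgroup.mem_bot] at h3
      exact h3
    obtain ⟨K, -, -, -, -, -, hK, -, -, -, -, hKr⟩ := hsh.exists_kernel hn2
    refine ⟨K, hK, fun x y => ?_, fun x r hr hrx => ?_⟩
    · obtain ⟨k, ⟨hk, hkx⟩, -⟩ := hKr x y
      exact ⟨k, hk, hkx⟩
    · obtain ⟨k, -, hk⟩ := hKr x x
      exact (hk r ⟨hr, hrx⟩).trans (hk 1 ⟨K.one_mem, one_smul _ _⟩).symm
  have hZ := h.zas_cond h2 hR (h.fix2 hi hFT hR) ⟨a, b, hab, hD⟩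
  have hDodd : ¬ 2 ∣ Nat.card (DD G a b) := by
    obtain ⟨x, hx⟩ := Subgroup.ne_bot_iff_exists_ne_one.1 hD
    exact h.odd_cent hi hab x.2 (fun e => hx (Subtype.ext e)) (fun g hg => h.DD_comm hab hg x.2)
  have hK2 : 2 ∣ Nat.card (KK t) := by
    have hto : orderOf t = 2 := orderOf_eq_prime (by rw [pow_two, h.tt]) h.t1
    rw [← hto]
    exact Subgroup.orderOf_dvd_natCard _ (mem_KK.2 rfl : t ∈ KK t)
  have hcK := h.card_K
  obtain ⟨U, hU⟩ := H37.ZT.exists_isKer (H34.zgp_of hZ) hab hD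
  have hUc := hU.card hab
  rcases Nat.lt_or_ge i 1 with h0 | h1
  · -- no fixed points
    have h0' : i = 0 := by omega
    subst h0'
    left
    have hUfix : ∀ u ∈ U, u ≠ 1 → ∀ c : Ω, u • c = c → c = a := by
      intro u hu hu1 c hc
      by_contra hca
      exact hu1 (hU.inj hu U.one_mem hca (hc.trans (one_smul G c).symm))
    have hF := S0885.result hZ hab (Fintype.card Ω - 1) (Nat.card (DD G a b)) (by
      rw [← Nat.card_eq_fintype_card]; omega) rfl (by rw [← Nat.not_even_iff_odd, even_iff_two_dvd]; exact hDodd) U hU.le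
      (by rw [← Nat.card_eq_fintype_card]; exact hUc) hUfix
    have hle : Fintype.card Ω - 2 ≤ 2 * Nat.card (DD G a b) := by
      rcases hF with hF | ⟨hF1, ⟨u, v, huv⟩, -⟩
      · omega
      · exfalso
        haveI : Fact (Nat.Prime 2) := ⟨Nat.prime_two⟩
        obtain ⟨k, hk⟩ := hF1.exists_card_eq
        rw [hk] at hUc
        have hk0 : k = 0 := by
          by_contra hk0
          have : 2 ∣ 2 ^ k := dvd_pow_self 2 hk0
          omega
        rw [hk0, pow_zero] at hk
        rw [Subgroup.card_eq_one] at hk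
        apply huv
        have e0 : (u : G) ∈ (⊥ : Subgroup G) := hk ▸ u.2
        have e1 : u = 1 := Subtype.ext (Subgroup.mem_bot.1 e0)
        rw [e1, one_mul, mul_one]
    have hUn : (U.subgroupOf (MulAction.stabilizer G a)).Normal := by
      refine ⟨fun n hn g => ?_⟩
      rw [Subgroup.mem_subgroupOf] at hn ⊢
      exact hU.norm g g.2 n hn
    have hcomm := (S0738.result hZ hab hle U hU.le hUn hU.reg).1
    rcases S0731.result hZ a U hU.le hUn hcomm hU.reg with ⟨h3, h3s⟩ | ⟨K, i1, i2, -, ⟨e⟩⟩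
    · exfalso
      obtain ⟨x, hx⟩ := Subgroup.ne_bot_iff_exists_ne_one.1 hD
      have hxm : ∃ c : Ω, (x : G) • c ≠ c := by
        by_contra hcon
        push Not at hcon
        exact hx (Subtype.ext (h.faith x hcon))
      obtain ⟨c, hc⟩ := hxm
      have hca : c ≠ a := by rintro rfl; exact hc (mem_DD.1 x.2).1
      have hcb : c ≠ b := by rintro rfl; exact hc (mem_DD.1 x.2).2
      let e1 : Fin 3 ↪ Ω := ⟨![a, b, c], inj3 hab hca.symm hcb.symm⟩
      let e2 : Fin 3 ↪ Ω := ⟨![a, c, b], inj3 hca.symm hab hcb⟩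
      obtain ⟨g, hg⟩ := h3.exists_smul_eq e1 e2
      have g0 : g • a = a := congrArg (fun f : Fin 3 ↪ Ω => f 0) hg
      have g1 : g • b = c := congrArg (fun f : Fin 3 ↪ Ω => f 1) hg
      have g2 : g • c = b := congrArg (fun f : Fin 3 ↪ Ω => f 2) hg
      have hgg : g * g ∈ MulAction.stabilizer G e1 := by
        rw [MulAction.mem_stabilizer_iff]
        ext j
        change (g * g) • (e1 j) = e1 j
        fin_cases j
        · change (g * g) • a = a
          rw [mul_smul, g0, g0]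
        · change (g * g) • b = b
          rw [mul_smul, g1, g2]
        · change (g * g) • c = c
          rw [mul_smul, g2, g1]
      rw [h3s e1, Subgroup.mem_bot] at hgg
      have hg1 : g ≠ 1 := by
        rintro rfl
        rw [one_smul] at g1
        exact hcb g1.symm
      have hcf := (h.of_inv hgg hg1).card_fix
      rw [Finite.card_eq_zero_iff] at hcf
      exact hcf.elim ⟨a, g0⟩
    · exact ⟨K, i1, i2, ⟨e⟩⟩
  · -- one fixed point
    have h1' : i = 1 := by omega
    subst h1'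
    have hodd : Odd (Fintype.card Ω) := by
      rw [← Nat.card_eq_fintype_card, ← Nat.not_even_iff_odd, even_iff_two_dvd]
      omega
    haveI hsim : IsSimpleGroup G := S0338.result hZ hodd
    have hpp := S0346.result hZ
    rw [← Nat.card_eq_fintype_card] at hpp
    have hKc : Nat.card (KK t) = Nat.card Ω - 1 := by omega
    rw [← hKc] at hpp
    obtain ⟨p, k, hp, hk, hpk⟩ := hpp
    have hp2 : p = 2 := by
      have : 2 ∣ p ^ k := by rw [hpk]; exact hK2
      exact ((Nat.prime_dvd_prime_iff_eq Nat.prime_two hp.nat_prime).1 (Nat.prime_two.dvd_of_dvd_pow this)).symm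
    subst hp2
    have hcit : CIT G := by
      intro s hs
      have hs1 : s * s = 1 := by rw [← pow_two, ← hs, pow_orderOf_eq_one]
      have hs2 : s ≠ 1 := by rintro rfl; rw [orderOf_one] at hs; omega
      have e1 := (h.of_inv hs1 hs2).card_K
      apply IsPGroup.of_card (n := k)
      change Nat.card (KK s) = 2 ^ k
      omega
    have hab' : ∃ x y : G, x * y ≠ y * x := by
      by_contra hcon
      push Not at hcon
      obtain ⟨x, hx⟩ := Subgroup.ne_bot_iff_exists_ne_one.1 hD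
      exact hx (Subtype.ext (h.no_two hi hab x.2 h.tt h.t1 (hcon t x)))
    rcases hCT G hsim hab' hcit with ⟨F, i1, i2, -, ⟨e⟩⟩ | ⟨F, i1, i2, hc, ⟨e⟩⟩ | hS
    · exact Or.inl ⟨F, i1, i2, ⟨e⟩⟩
    · exfalso
      have c1 := card_G (G := G) h.tr hab
      have c4 : Nat.card G = 20160 := by
        rw [Nat.card_congr e.toEquiv, card_psl3_four hc]
      have c5 : Nat.card Ω = 2 ^ k + 1 := by omega
      rw [c4, c5, Nat.add_sub_cancel] at c1
      have hk15 : k < 15 := by
        by_contra hcon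
        push Not at hcon
        have h3 : 2 ^ 15 ≤ 2 ^ k := Nat.pow_le_pow_right (by norm_num) hcon
        have h4 : (2 ^ 15 + 1) * 2 ^ 15 * 1 ≤ (2 ^ k + 1) * 2 ^ k * Nat.card (DD G a b) := by
          apply Nat.mul_le_mul
          · apply Nat.mul_le_mul <;> omega
          · exact Nat.card_pos
        rw [← c1] at h4
        norm_num at h4
      interval_cases k <;> omega
    · exact Or.inr hS

end

end Cfsg.Agent.JY.TT
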