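import Cfsg.Agent.JY.S4351B
import Cfsg.Agent.H41.TorusSylow

/-!
# S4351, piece C3 (helper60): CIT-groups with a normal subgroup `PSL₂(q)`, `3 ∤ q`, of 2-power index
-/

set_option autoImplicit false
set_option linter.unusedSectionVars false
set_option linter.style.haveILetI false

namespace Cfsg.Agent.JY.Top3

open Subgroup Cfsg Cfsg.Agent.JY

universe u

/-- In a cyclic 3-group, the elements of order 3 are `y` and `y⁻¹`. -/
theorem cyc_three {P : Type*} [Group P] [Finite P] [IsCyclic P] {y z : P} (hy : orderOf y = 3)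
    (hz : orderOf z = 3) : z = y ∨ z = y⁻¹ := by
  classical
  haveI := Fintype.ofFinite P
  by_contra hcon
  push Not at hcon
  have h := IsCyclic.card_pow_eq_one_le (α := P) (n := 3) (by norm_num)
  have hy3 : y ^ 3 = 1 := by rw [← hy]; exact pow_orderOf_eq_one y
  have hz3 : z ^ 3 = 1 := by rw [← hz]; exact pow_orderOf_eq_one z
  have hy1 : y ≠ 1 := by
    rintro rfl
    rw [orderOf_one] at hy; omega
  have hz1 : z ≠ 1 := by
    rintro rfl
    rw [orderOf_one] at hz; omega
  have hyi : y ≠ y⁻¹ := by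
    intro e
    have : y ^ 2 = 1 := by
      rw [pow_two]
      nth_rw 2 [e]
      exact mul_inv_cancel y
    have h2 := orderOf_dvd_of_pow_eq_one this
    rw [hy] at h2
    omega
  have hsub : ({1, y, y⁻¹, z} : Finset P) ⊆ Finset.univ.filter (fun a : P => a ^ 3 = 1) := by
    intro a ha
    simp only [Finset.mem_insert, Finset.mem_singleton] at ha
    simp only [Finset.mem_filter, Finset.mem_univ, true_and]
    rcases ha with rfl | rfl | rfl | rfl
    · simp
    · exact hy3
    · rw [inv_pow, hy3, inv_one]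
    · exact hz3
  have hc : ({1, y, y⁻¹, z} : Finset P).card = 4 := by
    rw [Finset.card_insert_of_notMem, Finset.card_insert_of_notMem, Finset.card_insert_of_notMem,
      Finset.card_singleton]
    · simp only [Finset.mem_singleton]
      exact fun e => hcon.2 e.symm
    · simp only [Finset.mem_insert, Finset.mem_singleton, not_or]
      exact ⟨hyi, fun e => hcon.1 e.symm⟩
    · simp only [Finset.mem_insert, Finset.mem_singleton, not_or]
      exact ⟨fun e => hy1 e.symm, fun e => hy1 (inv_eq_one.1 e.symm), fun e => hz1 e.symm⟩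
  have := Finset.card_le_card hsub
  omega

theorem abs_top {X : Type*} [Group X] [Finite X] (L : Subgroup X) [hL : L.Normal] [Fact (Nat.Prime 3)]
    (P : Sylow 3 L) (hP : IsCyclic P) (y w : L) (hy : orderOf y = 3) (hyP : y ∈ P) (hw : w * y * w⁻¹ = y⁻¹)
    (hC : ∀ n : X, n * (y : X) * n⁻¹ = y → n ∈ L) : L = ⊤ := by
  rw [← Sylow.normalizer_sup_eq_top P]
  symm
  rw [sup_eq_right]
  intro n hn
  rw [mem_normalizer_iff] at hn
  have h1 : n * (y : X) * n⁻¹ ∈ ((P : Subgroup L).map L.subtype) := (hn _).1 ⟨y, hyP, rfl⟩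
  obtain ⟨z, hzP, hz⟩ := h1
  have hzo : orderOf z = 3 := by
    rw [← orderOf_coe (H := L) z, show ((z : L) : X) = n * (y : X) * n⁻¹ from hz]
    have := MulEquiv.orderOf_eq (MulAut.conj n) (y : X)
    rw [MulAut.conj_apply] at this
    rw [this, orderOf_coe, hy]
  have h2 := cyc_three (P := P) (y := ⟨y, hyP⟩) (z := ⟨z, hzP⟩) ((orderOf_mk _ _).trans hy)
    ((orderOf_mk _ _).trans hzo)
  rcases h2 with h2 | h2
  · have h3 : z = y := congrArg Subtype.val h2
    exact hC n (by rw [← hz, h3]; rfl)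
  · have h3 : z = y⁻¹ := congrArg Subtype.val h2
    have h4 : (w : X) * n ∈ L := by
      apply hC
      have h5 : (w : X) * n * y * ((w : X) * n)⁻¹ = w * (n * y * n⁻¹) * (w : X)⁻¹ := by group
      rw [h5, ← hz, h3]
      have h6 : (w : L) * y⁻¹ * w⁻¹ = y := by
        have : w * y⁻¹ * w⁻¹ = (w * y * w⁻¹)⁻¹ := by group
        rw [this, hw, inv_inv]
      exact congrArg Subtype.val h6
    exact (mul_mem_cancel_left w.2).1 h4

section sl

open Cfsg.Agent.H41 Matrix

variable {F : Type*} [Field F] [Finite F]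

/-- The Sylow 3-subgroups of `SL₂(F)` are cyclic in characteristic `≠ 3`. -/
theorem sl_cyclic [h3 : Fact (Nat.Prime 3)] (hF : (3 : F) ≠ 0) (Q : Sylow 3 (SpecialLinearGroup (Fin 2) F)) :
    IsCyclic Q := by
  obtain ⟨p, hp⟩ := CharP.exists F
  haveI : Fact p.Prime := ⟨CharP.char_is_prime F p⟩
  have hp3 : 3 ≠ p := by
    rintro rfl
    exact hF (by exact_mod_cast CharP.cast_eq_zero F 3)
  rcases subsingleton_or_nontrivial Q with h | h
  · infer_instance
  haveI : Nontrivial (center Q) := Q.2.center_nontrivial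
  have hc : IsPGroup 3 (center Q) := Q.2.to_subgroup _
  obtain ⟨z, hz⟩ : ∃ z : center Q, orderOf z = 3 := by
    apply exists_prime_orderOf_dvd_card' 3
    obtain ⟨n, hn0, hn⟩ := hc.nontrivial_iff_card.1 inferInstance
    rw [hn]
    exact dvd_pow_self 3 hn0.ne'
  have hzo : orderOf ((z : Q) : SpecialLinearGroup (Fin 2) F) = 3 := by
    rw [orderOf_coe, orderOf_coe, hz]
  have ht := tr_sq_ne_four_of_orderOf (p := p) (by norm_num) hp3 _ hzo
  have hcyc : IsCyclic (centralizer ({((z : Q) : SpecialLinearGroup (Fin 2) F)} :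
      Set (SpecialLinearGroup (Fin 2) F))) := by
    by_cases hn : NoEig (tr ((z : Q) : SpecialLinearGroup (Fin 2) F))
    · exact (centralizer_of_noEig _ hn).1
    · unfold NoEig at hn
      push Not at hn
      obtain ⟨a, ha⟩ := hn
      exact (centralizer_of_eig _ ht a ha).1
  have hle : (Q : Subgroup _) ≤ centralizer ({((z : Q) : SpecialLinearGroup (Fin 2) F)} :
      Set (SpecialLinearGroup (Fin 2) F)) := by
    intro g hg
    rw [mem_centralizer_singleton_iff]
    have := mem_center_iff.1 z.2 ⟨g, hg⟩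
    exact congrArg Subtype.val this
  exact isCyclic_of_injective (inclusion hle) (inclusion_injective hle)

/-- solving `a² - a c + c² = -1` -/
theorem norm_form (F : Type*) [Field F] [Finite F] (h3 : (3 : F) ≠ 0) : ∃ a c : F, a ^ 2 - a * c + c ^ 2 = -1 := by
  classical
  haveI := Fintype.ofFinite F
  by_cases h2 : (2 : F) = 0
  · exact ⟨1, 0, by linear_combination h2⟩
  · have hc : ringChar F ≠ 2 := by
      intro e
      apply h2
      have := ringChar.Nat.cast_ringChar (R := F)
      rw [e] at this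
      exact_mod_cast this
    have hodd := FiniteField.odd_card_of_char_ne_two hc
    obtain ⟨x, c, hxc⟩ := FiniteField.exists_root_sum_quadratic (R := F)
      (f := Polynomial.X ^ 2 + Polynomial.C 4) (g := Polynomial.C 3 * Polynomial.X ^ 2)
      (by compute_degree!) (by rw [Polynomial.degree_C_mul h3, Polynomial.degree_X_pow]; rfl) hodd
    refine ⟨(x + c) / 2, c, ?_⟩
    simp at hxc
    have h4 : (4 : F) ≠ 0 := by
      have : (4 : F) = 2 * 2 := by norm_num
      rw [this]; exact mul_ne_zero h2 h2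
    field_simp
    linear_combination hxc

/-- the element `[[0, -1], [1, -1]]` of order 3 -/
def y0 (F : Type*) [Field F] : SpecialLinearGroup (Fin 2) F :=
  ⟨!![0, -1; 1, -1], by rw [Matrix.det_fin_two_of]; ring⟩

def w0 (a c : F) (h : a ^ 2 - a * c + c ^ 2 = -1) : SpecialLinearGroup (Fin 2) F :=
  ⟨!![a, c - a; c, -a], by rw [Matrix.det_fin_two_of]; linear_combination -h⟩

theorem y0_cube : (y0 F) ^ 3 = 1 := by
  have h : (!![0, -1; 1, -1] : Matrix (Fin 2) (Fin 2) F) ^ 3 = 1 := by
    rw [pow_succ, pow_two, Matrix.mul_fin_two, Matrix.mul_fin_two]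
    ext i j
    fin_cases i <;> fin_cases j <;> simp
  exact Subtype.ext h

theorem w0_y0 (a c : F) (h : a ^ 2 - a * c + c ^ 2 = -1) : w0 a c h * y0 F * (w0 a c h)⁻¹ = (y0 F)⁻¹ := by
  rw [mul_inv_eq_iff_eq_mul, eq_inv_mul_iff_mul_eq]
  have h : (!![0, -1; 1, -1] : Matrix (Fin 2) (Fin 2) F) * (!![a, c - a; c, -a] * !![0, -1; 1, -1]) =
      !![a, c - a; c, -a] := by
    rw [Matrix.mul_fin_two, Matrix.mul_fin_two]
    ext i j
    fin_cases i <;> fin_cases j <;> simp <;> ring
  exact Subtype.ext h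

theorem y0_not_center : y0 F ∉ center (SpecialLinearGroup (Fin 2) F) := by
  intro h
  rw [Matrix.SpecialLinearGroup.mem_center_iff] at h
  obtain ⟨r, -, hr⟩ := h
  have := congrFun (congrFun hr 1) 0
  simp [y0] at this

theorem psl_cyclic [h3 : Fact (Nat.Prime 3)] (hF : (3 : F) ≠ 0)
    (P : Sylow 3 (ProjectiveSpecialLinearGroup (Fin 2) F)) : IsCyclic P := by
  let π : SpecialLinearGroup (Fin 2) F →* ProjectiveSpecialLinearGroup (Fin 2) F := QuotientGroup.mk' _
  have hπ : Function.Surjective π := QuotientGroup.mk'_surjective _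
  obtain ⟨Q⟩ : Nonempty (Sylow 3 (SpecialLinearGroup (Fin 2) F)) := inferInstance
  haveI := sl_cyclic hF Q
  have h1 : IsCyclic (Q.mapSurjective hπ) := by
    have : IsCyclic ((Q : Subgroup (SpecialLinearGroup (Fin 2) F)).map π) :=
      isCyclic_of_surjective (π.subgroupMap (Q : Subgroup (SpecialLinearGroup (Fin 2) F)))
        (π.subgroupMap_surjective _)
    exact this
  have e : (Q.mapSurjective hπ) ≃* P := Sylow.equiv _ _
  exact isCyclic_of_surjective e e.surjective

theorem sylow_cyclic [h3 : Fact (Nat.Prime 3)] (hF : (3 : F) ≠ 0) {L : Type*} [Group L] [Finite L]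
    (e : L ≃* ProjectiveSpecialLinearGroup (Fin 2) F) (P : Sylow 3 L) : IsCyclic P := by
  haveI h1 : IsCyclic (P.mapSurjective (f := e.toMonoidHom) e.surjective) := psl_cyclic hF _
  have h2 : P ≃* (P.mapSurjective (f := e.toMonoidHom) e.surjective) :=
    (P : Subgroup L).equivMapOfInjective e.toMonoidHom e.injective
  exact isCyclic_of_surjective h2.symm h2.symm.surjective

end sl

theorem ne_three {F : Type*} [Field F] [Fintype F]
    (h : Fintype.card F = 4 ∨ ((Fintype.card F).Prime ∧ 5 ≤ Fintype.card F)) : (3 : F) ≠ 0 := by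
  intro e
  obtain ⟨p, hp⟩ := CharP.exists F
  haveI : Fact p.Prime := ⟨CharP.char_is_prime F p⟩
  have h1 : p ∣ 3 := (CharP.cast_eq_zero_iff F p 3).1 (by exact_mod_cast e)
  have h2 : p = 3 := (Nat.prime_dvd_prime_iff_eq Fact.out (by norm_num)).1 h1
  subst h2
  obtain ⟨n, -, hn⟩ := FiniteField.card F 3
  have h3 : 3 ∣ Fintype.card F := by
    rw [hn]; exact dvd_pow_self 3 n.pos.ne'
  rcases h with h | ⟨h, h5⟩
  · rw [h] at h3; omega
  · have := (Nat.prime_dvd_prime_iff_eq (by norm_num) h).1 h3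
    omega

theorem top3 : S4351B.Top3.{u} := by
  intro X _ _ hX L _ hq F _ _ hF ⟨e⟩
  haveI h3 : Fact (Nat.Prime 3) := ⟨by norm_num⟩
  have hF3 := ne_three hF
  obtain ⟨a, c, hac⟩ := norm_form F hF3
  let π : Matrix.SpecialLinearGroup (Fin 2) F →* Matrix.ProjectiveSpecialLinearGroup (Fin 2) F :=
    QuotientGroup.mk' _
  set y : L := e.symm (π (y0 F)) with hy
  set w : L := e.symm (π (w0 a c hac)) with hw
  have hy3 : orderOf y = 3 := by
    apply orderOf_eq_prime
    · rw [hy, ← map_pow, ← map_pow, y0_cube, map_one, map_one]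
    · intro h1
      rw [hy, MulEquiv.map_eq_one_iff] at h1
      exact y0_not_center ((QuotientGroup.eq_one_iff _).1 h1)
  obtain ⟨P, hP⟩ := (IsPGroup.of_card (p := 3) (n := 1) (G := zpowers y) (by
    rw [Nat.card_zpowers, hy3, pow_one])).exists_le_sylow
  apply abs_top L P (sylow_cyclic hF3 e P) y w hy3 (hP (mem_zpowers y))
  · rw [hy, hw, ← map_mul, ← map_mul, ← map_inv, ← map_inv, ← map_mul, ← map_mul, w0_y0, map_inv, map_inv,
      ← map_inv]
  · intro n hn
    apply mem_of_odd hq
    intro h2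
    have ht : orderOf (n ^ (orderOf n / 2)) = 2 := orderOf_pow_orderOf_div (orderOf_pos n).ne' h2
    have hc : Commute n (y : X) := mul_inv_eq_iff_eq_mul.1 hn
    refine hX.not_comm (t := n ^ (orderOf n / 2)) ?_ (k := 1) ?_ (p := 3) (by norm_num) (by norm_num)
      ((orderOf_coe y).trans hy3) (hc.pow_left _)
    · intro h1
      rw [h1, orderOf_one] at ht
      omega
    · have := pow_orderOf_eq_one (n ^ (orderOf n / 2))
      rwa [ht] at this

end Cfsg.Agent.JY.Top3
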