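import Cfsg.Agent.JY.Count
import Cfsg.Agent.JY.EppoGrp
import Cfsg.Agent.JY.S4351B
import Cfsg.Agent.CIT.H3B

/-!
# S4351, piece C9 (helper60): CIT-groups with a normal subgroup `PSL₂(9)` or `PSL₃(4)` of 2-power index
-/

set_option autoImplicit false
set_option linter.unusedSectionVars false
set_option linter.style.haveILetI false

namespace Cfsg.Agent.JY.Top9

open Subgroup Cfsg Cfsg.Agent.JY

universe u

section count

variable {X : Type*} [Group X] [Finite X] {p : ℕ} [hp : Fact p.Prime]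

theorem count' (P : Sylow p X) (hC : ∀ x ∈ P, x ≠ 1 → centralizer ({x} : Set X) = P) {k : ℕ}
    (hk : Nat.card P = p ^ k) (hk0 : k ≠ 0) (L : Subgroup X) [hL : L.Normal] (hPL : (P : Subgroup X) ≤ L) :
    ∃ n a b : ℕ, n * a = Nat.card L ∧ p ^ k ∣ a ∧ n ≡ 1 [MOD p ^ k] ∧ b ≤ p ^ k * (p ^ k - 1) ∧ a ∣ b ∧
      n * b = Nat.card X := by
  set N := normalizer ((P : Subgroup X) : Set X) with hN
  have hfr : N ⊔ L = ⊤ := by
    have h1 := Sylow.normalizer_sup_eq_top (P.subtype hPL)
    have h2 : ((P.subtype hPL : Sylow p L) : Subgroup L).map L.subtype = P := by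
      rw [Sylow.coe_subtype, Subgroup.subgroupOf_map_subtype]
      exact inf_eq_left.2 hPL
    rwa [h2] at h1
  refine ⟨Nat.card (Sylow p X), Nat.card (N ⊓ L : Subgroup X), Nat.card N, ?_, ?_, ?_, ?_, ?_, ?_⟩
  · have h1 : L.relIndex N = L.index := by
      rw [← relIndex_top_right, ← hfr, relIndex_sup_right]
    have h2 : Nat.card (L.subgroupOf N) * L.relIndex N = Nat.card N := card_mul_index _
    have h3 : Nat.card (L.subgroupOf N) = Nat.card (N ⊓ L : Subgroup X) := by
      rw [inf_comm, ← Subgroup.subgroupOf_map_subtype]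
      exact (Subgroup.card_map_of_injective N.subtype_injective).symm
    rw [h1, h3] at h2
    have h4 := card_mul_index N
    have h5 := card_mul_index L
    have h6 : Nat.card (Sylow p X) = N.index := Sylow.card_eq_index_normalizer P
    rw [h6]
    apply Nat.eq_of_mul_eq_mul_right (Nat.pos_of_ne_zero (index_ne_zero_of_finite (H := L)))
    rw [h5, ← h4, ← h2]
    ring
  · rw [← hk]
    exact Subgroup.card_dvd_of_le (le_inf le_normalizer hPL)
  · exact sylow_mod P hk hk0 hC
  · haveI : Nontrivial P := by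
      rw [← Finite.one_lt_card_iff_nontrivial, hk]
      exact Nat.one_lt_pow hk0 hp.out.one_lt
    obtain ⟨x, hx⟩ := exists_ne (1 : P)
    have := card_normalizer_le P x.2 (fun e => hx (Subtype.ext e)) (hC x.1 x.2 (fun e => hx (Subtype.ext e)))
    rwa [hk] at this
  · exact Subgroup.card_dvd_of_le inf_le_left
  · have h6 : Nat.card (Sylow p X) = N.index := Sylow.card_eq_index_normalizer P
    rw [h6, mul_comm]
    exact card_mul_index N

theorem centr_eq' (hX : CIT X) (L : Subgroup X) [hL : L.Normal] (hq : IsPGroup 2 (X ⧸ L))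
    (hodd : ∀ x : L, ¬ 2 ∣ orderOf x → x ≠ 1 → IsPrimePow (orderOf x)) (hp2 : p ≠ 2) (P : Sylow p X)
    (hab : ∀ a ∈ P, ∀ b ∈ P, a * b = b * a) {x : X} (hx : x ∈ P) (hx1 : x ≠ 1) :
    centralizer ({x} : Set X) = P := by
  have h1 : (P : Subgroup X) ≤ centralizer ({x} : Set X) := fun y hy => mem_centr.2 (hab x hx y hy)
  obtain ⟨k, hk⟩ := P.2 ⟨x, hx⟩
  have hk' : x ^ p ^ k = 1 := congrArg Subtype.val hk
  obtain ⟨j, -, hj⟩ := (Nat.dvd_prime_pow hp.out).1 (orderOf_dvd_of_pow_eq_one hk')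
  have hj0 : j ≠ 0 := by
    rintro rfl
    rw [pow_zero, orderOf_eq_one_iff] at hj
    exact hx1 hj
  have hxodd : ¬ 2 ∣ orderOf x := by
    rw [hj]
    intro h
    exact hp2 ((Nat.prime_dvd_prime_iff_eq Nat.prime_two hp.out).1 (Nat.prime_two.dvd_of_dvd_pow h)).symm
  -- elements of prime order in the centralizer
  have key : ∀ r : ℕ, r.Prime → r ∣ Nat.card (centralizer ({x} : Set X)) → r = p := by
    intro r hr hrd
    haveI := Fact.mk hr
    obtain ⟨y, hy⟩ := exists_prime_orderOf_dvd_card' (G := centralizer ({x} : Set X)) r hrd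
    have hyo : orderOf (y : X) = r := by rw [Subgroup.orderOf_coe, hy]
    have hy1 : (y : X) ≠ 1 := by
      intro h
      rw [h, orderOf_one] at hyo
      exact hr.one_lt.ne hyo
    have hc : x * (y : X) = (y : X) * x := mem_centr.1 y.2
    by_contra hrp
    by_cases hr2 : r = 2
    · subst hr2
      exact hx1 (hX.odd_comm hy1 (k := 1) (by rw [pow_one, ← hyo, pow_orderOf_eq_one]) hxodd hc.symm)
    · have hco : Nat.Coprime (orderOf x) (orderOf (y : X)) := by
        rw [hj, hyo]
        exact Nat.Coprime.pow_left j ((Nat.coprime_primes hp.out hr).2 (Ne.symm hrp))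
      have hxy : orderOf (x * y) = p ^ j * r := by
        rw [Commute.orderOf_mul_eq_mul_orderOf_of_coprime (show Commute x (y : X) from hc) hco, hj, hyo]
      have hxyo : ¬ 2 ∣ orderOf (x * y) := by
        rw [hxy, Nat.prime_two.dvd_mul]
        rintro (h | h)
        · exact hp2 ((Nat.prime_dvd_prime_iff_eq Nat.prime_two hp.out).1 (Nat.prime_two.dvd_of_dvd_pow h)).symm
        · exact hr2 ((Nat.prime_dvd_prime_iff_eq Nat.prime_two hr).1 h).symm
      have hmem : x * (y : X) ∈ L := mem_of_odd hq hxyo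
      have h2 := hodd ⟨x * y, hmem⟩ (by rw [Subgroup.orderOf_mk]; exact hxyo) (by
        intro h
        have h3 : x * (y : X) = 1 := congrArg Subtype.val h
        rw [h3, orderOf_one] at hxy
        have : 1 < p ^ j * r := by
          calc 1 < r := hr.one_lt
            _ ≤ p ^ j * r := Nat.le_mul_of_pos_left r (pow_pos hp.out.pos j)
        omega)
      rw [Subgroup.orderOf_mk, hxy] at h2
      obtain ⟨s, i, hs, hi, he⟩ := h2
      have hs' := hs.nat_prime
      have e1 : p ∣ s ^ i := by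
        rw [he]
        exact Dvd.dvd.mul_right (dvd_pow_self p hj0) r
      have e2 : r ∣ s ^ i := by rw [he]; exact dvd_mul_left r _
      have e3 := (Nat.prime_dvd_prime_iff_eq hp.out hs').1 (hp.out.dvd_of_dvd_pow e1)
      have e4 := (Nat.prime_dvd_prime_iff_eq hr hs').1 (hr.dvd_of_dvd_pow e2)
      exact hrp (e4.trans e3.symm)
  have h2 : IsPGroup p (centralizer ({x} : Set X)) := by
    rw [IsPGroup.iff_card]
    exact ⟨_, Nat.eq_prime_pow_of_unique_prime_dvd Nat.card_pos.ne' (fun {q} hq hqd => key q hq hqd)⟩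
  exact P.is_maximal' h2 h1

end count

theorem psl29_odd {L : Type*} [Group L] {F : Type*} [Field F] [Fintype F] (hF : Fintype.card F = 9)
    (e : L ≃* Matrix.ProjectiveSpecialLinearGroup (Fin 2) F) (x : L) (hx : ¬ 2 ∣ orderOf x) (hx1 : x ≠ 1) :
    IsPrimePow (orderOf x) := by
  have h1 : orderOf x ≠ 1 := fun h => hx1 (orderOf_eq_one_iff.1 h)
  obtain ⟨p, n, hp, hn, hn0, -, hs⟩ := CIT.Non.spec (by rw [hF]; norm_num) e
  have hp3 : p = 3 := by
    rw [hF] at hn
    have h2 : p ∣ 3 ^ 2 := by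
      have : (3 ^ 2 : ℕ) = p ^ n := by rw [← hn]; norm_num
      rw [this]; exact dvd_pow_self p hn0.ne'
    exact (Nat.prime_dvd_prime_iff_eq hp Nat.prime_three).1 (hp.dvd_of_dvd_pow h2)
  subst hp3
  have h2 := (hs (orderOf x)).1 ⟨x, rfl⟩
  rw [hF] at h2
  norm_num at h2
  rcases h2 with h | h | h
  · rw [((Nat.dvd_prime Nat.prime_three).1 h).resolve_left h1]
    exact Nat.prime_three.isPrimePow
  · exfalso
    have h3 : Nat.Coprime (orderOf x) (2 ^ 2) :=
      Nat.Coprime.pow_right 2 ((Nat.Prime.coprime_iff_not_dvd Nat.prime_two).2 hx).symm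
    have h4 : orderOf x ∣ 2 ^ 2 := by norm_num; exact h
    exact h1 (Nat.eq_one_of_dvd_coprimes h3 dvd_rfl h4)
  · rw [((Nat.dvd_prime Nat.prime_five).1 h).resolve_left h1]
    exact Nat.prime_five.isPrimePow

theorem card_psl29 {F : Type*} [Field F] [Fintype F] (h : Fintype.card F = 9) :
    Nat.card (Matrix.ProjectiveSpecialLinearGroup (Fin 2) F) = 360 := by
  have h3 := H14.SubField.card_PSL2_odd (F := F) (by rw [h]; decide)
  rw [h] at h3
  omega

theorem top_psl34 {X : Type u} [Group X] [Finite X] (hX : CIT X) (L : Subgroup X) [hL : L.Normal]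
    (hq : IsPGroup 2 (X ⧸ L)) (hodd : ∀ x : L, ¬ 2 ∣ orderOf x → x ≠ 1 → IsPrimePow (orderOf x))
    (hc : Nat.card L = 20160) : L = ⊤ := by
  haveI : Fact (Nat.Prime 3) := ⟨Nat.prime_three⟩
  obtain ⟨P⟩ : Nonempty (Sylow 3 X) := inferInstance
  obtain ⟨hPL, hPc⟩ := sylow_le (by norm_num) L hq P
  have hf : (Nat.card L).factorization 3 = 2 :=
    factorization_eq (m := 2240) Nat.prime_three (by rw [hc]; norm_num) (by norm_num)
  rw [hf] at hPc
  obtain ⟨n, a, b, h1, h2, h3, h4, h5, h6⟩ := count' P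
    (fun x hx hx1 => centr_eq' hX L hq hodd (by norm_num) P (abelian_of_card_sq P hPc) hx hx1)
    hPc two_ne_zero L hPL
  apply eq_top_of_card L h1 h6
  have hb : 0 < b := by
    rcases Nat.eq_zero_or_pos b with rfl | hb
    · rw [mul_zero] at h6
      exact absurd h6.symm Nat.card_pos.ne'
    · exact hb
  have h7 := Nat.le_of_dvd hb h5
  norm_num at h2 h4
  have h3' : n % 9 = 1 := h3
  obtain ⟨c, rfl⟩ := h2
  rw [hc] at h1
  have hc1 : c ≤ 8 := by omega
  interval_cases c <;> omega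

theorem top_psl29 {X : Type u} [Group X] [Finite X] (hX : CIT X) (L : Subgroup X) [hL : L.Normal]
    (hq : IsPGroup 2 (X ⧸ L)) (hodd : ∀ x : L, ¬ 2 ∣ orderOf x → x ≠ 1 → IsPrimePow (orderOf x))
    (hc : Nat.card L = 360) : L = ⊤ ∨ L.index = 2 := by
  haveI : Fact (Nat.Prime 3) := ⟨Nat.prime_three⟩
  obtain ⟨P⟩ : Nonempty (Sylow 3 X) := inferInstance
  obtain ⟨hPL, hPc⟩ := sylow_le (by norm_num) L hq P
  have hf : (Nat.card L).factorization 3 = 2 :=
    factorization_eq (m := 40) Nat.prime_three (by rw [hc]; norm_num) (by norm_num)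
  rw [hf] at hPc
  obtain ⟨n, a, b, h1, h2, h3, h4, h5, h6⟩ := count' P
    (fun x hx hx1 => centr_eq' hX L hq hodd (by norm_num) P (abelian_of_card_sq P hPc) hx hx1)
    hPc two_ne_zero L hPL
  have hb : 0 < b := by
    rcases Nat.eq_zero_or_pos b with rfl | hb
    · rw [mul_zero] at h6
      exact absurd h6.symm Nat.card_pos.ne'
    · exact hb
  have h7 := Nat.le_of_dvd hb h5
  norm_num at h2 h4
  have h3' : n % 9 = 1 := h3
  obtain ⟨c, rfl⟩ := h2
  have h1' := h1
  rw [hc] at h1
  have hc1 : c ≤ 8 := by omega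
  have hc4 : c = 4 := by interval_cases c <;> omega
  subst hc4
  have hn : n = 10 := by omega
  subst hn
  obtain ⟨d, rfl⟩ := h5
  have hd : d = 1 ∨ d = 2 := by
    have : d ≠ 0 := by rintro rfl; omega
    omega
  have h8 := card_mul_index L
  rw [hc, ← h6] at h8
  rcases hd with rfl | rfl
  · left
    rw [← index_eq_one]
    omega
  · right
    omega

/-- [C9] -/
theorem top9 : S4351B.Top9.{u} := by
  intro X _ _ hX L _ hq
  refine ⟨?_, ?_⟩
  · rintro ⟨F, i1, i2, hF, ⟨e⟩⟩
    exact top_psl29 hX L hq (fun x hx hx1 => psl29_odd hF e x hx hx1)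
      (by rw [Nat.card_congr e.toEquiv, card_psl29 hF])
  · rintro ⟨F, i1, i2, hF, ⟨e⟩⟩
    refine top_psl34 hX L hq (fun x hx hx1 => CIT.Non.psl34_odd hF e x hx hx1) ?_
    rw [Nat.card_congr e.toEquiv]
    exact card_psl3_four hF

end Cfsg.Agent.JY.Top9
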