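import Mathlib
import Cfsg.Agent.JY.U1
import Cfsg.Agent.H31.Avg
import Cfsg.Agent.Transfer.Frobenius
import Cfsg.Agent.BlkInd.HomoFinal
import Cfsg.Agent.ZJ.Core

/-! Abelian Sylow 2-subgroups of exponent four in which the involutions are squares: preliminaries. -/

set_option autoImplicit false
set_option linter.all false

namespace Cfsg.Agent.JY.U

open Subgroup

/-- abelian, exponent dividing 4, every element of order two is a square -/
structure Rt {G : Type*} [Group G] (E : Subgroup G) : Prop where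
  comm : ∀ a ∈ E, ∀ b ∈ E, a * b = b * a
  four : ∀ a ∈ E, a ^ 4 = 1
  root : ∀ a ∈ E, a * a = 1 → ∃ b ∈ E, b * b = a

theorem Rt.map {G H : Type*} [Group G] [Group H] {E : Subgroup G} (h : Rt E) (f : G →* H)
    (hf : ∀ a ∈ E, f a = 1 → a = 1) : Rt (E.map f) where
  comm := by
    rintro _ ⟨a, ha, rfl⟩ _ ⟨b, hb, rfl⟩
    rw [← map_mul, ← map_mul, h.comm a ha b hb]
  four := by
    rintro _ ⟨a, ha, rfl⟩
    rw [← map_pow, h.four a ha, map_one]
  root := by
    rintro _ ⟨a, ha, rfl⟩ h1
    rw [← map_mul] at h1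
    obtain ⟨b, hb, hba⟩ := h.root a ha (hf _ (mul_mem ha ha) h1)
    exact ⟨f b, ⟨b, hb, rfl⟩, by rw [← map_mul, hba]⟩

theorem Rt.of_map {G H : Type*} [Group G] [Group H] (f : G →* H) (hf : Function.Injective f) {T : Subgroup G}
    (h : Rt (T.map f)) : Rt T where
  comm := fun a ha b hb => hf (by rw [map_mul, map_mul]; exact h.comm _ ⟨a, ha, rfl⟩ _ ⟨b, hb, rfl⟩)
  four := fun a ha => hf (by rw [map_pow, map_one]; exact h.four _ ⟨a, ha, rfl⟩)
  root := fun a ha h1 => by
    obtain ⟨_, ⟨b, hb, rfl⟩, hba⟩ := h.root _ ⟨a, ha, rfl⟩ (by rw [← map_mul, h1, map_one])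
    exact ⟨b, hb, hf (by rw [map_mul, hba])⟩

theorem zmod_inv : ∀ w : ZMod 4 × ZMod 4, w + w = 0 → w = 0 ∨ w = (2, 0) ∨ w = (0, 2) ∨ w = (2, 2) := by
  decide

theorem zmod_four : ∀ w : ZMod 4 × ZMod 4, (w + w) + (w + w) = 0 := by
  decide

theorem exists_iso_four {E : Type*} [Group E] [Finite E] (hcomm : ∀ a b : E, a * b = b * a) (h4 : ∀ a : E, a ^ 4 = 1)
    (hr : ∀ a : E, a * a = 1 → ∃ b, b * b = a) (hc : Nat.card {a : E // a * a = 1} = 4) :
    Nonempty (E ≃* Multiplicative (ZMod (2 ^ 2) × ZMod (2 ^ 2))) := by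
  classical
  letI : CommGroup E := { (inferInstance : Group E) with mul_comm := hcomm }
  -- the order
  let sq : E →* E := powMonoidHom 2
  have hker : Nat.card sq.ker = 4 := by
    rw [← hc]
    apply Nat.card_congr
    apply Equiv.subtypeEquivRight
    intro x
    rw [MonoidHom.mem_ker]
    show x ^ 2 = 1 ↔ _
    rw [pow_two]
  have hrange : sq.range = sq.ker := by
    apply le_antisymm
    · rintro _ ⟨x, rfl⟩
      rw [MonoidHom.mem_ker]
      show (x ^ 2) ^ 2 = 1
      rw [← pow_mul]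
      exact h4 x
    · intro x hx
      have hx' : x ^ 2 = 1 := hx
      obtain ⟨b, hb⟩ := hr x (by rw [← pow_two]; exact hx')
      exact ⟨b, by show b ^ 2 = x; rw [pow_two]; exact hb⟩
  have hcard : Nat.card E = 16 := by
    rw [Subgroup.card_eq_card_quotient_mul_card_subgroup sq.ker,
      Nat.card_congr (QuotientGroup.quotientKerEquivRange sq).toEquiv, hrange, hker]
  -- two involutions
  have : Nontrivial sq.ker := by
    rw [← Finite.one_lt_card_iff_nontrivial, hker]; norm_num
  obtain ⟨⟨a, ha⟩, ha1⟩ := exists_ne (1 : sq.ker)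
  have ha1' : a ≠ 1 := fun h => ha1 (Subtype.ext h)
  obtain ⟨b, hb, hb1, hba⟩ : ∃ b ∈ sq.ker, b ≠ 1 ∧ b ≠ a := by
    by_contra hcon
    push Not at hcon
    have h1 : (sq.ker : Set E) ⊆ {1, a} := by
      intro x hx
      by_cases h : x = 1
      · exact Or.inl h
      · exact Or.inr (hcon x hx h)
    have h2 := Set.ncard_le_ncard h1 (Set.toFinite _)
    have h3 : (sq.ker : Set E).ncard = 4 := by
      rw [← hker]; rfl
    have h4' : ({1, a} : Set E).ncard ≤ 2 := Set.ncard_insert_le _ _ |>.trans (by rw [Set.ncard_singleton])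
    omega
  have ha2 : a * a = 1 := by rw [← pow_two]; exact ha
  have hb2 : b * b = 1 := by rw [← pow_two]; exact hb
  have hab : a * b ≠ 1 := by
    intro h
    apply hba
    calc b = (a * a) * b := by rw [ha2, one_mul]
      _ = a * (a * b) := by rw [mul_assoc]
      _ = a := by rw [h, mul_one]
  obtain ⟨x, hx⟩ := hr a ha2
  obtain ⟨y, hy⟩ := hr b hb2
  let fx : ZMod 4 →+ Additive E := ZMod.lift 4 ⟨zmultiplesHom _ (Additive.ofMul x), by
    show ((4 : ℕ) : ℤ) • (Additive.ofMul x) = 0
    rw [natCast_zsmul, ← ofMul_pow, h4 x]; rfl⟩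
  let fy : ZMod 4 →+ Additive E := ZMod.lift 4 ⟨zmultiplesHom _ (Additive.ofMul y), by
    show ((4 : ℕ) : ℤ) • (Additive.ofMul y) = 0
    rw [natCast_zsmul, ← ofMul_pow, h4 y]; rfl⟩
  have hfx : fx 2 = Additive.ofMul a := by
    have h1 : fx ((2 : ℤ) : ZMod 4) = (2 : ℤ) • Additive.ofMul x := by
      simp only [fx, ZMod.lift_coe]; rfl
    have h2 : ((2 : ℤ) : ZMod 4) = 2 := rfl
    rw [h2] at h1
    rw [h1, ← hx]
    show Additive.ofMul (x ^ (2 : ℤ)) = _
    rw [zpow_two]
  have hfy : fy 2 = Additive.ofMul b := by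
    have h1 : fy ((2 : ℤ) : ZMod 4) = (2 : ℤ) • Additive.ofMul y := by
      simp only [fy, ZMod.lift_coe]; rfl
    have h2 : ((2 : ℤ) : ZMod 4) = 2 := rfl
    rw [h2] at h1
    rw [h1, ← hy]
    show Additive.ofMul (y ^ (2 : ℤ)) = _
    rw [zpow_two]
  let f : ZMod 4 × ZMod 4 →+ Additive E := AddMonoidHom.coprod fx fy
  have hf : ∀ w, f w = fx w.1 + fy w.2 := fun w => AddMonoidHom.coprod_apply _ _ _
  have hinj : Function.Injective f := by
    rw [injective_iff_map_eq_zero]
    have key : ∀ w, w + w = 0 → f w = 0 → w = 0 := by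
      intro w hw hfw
      rw [hf] at hfw
      rcases zmod_inv w hw with h | h | h | h
      · exact h
      · exfalso
        rw [h] at hfw
        simp only [map_zero, add_zero, hfx] at hfw
        exact ha1' hfw
      · exfalso
        rw [h] at hfw
        simp only [map_zero, zero_add, hfy] at hfw
        exact hb1 hfw
      · exfalso
        rw [h] at hfw
        simp only [hfx, hfy] at hfw
        exact hab hfw
    intro w hw
    have h1 : f (w + w) = 0 := by rw [map_add, hw, add_zero]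
    have h2 : (w + w) + (w + w) = 0 := zmod_four w
    have h3 := key _ h2 h1
    exact key w h3 hw
  have hbij : Function.Bijective f := by
    rw [Nat.bijective_iff_injective_and_card]
    refine ⟨hinj, ?_⟩
    rw [Nat.card_prod, Nat.card_zmod]
    show 4 * 4 = Nat.card E
    rw [hcard]
  let F : ZMod 4 × ZMod 4 ≃+ Additive E := AddEquiv.ofBijective f hbij
  exact ⟨(AddEquiv.toMultiplicativeLeft F).symm⟩

theorem solvable_of_normal_sylow {X : Type*} [Group X] [Finite X] (S : Sylow 2 X) (hn : (S : Subgroup X).Normal) :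
    Group.IsSolvable X := by
  have : Fact (Nat.Prime 2) := ⟨Nat.prime_two⟩
  have h1 : Group.IsSolvable (S : Subgroup X) := by
    have := S.isPGroup'.isNilpotent
    infer_instance
  have h2 : Group.IsSolvable (X ⧸ (S : Subgroup X)) := by
    apply FT.solvable_of_odd
    rw [← Subgroup.index_eq_card, ← Nat.not_even_iff_odd, even_iff_two_dvd]
    exact S.not_dvd_index
  exact Group.isSolvable_of_ker_le_range (S : Subgroup X).subtype (QuotientGroup.mk' (S : Subgroup X)) (by
    rw [QuotientGroup.ker_mk', Subgroup.range_subtype])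

theorem odd_pPrimeCore {X : Type*} [Group X] [Finite X] : Odd (Nat.card (Cfsg.pPrimeCore 2 X)) := by
  have h1 := Solv.pPrimeCore_card_coprime (G := X) 2
  rwa [Nat.coprime_comm, Nat.coprime_two_left] at h1

theorem solvable_of_quot_core {X : Type*} [Group X] [Finite X] (h : Group.IsSolvable (X ⧸ Cfsg.pPrimeCore 2 X)) :
    Group.IsSolvable X := by
  have h1 : Group.IsSolvable (Cfsg.pPrimeCore 2 X) := FT.solvable_of_odd odd_pPrimeCore
  exact Group.isSolvable_of_ker_le_range (Cfsg.pPrimeCore 2 X).subtype (QuotientGroup.mk' (Cfsg.pPrimeCore 2 X)) (by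
    rw [QuotientGroup.ker_mk', Subgroup.range_subtype])

/-- 2-elements outside an odd normal subgroup -/
theorem eq_one_of_mem_odd {X : Type*} [Group X] [Finite X] {P N : Subgroup X} (hP : IsPGroup 2 P)
    (hN : Odd (Nat.card N)) {a : X} (ha : a ∈ P) (haN : a ∈ N) : a = 1 := by
  have : Fact (Nat.Prime 2) := ⟨Nat.prime_two⟩
  obtain ⟨k, hk⟩ := (IsPGroup.iff_orderOf.1 hP) ⟨a, ha⟩
  rw [Subgroup.orderOf_mk] at hk
  have h1 := orderOf_dvd_natCard (⟨a, haN⟩ : N)
  rw [Subgroup.orderOf_mk, hk] at h1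
  have h2 : k = 0 := by
    by_contra h0
    have := (dvd_pow_self 2 h0).trans h1
    exact (Nat.not_even_iff_odd.2 hN) (even_iff_two_dvd.2 this)
  rw [h2, pow_zero, orderOf_eq_one_iff] at hk
  exact hk

theorem card_quot_lt {X : Type*} [Group X] [Finite X] {O : Subgroup X} (hO : O ≠ ⊥) :
    Nat.card (X ⧸ O) < Nat.card X := by
  have h1 := O.card_eq_card_quotient_mul_card_subgroup
  have h2 : 1 < Nat.card O := (Subgroup.one_lt_card_iff_ne_bot _).2 hO
  have h3 : 0 < Nat.card (X ⧸ O) := Nat.card_pos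
  rw [h1]
  nlinarith

theorem card_lt_of_ne_top {X : Type*} [Group X] [Finite X] {C : Subgroup X} (hC : C ≠ ⊤) :
    Nat.card C < Nat.card X := by
  apply lt_of_le_of_ne (Subgroup.card_le_card_group C)
  intro h
  exact hC (Subgroup.eq_top_of_card_eq C h)

/-- triviality of the cores of involution centralizers -/
theorem core_bot {G : Type*} [Group G] [Finite G] (hc : H32.SE.CentConstr G) (hO : Cfsg.pPrimeCore 2 G = ⊥)
    (S : Sylow 2 G) (V : Subgroup G) (hVS : V ≤ (S : Subgroup G)) (hV : Cfsg.IsElementaryAbelian 2 V)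
    (hV3 : 8 ≤ Nat.card V) (hSV : (S : Subgroup G) ≤ Subgroup.normalizer (V : Set G)) {t : G} (ht : orderOf t = 2) :
    Cfsg.pPrimeCore 2 ↥(Subgroup.centralizer ({t} : Set G)) = ⊥ := by
  have hV3' : 2 ^ 3 ≤ Nat.card V := by norm_num; exact hV3
  have hS : (S : Subgroup G) ≠ ⊥ := by
    intro h
    rw [h, le_bot_iff] at hVS
    rw [hVS, Subgroup.card_bot] at hV3
    omega
  have h1 := H32.SE.core_trivial H32.SE.strongCore hc hO S (H32.SE.inEight_of_normal hVS hV hV3' hSV) hS _
    (fun B hB hr => H32.SE.cc_W_eq hc S.2 hV hV3' hSV hB hr) ht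
  rw [Cfsg.centralizerPPrimeCore, Subgroup.map_eq_bot_iff_of_injective _ (Subgroup.subtype_injective _)] at h1
  exact h1

theorem centConstr_of_sylow {G : Type*} [Group G] [Finite G] (S : Sylow 2 G)
    (h : ∀ t ∈ (S : Subgroup G), orderOf t = 2 → Group.IsSolvable ↥(Subgroup.centralizer ({t} : Set G))) :
    H32.SE.CentConstr G := by
  have : Fact (Nat.Prime 2) := ⟨Nat.prime_two⟩
  intro t ht
  apply SigF.PC.isPConstrained_of_isSolvable
  obtain ⟨x, hx⟩ := H9.exists_conj_smul_le_sylow (isPGroup_zpowers_two ht) S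
  have h1 : x * t * x⁻¹ ∈ (S : Subgroup G) := H9.conj_smul_le_iff.1 hx t (Subgroup.mem_zpowers t)
  have h2 := h _ h1 (by rw [orderOf_conj_eq, ht])
  -- conjugation embeds
  let φ : ↥(Subgroup.centralizer ({t} : Set G)) →* ↥(Subgroup.centralizer ({x * t * x⁻¹} : Set G)) :=
    { toFun := fun c => ⟨x * c * x⁻¹, by
        have hc := Subgroup.mem_centralizer_singleton_iff.1 c.2
        rw [Subgroup.mem_centralizer_singleton_iff]
        calc x * (c : G) * x⁻¹ * (x * t * x⁻¹) = x * (c * t) * x⁻¹ := by group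
          _ = x * (t * c) * x⁻¹ := by rw [hc]
          _ = _ := by group⟩
      map_one' := by ext; simp
      map_mul' := fun a b => by
        ext
        show x * ((a : G) * b) * x⁻¹ = x * a * x⁻¹ * (x * b * x⁻¹)
        group }
  have hφ : Function.Injective φ := by
    intro a b hab
    have h3 : x * (a : G) * x⁻¹ = x * b * x⁻¹ := congrArg Subtype.val hab
    exact Subtype.ext (mul_left_cancel (mul_right_cancel h3))
  exact Group.isSolvable_of_isSolvable_injective hφ

end Cfsg.Agent.JY.U
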