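import Mathlib
import Cfsg.Agent.JY.U0
import Cfsg.Agent.JY.EvenGraph
import Cfsg.Agent.JY.List
import Cfsg.Agent.S1141
import Cfsg.Agent.S0330
import Cfsg.Agent.BS.List

/-! Sylow 2-subgroups of the groups with a strongly embedded subgroup. -/

set_option autoImplicit false
set_option linter.all false

namespace Cfsg.Agent.JY.U

open Subgroup Cfsg.Agent.Suz

theorem card_center_congr {S T : Type*} [Group S] [Group T] (e : S ≃* T) :
    Nat.card (Subgroup.center S) = Nat.card (Subgroup.center T) :=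
  Nat.card_congr (Equiv.subtypeEquiv e.toEquiv fun x => (mem_center_congr e x).symm)

theorem sylow_transport {L K : Type*} [Group L] [Finite L] [Group K] (e : L ≃* K) (S : Sylow 2 L) :
    ∃ P : Sylow 2 K, Nonempty (↥(S : Subgroup L) ≃* ↥(P : Subgroup K)) := by
  have : Fact (Nat.Prime 2) := ⟨Nat.prime_two⟩
  refine ⟨S.mapSurjective (f := e.toMonoidHom) e.surjective, ⟨?_⟩⟩
  exact (S : Subgroup L).equivMapOfInjective e.toMonoidHom e.injective

theorem inList_sylow {L : Type*} [Group L] [Finite L] (h : BS.InList L) (S : Sylow 2 L) :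
    (∀ s ∈ (S : Subgroup L), s * s = 1) ∨
    (∃ q : ℕ, 2 ≤ q ∧ Nat.card S = q ^ 2 ∧ Nat.card (Subgroup.center ↥(S : Subgroup L)) = q) ∨
    (∃ (F : Type) (_ : Field F) (_ : Fintype F) (n : ℕ), 2 ≤ n ∧ Fintype.card F = (2 ^ n) ^ 2 ∧
      Nonempty (L ≃* Cfsg.PSU 3 F (2 ^ n)) ∧ Nat.card S = (2 ^ n) ^ 3 ∧
      Nat.card (Subgroup.center ↥(S : Subgroup L)) = 2 ^ n) := by
  have : Fact (Nat.Prime 2) := ⟨Nat.prime_two⟩
  rcases h with ⟨F, i1, i2, n, hn, hc, ⟨f⟩⟩ | ⟨F, i1, i2, m, hm, hc, ⟨f⟩⟩ | ⟨F, i1, i2, n, hn, hc, ⟨f⟩⟩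
  · left
    intro s hs
    obtain ⟨k, hk⟩ := (IsPGroup.iff_orderOf.1 S.isPGroup') ⟨s, hs⟩
    rw [Subgroup.orderOf_mk] at hk
    have h1 : orderOf (f s) = 2 ^ k := by rw [MulEquiv.orderOf_eq, hk]
    have h2 : 1 ≤ n := by omega
    have hdvd : orderOf s ∣ 2 := by
      rcases (JY.psl2_spec h2 hc hn).1 ⟨f s, h1⟩ with h3 | h3 | h3
      · rwa [hk]
      · have h4 : k = 0 := by
          by_contra h0
          have h5 : 2 ∣ 2 ^ n - 1 := (dvd_pow_self 2 h0).trans h3
          have h6 : 2 ∣ 2 ^ n := dvd_pow_self 2 (by omega)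
          have h7 : 0 < 2 ^ n := by positivity
          omega
        rw [hk, h4]; norm_num
      · have h4 : k = 0 := by
          by_contra h0
          have h5 : 2 ∣ 2 ^ n + 1 := (dvd_pow_self 2 h0).trans h3
          have h6 : 2 ∣ 2 ^ n := dvd_pow_self 2 (by omega)
          omega
        rw [hk, h4]; norm_num
    rw [← pow_two]
    exact orderOf_dvd_iff_pow_eq_one.1 hdvd
  · right; left
    obtain ⟨e⟩ := nonempty_lieEquiv hm hc
    obtain ⟨P, ⟨g⟩⟩ := sylow_transport (f.trans e.symm) S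
    obtain ⟨h1, -, -, h2⟩ := S0330.result hm hc P
    refine ⟨2 ^ (2 * m + 1), ?_, ?_, ?_⟩
    · calc 2 = 2 ^ 1 := by norm_num
        _ ≤ 2 ^ (2 * m + 1) := Nat.pow_le_pow_right (by norm_num) (by omega)
    · rw [← h1]
      exact Nat.card_congr g.toEquiv
    · rw [← h2]
      exact card_center_congr g
  · right; right
    obtain ⟨P, ⟨g⟩⟩ := sylow_transport f S
    obtain ⟨h1, h2, -⟩ := S1141.result hn hc P
    refine ⟨F, i1, i2, n, hn, hc, ⟨f⟩, ?_, ?_⟩
    · rw [← h1]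
      exact Nat.card_congr g.toEquiv
    · rw [← h2]
      exact card_center_congr g

end Cfsg.Agent.JY.U
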