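import Mathlib
import Cfsg.Agent.JY.U2
import Cfsg.Agent.JY.UL
import Cfsg.Agent.BS.Base

/-! Abelian Sylow 2-subgroups of exponent four in which the involutions are squares: the group is solvable. -/

set_option autoImplicit false
set_option linter.all false

namespace Cfsg.Agent.JY.U

open Subgroup

universe u

/-- a Sylow 2-subgroup of the quotient by the odd core lies in a normal subgroup of odd index -/
theorem exists_sylow_of_odd {Q : Type*} [Group Q] [Finite Q] (P : Sylow 2 Q) (L : Subgroup Q) [L.Normal]
    (hL : Odd L.index) : ∃ T : Sylow 2 L, (T : Subgroup L).map L.subtype = (P : Subgroup Q) := by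
  have : Fact (Nat.Prime 2) := ⟨Nat.prime_two⟩
  obtain ⟨T, hT⟩ := ZJ.exists_sylow_map_eq_inf P L
  refine ⟨T, ?_⟩
  rw [hT]
  apply inf_eq_left.2
  intro x hx
  -- the image of `x` in `Q/L` is trivial
  obtain ⟨k, hk⟩ := (IsPGroup.iff_orderOf.1 P.isPGroup') ⟨x, hx⟩
  rw [Subgroup.orderOf_mk] at hk
  have h1 : orderOf (QuotientGroup.mk' L x) ∣ 2 ^ k := hk ▸ orderOf_map_dvd _ x
  have h2 : orderOf (QuotientGroup.mk' L x) ∣ L.index := orderOf_dvd_natCard _
  have h3 : orderOf (QuotientGroup.mk' L x) = 1 := by
    have hc : (orderOf (QuotientGroup.mk' L x)).Coprime L.index :=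
      (Nat.Coprime.pow_left k (Nat.coprime_two_left.2 hL)).coprime_dvd_left h1
    exact Nat.Coprime.eq_one_of_dvd hc h2
  rw [orderOf_eq_one_iff] at h3
  exact (QuotientGroup.eq_one_iff x).1 h3

/-- the Sylow 2-subgroups of a group with a strongly embedded subgroup -/
theorem se_sylow {G : Type u} [Group G] [Finite G] {H : Subgroup G} (hH : Cfsg.IsStronglyEmbedded H) (S : Sylow 2 G)
    (h2 : ∃ a ∈ (S : Subgroup G), ∃ b ∈ (S : Subgroup G), orderOf a = 2 ∧ orderOf b = 2 ∧ a ≠ b ∧ a * b = b * a) :
    ∃ L : Subgroup (G ⧸ Cfsg.pPrimeCore 2 G), L.Normal ∧ Odd L.index ∧ BS.InList L ∧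
      ∃ T : Sylow 2 L, Nonempty (↥(S : Subgroup G) ≃* ↥(T : Subgroup L)) := by
  have : Fact (Nat.Prime 2) := ⟨Nat.prime_two⟩
  rcases BS.main hH with h | ⟨L, hL, hodd, hin⟩
  · exfalso
    obtain ⟨a, ha, b, hb, ha2, hb2, hab, hc⟩ := h2
    exact hab ((h b hb2).2 a (Subgroup.mem_centralizer_singleton_iff.2 hc) ha2)
  · refine ⟨L, hL, hodd, hin, ?_⟩
    set P : Sylow 2 (G ⧸ Cfsg.pPrimeCore 2 G) := S.mapSurjective (QuotientGroup.mk'_surjective (Cfsg.pPrimeCore 2 G)) with hP
    obtain ⟨T, hT⟩ := exists_sylow_of_odd P L hodd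
    refine ⟨T, ⟨?_⟩⟩
    have hPm : (P : Subgroup (G ⧸ Cfsg.pPrimeCore 2 G)) = (S : Subgroup G).map (QuotientGroup.mk' (Cfsg.pPrimeCore 2 G)) :=
      Sylow.coe_mapSurjective _ _
    have hinj : Function.Injective ((QuotientGroup.mk' (Cfsg.pPrimeCore 2 G)).comp (S : Subgroup G).subtype) := by
      rw [injective_iff_map_eq_one]
      rintro ⟨x, hx⟩ h1
      exact Subtype.ext (eq_one_of_mem_odd S.2 odd_pPrimeCore hx ((QuotientGroup.eq_one_iff x).1 h1))
    have e1 : ↥(S : Subgroup G) ≃* ↥(P : Subgroup (G ⧸ Cfsg.pPrimeCore 2 G)) :=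
      (MonoidHom.ofInjective hinj).trans (MulEquiv.subgroupCongr (by
        rw [hPm, MonoidHom.range_comp, Subgroup.range_subtype]))
    have e2 : ↥(T : Subgroup L) ≃* ↥(P : Subgroup (G ⧸ Cfsg.pPrimeCore 2 G)) :=
      ((T : Subgroup L).equivMapOfInjective L.subtype L.subtype_injective).trans (MulEquiv.subgroupCongr hT)
    exact e1.trans e2.symm

theorem card_center_of_comm {T : Type*} [Group T] (h : ∀ a b : T, a * b = b * a) :
    Nat.card (Subgroup.center T) = Nat.card T := by
  have : Subgroup.center T = ⊤ := by
    rw [eq_top_iff]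
    intro x _
    rw [Subgroup.mem_center_iff]
    exact fun g => h g x
  rw [this, Subgroup.card_top]

theorem rt_solvable (n : ℕ) : ∀ (X : Type u) [Group X] [Finite X], Nat.card X ≤ n → ∀ E : Sylow 2 X,
    Rt (E : Subgroup X) → Group.IsSolvable X := by
  induction n with
  | zero =>
    intro X _ _ h
    have := Nat.card_pos (α := X)
    omega
  | succ n ih =>
    intro X _ _ hX E hE
    have : Fact (Nat.Prime 2) := ⟨Nat.prime_two⟩
    by_cases hO : Cfsg.pPrimeCore 2 X = ⊥
    swap
    · apply solvable_of_quot_core
      have hlt := card_quot_lt hO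
      refine ih _ (by omega) (E.mapSurjective (QuotientGroup.mk'_surjective (Cfsg.pPrimeCore 2 X))) ?_
      rw [Sylow.coe_mapSurjective]
      apply hE.map
      intro a ha h1
      exact eq_one_of_mem_odd E.2 odd_pPrimeCore ha ((QuotientGroup.eq_one_iff a).1 h1)
    by_cases hEn : (E : Subgroup X).Normal
    · exact solvable_of_normal_sylow E hEn
    have hE1 : (E : Subgroup X) ≠ ⊥ := by
      intro h
      apply hEn
      rw [h]; infer_instance
    have hEc : IsMulCommutative ↥(E : Subgroup X) := ⟨⟨fun a b => Subtype.ext (hE.comm a a.2 b b.2)⟩⟩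
    -- the centre of the normalizer
    by_cases hC : (E : Subgroup X) ⊓ Subgroup.centralizer (Subgroup.normalizer (E : Set X) : Set X) = ⊥
    swap
    · obtain ⟨h1, h2⟩ := H31.abelian_hall_coprime (E : Subgroup X)
        (Subgroup.normalizer (E : Set X)) hEc E.card_coprime_index Subgroup.le_normalizer le_rfl
      have h3 := Transfer.inf_pResidual_eq_of_isMulCommutative E hEc
      set K := Cfsg.pResidual 2 X with hK
      have hKn : K.Normal := inferInstance
      have hKt : K ≠ ⊤ := by
        intro h
        apply hC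
        rw [h, inf_top_eq] at h3
        rw [← h3] at h1
        rw [eq_bot_iff, ← h1]
        exact le_inf le_rfl inf_le_left
      obtain ⟨T, hT⟩ := ZJ.exists_sylow_map_eq_inf E K
      have hRt : Rt (T : Subgroup K) := by
        apply Rt.of_map K.subtype K.subtype_injective
        rw [hT]
        refine ⟨fun a ha b hb => hE.comm a ha.1 b hb.1, fun a ha => hE.four a ha.1, ?_⟩
        intro a ha ha2
        obtain ⟨f, hf, hfa⟩ := hE.root a ha.1 ha2
        have hf' : f ∈ ((E : Subgroup X) ⊓ Subgroup.centralizer (Subgroup.normalizer (E : Set X) : Set X)) ⊔ K := by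
          have h5 : ((E : Subgroup X) ⊓ Subgroup.centralizer (Subgroup.normalizer (E : Set X) : Set X)) ⊔
            ⁅(E : Subgroup X), Subgroup.normalizer (E : Set X)⁆ ≤ ((E : Subgroup X) ⊓
              Subgroup.centralizer (Subgroup.normalizer (E : Set X) : Set X)) ⊔ K := by
            refine sup_le_sup_left ?_ _
            rw [← h3]
            exact inf_le_right
          exact h5 (by rw [h2]; exact hf)
        rw [← h3] at h1
        obtain ⟨x, hx, y, hyK, rfl⟩ := Subgroup.mem_sup_of_normal_right.1 hf'
        have hxE : x ∈ (E : Subgroup X) := (Subgroup.mem_inf.1 hx).1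
        have hyE : y ∈ (E : Subgroup X) := by
          have h6 : y = x⁻¹ * (x * y) := by group
          rw [h6]
          exact mul_mem (inv_mem hxE) hf
        have hy : y ∈ (E : Subgroup X) ⊓ K := Subgroup.mem_inf.2 ⟨hyE, hyK⟩
        have hxy : x * y = y * x := hE.comm x hxE y hyE
        have e1 : a = (x * x) * (y * y) := by
          rw [← hfa]
          calc x * y * (x * y) = x * (y * x) * y := by group
            _ = x * (x * y) * y := by rw [hxy]
            _ = _ := by group
        have e2 : x * x = a * (y * y)⁻¹ := by rw [e1]; group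
        have e3 : x * x = 1 := by
          have h5 : x * x ∈ ((E : Subgroup X) ⊓ Subgroup.centralizer (Subgroup.normalizer (E : Set X) : Set X)) ⊓
              ((E : Subgroup X) ⊓ K) := Subgroup.mem_inf.2 ⟨mul_mem hx hx, by
                rw [e2]; exact mul_mem ha (inv_mem (mul_mem hy hy))⟩
          rw [h1] at h5
          exact h5
        exact ⟨y, hy, by rw [e1, e3, one_mul]⟩
      have hKs : Group.IsSolvable K := ih _ (by have := card_lt_of_ne_top hKt; omega) T hRt
      have hQs : Group.IsSolvable (X ⧸ K) := by
        have h9 : IsPGroup 2 (X ⧸ K) := Transfer.isPGroup_quotient_pResidual (p := 2) (G := X)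
        have := h9.isNilpotent
        infer_instance
      exact Group.isSolvable_of_ker_le_range K.subtype (QuotientGroup.mk' K) (by
        rw [QuotientGroup.ker_mk', Subgroup.range_subtype])
    -- involution centralizers
    have hsol : ∀ t ∈ (E : Subgroup X), orderOf t = 2 → Group.IsSolvable ↥(Subgroup.centralizer ({t} : Set X)) := by
      intro t ht ht2
      have hEC : (E : Subgroup X) ≤ Subgroup.centralizer ({t} : Set X) := by
        intro a ha
        rw [Subgroup.mem_centralizer_singleton_iff]
        exact hE.comm a ha t ht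
      have hCt : Subgroup.centralizer ({t} : Set X) ≠ ⊤ := by
        intro h
        have h1 : t ∈ (E : Subgroup X) ⊓ Subgroup.centralizer (Subgroup.normalizer (E : Set X) : Set X) := by
          refine Subgroup.mem_inf.2 ⟨ht, ?_⟩
          rw [Subgroup.mem_centralizer_iff]
          intro g _
          exact Subgroup.mem_centralizer_singleton_iff.1 (by rw [h]; trivial)
        rw [hC, Subgroup.mem_bot] at h1
        rw [h1, orderOf_one] at ht2
        omega
      refine ih _ (by have := card_lt_of_ne_top hCt; omega) (E.subtype hEC) ?_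
      apply Rt.of_map _ (Subgroup.subtype_injective _)
      rw [Sylow.coe_subtype, Subgroup.map_subgroupOf_eq_of_le hEC]
      exact hE
    have hcc := centConstr_of_sylow E hsol
    set V : Subgroup X := H32.SFB.om (E : Subgroup X) hEc with hV
    have hVel : Cfsg.IsElementaryAbelian 2 V := H32.SFB.om_elem _ _
    have hVE : V ≤ (E : Subgroup X) := H32.SFB.om_le _ _
    have hEV : (E : Subgroup X) ≤ Subgroup.normalizer (V : Set X) :=
      Subgroup.le_normalizer.trans (H32.SFB.normalizer_om _ _)
    have hNV := H32.SFB.normalizer_om (E : Subgroup X) hEc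
    have hmemV : ∀ x, x ∈ V ↔ x ∈ (E : Subgroup X) ∧ x ^ 2 = 1 := fun x => Iff.rfl
    -- an involution
    obtain ⟨z, hz, hz2⟩ : ∃ z ∈ (E : Subgroup X), orderOf z = 2 := by
      have h1 : 2 ∣ Nat.card (E : Subgroup X) := by
        obtain ⟨k, hk⟩ := IsPGroup.iff_card.1 E.2
        rcases k with _ | k
        · rw [pow_zero, Subgroup.card_eq_one] at hk
          exact absurd hk hE1
        · rw [hk]; exact dvd_pow_self 2 (Nat.succ_ne_zero k)
      obtain ⟨x, hx⟩ := exists_prime_orderOf_dvd_card' 2 h1
      exact ⟨x, x.2, by rwa [Subgroup.orderOf_coe]⟩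
    have hz1 : z ≠ 1 := by rintro rfl; rw [orderOf_one] at hz2; omega
    have hzV : z ∈ V := (hmemV z).2 ⟨hz, by rw [← hz2]; exact pow_orderOf_eq_one z⟩
    -- a second involution
    obtain ⟨w, hw, hw1, hwz⟩ : ∃ w ∈ V, w ≠ 1 ∧ w ≠ z := by
      by_contra hcon
      push Not at hcon
      have h1 : z ∈ (E : Subgroup X) ⊓ Subgroup.centralizer (Subgroup.normalizer (E : Set X) : Set X) := by
        refine Subgroup.mem_inf.2 ⟨hz, ?_⟩
        rw [Subgroup.mem_centralizer_iff]
        intro g hg
        have h2 : g * z * g⁻¹ ∈ V := (Subgroup.mem_normalizer_iff.1 (hNV hg) z).1 hzV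
        have h3 := hcon _ h2 (by
          intro h
          apply hz1
          have : z = g⁻¹ * (g * z * g⁻¹) * g := by group
          rw [this, h]; group)
        calc g * z = g * z * g⁻¹ * g := by group
          _ = z * g := by rw [h3]
      rw [hC, Subgroup.mem_bot] at h1
      exact hz1 h1
    have hw2 : orderOf w = 2 := orderOf_eq_prime ((hmemV w).1 hw).2 hw1
    have hwE := ((hmemV w).1 hw).1
    by_cases hV8 : 8 ≤ Nat.card V
    · -- rank at least three
      have hCM : ∀ t ∈ (E : Subgroup X), orderOf t = 2 →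
          Subgroup.centralizer ({t} : Set X) ≤ Subgroup.normalizer ((E : Subgroup X) : Set X) := by
        intro t ht ht2
        have hEC : (E : Subgroup X) ≤ Subgroup.centralizer ({t} : Set X) := by
          intro a ha
          rw [Subgroup.mem_centralizer_singleton_iff]
          exact hE.comm a ha t ht
        have h1 := core_bot hcc hO E V hVE hVel hV8 hEV ht2
        have h2 := normal_of_comm (hsol t ht ht2) h1 (E.subtype hEC) (by
          intro a ha b hb
          exact Subtype.ext (hE.comm a ha b hb))
        have h3 : ((E.subtype hEC : Sylow 2 _) : Subgroup ↥(Subgroup.centralizer ({t} : Set X))).Normal := by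
          rw [h2]; infer_instance
        rw [Sylow.coe_subtype] at h3
        intro c hc
        rw [Subgroup.mem_normalizer_iff]
        intro y
        constructor
        · intro hy
          exact h3.conj_mem ⟨y, hEC hy⟩ hy ⟨c, hc⟩
        · intro hy
          have h4 := h3.conj_mem ⟨c * y * c⁻¹, hEC hy⟩ hy ⟨c, hc⟩⁻¹
          have h5 : c⁻¹ * (c * y * c⁻¹) * c⁻¹⁻¹ ∈ (E : Subgroup X) := h4
          have h6 : c⁻¹ * (c * y * c⁻¹) * c⁻¹⁻¹ = y := by group
          rwa [h6] at h5
      rcases se_or_top E le_rfl hCM hE1 with h | h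
      · exact absurd (Subgroup.normalizer_eq_top_iff.1 h) hEn
      · exfalso
        obtain ⟨L, -, -, hin, T, ⟨e⟩⟩ := se_sylow h E ⟨z, hz, w, hwE, hz2, hw2, hwz.symm, hE.comm z hz w hwE⟩
        have hcT : ∀ a b : (T : Subgroup L), a * b = b * a := by
          intro a b
          obtain ⟨a, rfl⟩ := e.surjective a
          obtain ⟨b, rfl⟩ := e.surjective b
          rw [← map_mul, ← map_mul]
          exact congrArg e (Subtype.ext (hE.comm a a.2 b b.2))
        have hcard := card_center_of_comm hcT
        rcases inList_sylow hin T with h1 | ⟨q, hq, h1, h2⟩ | ⟨F, i1, i2, k, hk, -, -, h1, h2⟩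
        · obtain ⟨f, hf, hfz⟩ := hE.root z hz (by rw [← pow_two, ← hz2]; exact pow_orderOf_eq_one z)
          have h3 := h1 (e ⟨f, hf⟩) (e ⟨f, hf⟩).2
          have h4 : e ⟨f, hf⟩ * e ⟨f, hf⟩ = 1 := Subtype.ext h3
          rw [← map_mul, map_eq_one_iff _ e.injective] at h4
          have h5 : f * f = 1 := congrArg Subtype.val h4
          rw [hfz] at h5
          exact hz1 h5
        · rw [hcard, h1] at h2
          nlinarith
        · rw [hcard, h1] at h2
          have h3 : 2 ≤ 2 ^ k := by
            calc 2 = 2 ^ 1 := by norm_num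
              _ ≤ 2 ^ k := Nat.pow_le_pow_right (by norm_num) (by omega)
          have h4 : 2 ^ k * 2 ≤ (2 ^ k) ^ 3 := by
            calc 2 ^ k * 2 ≤ 2 ^ k * (2 ^ k * 2 ^ k) := Nat.mul_le_mul_left _ (by nlinarith)
              _ = (2 ^ k) ^ 3 := by ring
          omega
    · -- rank two
      have hV4 : Nat.card V = 4 := by
        obtain ⟨k, hk⟩ := IsPGroup.iff_card.1 (E.2.to_le hVE)
        have h1 : 2 < Nat.card V := by
          by_contra hcon
          have h2 : ({1, z, w} : Set X) ⊆ (V : Set X) := by
            rintro x (rfl | rfl | rfl)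
            · exact one_mem V
            · exact hzV
            · exact hw
          have h3 := Set.ncard_le_ncard h2 (Set.toFinite _)
          have h4 : ({1, z, w} : Set X).ncard = 3 := by
            rw [Set.ncard_insert_of_notMem, Set.ncard_pair hwz.symm]
            rintro (h | h)
            · exact hz1 h.symm
            · exact hw1 h.symm
          have h5 : (V : Set X).ncard = Nat.card V := rfl
          omega
        rcases k with _ | _ | _ | k
        · rw [hk] at h1; norm_num at h1
        · rw [hk] at h1; norm_num at h1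
        · rw [hk]; norm_num
        · exfalso
          apply hV8
          rw [hk]
          calc 8 = 2 ^ 3 := by norm_num
            _ ≤ 2 ^ (k + 1 + 1 + 1) := Nat.pow_le_pow_right (by norm_num) (by omega)
      obtain ⟨e⟩ := exists_iso_four (E := ↥(E : Subgroup X)) (fun a b => Subtype.ext (hE.comm a a.2 b b.2))
        (fun a => Subtype.ext (hE.four a a.2))
        (fun a ha => by
          obtain ⟨b, hb, h1⟩ := hE.root a a.2 (congrArg Subtype.val ha)
          exact ⟨⟨b, hb⟩, Subtype.ext h1⟩)
        (by
          rw [← hV4]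
          apply Nat.card_congr
          exact
            { toFun := fun a => ⟨a.1, a.1.2, by
                have := congrArg Subtype.val a.2
                rw [pow_two]; exact this⟩
              invFun := fun a => ⟨⟨a.1, a.2.1⟩, Subtype.ext (by
                have := a.2.2
                rw [pow_two] at this; exact this)⟩
              left_inv := fun a => rfl
              right_inv := fun a => rfl })
      have h1 := BlkInd.homocyclic_main E 2 le_rfl e hO
      exact absurd h1.1 hEn

end Cfsg.Agent.JY.U
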