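import Mathlib
import Cfsg.Agent.JY.U3

/-! The centre of a 2-group of unitary type as a subgroup of the ambient group. -/

set_option autoImplicit false
set_option linter.all false

namespace Cfsg.Agent.JY.U

open Subgroup
open scoped Pointwise

universe u

section Zc

variable {G : Type*} [Group G]

/-- the centre of a subgroup -/
def zc (S : Subgroup G) : Subgroup G := (Subgroup.center ↥S).map S.subtype

theorem mem_zc {S : Subgroup G} {x : G} : x ∈ zc S ↔ x ∈ S ∧ ∀ s ∈ S, s * x = x * s := by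
  constructor
  · rintro ⟨y, hy, rfl⟩
    refine ⟨y.2, fun s hs => ?_⟩
    exact congrArg Subtype.val (Subgroup.mem_center_iff.1 hy ⟨s, hs⟩)
  · rintro ⟨h1, h2⟩
    refine ⟨⟨x, h1⟩, ?_, rfl⟩
    rw [SetLike.mem_coe, Subgroup.mem_center_iff]
    intro s
    exact Subtype.ext (h2 s s.2)

theorem zc_le (S : Subgroup G) : zc S ≤ S := fun _ h => (mem_zc.1 h).1

theorem mem_zc_coe {S : Subgroup G} (x : S) : (x : G) ∈ zc S ↔ x ∈ Subgroup.center S := by
  constructor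
  · rintro ⟨y, hy, hxy⟩
    rwa [← Subtype.ext (show (y : G) = x from hxy)]
  · intro h
    exact ⟨x, h, rfl⟩

variable {S : Subgroup G} (h : UT ↥S)
include h

theorem zc_inv {x : G} (hx : x ∈ S) : x * x = 1 ↔ x ∈ zc S := by
  rw [mem_zc_coe ⟨x, hx⟩, ← h.inv, Subtype.ext_iff]
  rfl

theorem zc_sq {x : G} (hx : x ∈ S) : x * x ∈ zc S := (mem_zc_coe (⟨x, hx⟩ * ⟨x, hx⟩)).2 (h.sq ⟨x, hx⟩)

theorem zc_comm {x a b : G} (hx : x ∈ S) (hxZ : x ∉ zc S) (ha : a ∈ S) (hb : b ∈ S) (hax : a * x = x * a)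
    (hbx : b * x = x * b) : a * b = b * a := by
  have := h.comm ⟨x, hx⟩ (by rwa [← mem_zc_coe]) ⟨a, ha⟩ ⟨b, hb⟩ (Subtype.ext hax) (Subtype.ext hbx)
  exact congrArg Subtype.val this

theorem zc_root {x c : G} (hx : x ∈ S) (hxZ : x ∉ zc S) (hc : c ∈ zc S) : ∃ y ∈ S, y * x = x * y ∧ y * y = c := by
  obtain ⟨y, h1, h2⟩ := h.root ⟨x, hx⟩ (by rwa [← mem_zc_coe]) ⟨c, zc_le _ hc⟩ (by rwa [← mem_zc_coe])
  exact ⟨y, y.2, congrArg Subtype.val h1, congrArg Subtype.val h2⟩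

theorem zc_card : 8 ≤ Nat.card (zc S) := by
  rw [zc, Subgroup.card_map_of_injective S.subtype_injective]
  exact h.card

theorem zc_nc : ∃ x ∈ S, x ∉ zc S := by
  obtain ⟨x, hx⟩ := h.nc
  exact ⟨x, x.2, by rwa [mem_zc_coe]⟩

theorem zc_der {x y : G} (hx : x ∈ S) (hy : y ∈ S) : x * y * x⁻¹ * y⁻¹ ∈ zc S := by
  have h1 := zc_sq h (mul_mem hx hy)
  have h2 := zc_sq h hx
  have h3 := zc_sq h hy
  have h4 : y⁻¹ * (x * x)⁻¹ = (x * x)⁻¹ * y⁻¹ := (mem_zc.1 (inv_mem h2)).2 _ (inv_mem hy)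
  have h5 : x * y * x⁻¹ * y⁻¹ = (x * y * (x * y)) * ((x * x)⁻¹ * (y * y)⁻¹) := by
    calc x * y * x⁻¹ * y⁻¹ = (x * y * (x * y)) * (y⁻¹ * (x * x)⁻¹) * y⁻¹ := by group
      _ = (x * y * (x * y)) * ((x * x)⁻¹ * y⁻¹) * y⁻¹ := by rw [h4]
      _ = _ := by group
  rw [h5]
  exact mul_mem h1 (mul_mem (inv_mem h2) (inv_mem h3))

theorem zc_mul_inv {c : G} (hc : c ∈ zc S) : c * c = 1 := (zc_inv h (zc_le _ hc)).2 hc

omit h in
theorem normalizer_le_zc : Subgroup.normalizer (S : Set G) ≤ Subgroup.normalizer (zc S : Set G) := by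
  have key : ∀ g ∈ Subgroup.normalizer (S : Set G), ∀ x ∈ zc S, g * x * g⁻¹ ∈ zc S := by
    intro g hg x hx
    rw [mem_zc] at hx ⊢
    refine ⟨(Subgroup.mem_normalizer_iff.1 hg x).1 hx.1, fun s hs => ?_⟩
    have h1 : g⁻¹ * s * g ∈ S := (Subgroup.mem_normalizer_iff''.1 hg s).1 hs
    have h2 := hx.2 _ h1
    calc s * (g * x * g⁻¹) = g * (g⁻¹ * s * g * x) * g⁻¹ := by group
      _ = g * (x * (g⁻¹ * s * g)) * g⁻¹ := by rw [h2]
      _ = _ := by group
  intro g hg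
  rw [Subgroup.mem_normalizer_iff]
  intro x
  refine ⟨key g hg x, fun hx => ?_⟩
  have h1 := key g⁻¹ (inv_mem hg) _ hx
  have h2 : g⁻¹ * (g * x * g⁻¹) * g⁻¹⁻¹ = x := by group
  rwa [h2] at h1

/-- centralizers of noncentral elements -/
theorem rt_centralizer {x : G} (hx : x ∈ S) (hxZ : x ∉ zc S) : Rt (S ⊓ Subgroup.centralizer ({x} : Set G)) where
  comm := fun a ha b hb => by
    rw [Subgroup.mem_inf, Subgroup.mem_centralizer_singleton_iff] at ha hb
    exact zc_comm h hx hxZ ha.1 hb.1 ha.2 hb.2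
  four := fun a ha => by
    rw [Subgroup.mem_inf] at ha
    have h1 := zc_mul_inv h (zc_sq h ha.1)
    rw [show (4 : ℕ) = 2 + 2 from rfl, pow_add, pow_two]
    exact h1
  root := fun a ha h1 => by
    rw [Subgroup.mem_inf] at ha
    obtain ⟨y, hy, h2, h3⟩ := zc_root h hx hxZ ((zc_inv h ha.1).1 h1)
    exact ⟨y, Subgroup.mem_inf.2 ⟨hy, Subgroup.mem_centralizer_singleton_iff.2 h2⟩, h3⟩

end Zc

section Cent

variable {G : Type u} [Group G] [Finite G]

theorem mem_sylow_of_central {C : Type*} [Group C] [Finite C] (D : Sylow 2 C) {x : C} (hx : ∃ k, orderOf x = 2 ^ k)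
    (hc : ∀ y : C, y * x = x * y) : x ∈ (D : Subgroup C) := by
  have : Fact (Nat.Prime 2) := ⟨Nat.prime_two⟩
  have h1 : IsPGroup 2 (Subgroup.zpowers x) := by
    rw [IsPGroup.iff_card]
    obtain ⟨k, hk⟩ := hx
    exact ⟨k, by rw [Nat.card_zpowers, hk]⟩
  have h2 : (Subgroup.zpowers x).Normal := by
    constructor
    rintro _ ⟨n, rfl⟩ g
    have h3 : g * x ^ n = x ^ n * g := ((show Commute g x from hc g).zpow_right n).eq
    exact ⟨n, by show x ^ n = g * x ^ n * g⁻¹; rw [h3]; group⟩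
  exact h1.le_sylow_of_normal D (Subgroup.mem_zpowers x)

/-- the Sylow 2-subgroups of `C(x)`, `x` a noncentral element of `S` -/
theorem sylow_centralizer (S : Sylow 2 G) (hS : UT ↥(S : Subgroup G)) {x : G} (hx : x ∈ (S : Subgroup G))
    (hxZ : x ∉ zc (S : Subgroup G)) {C : Subgroup G} (hC : C = Subgroup.centralizer ({x} : Set G)) (D : Sylow 2 ↥C) :
    Rt (D : Subgroup ↥C) ∧
      ∃ g : G, ∀ a ∈ (D : Subgroup ↥C), a * a = 1 → g * (a : G) * g⁻¹ ∈ zc (S : Subgroup G) := by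
  have : Fact (Nat.Prime 2) := ⟨Nat.prime_two⟩
  set D' : Subgroup G := (D : Subgroup C).map C.subtype with hD'
  have hD'p : IsPGroup 2 D' := D.2.map _
  obtain ⟨g, hg⟩ := H9.exists_conj_smul_le_sylow hD'p S
  have hmC : ∀ a : C, (a : G) * x = x * a := fun a =>
    Subgroup.mem_centralizer_singleton_iff.1 (by rw [← hC]; exact a.2)
  have hxC : x ∈ C := by rw [hC]; exact Subgroup.mem_centralizer_singleton_iff.2 rfl
  have hxord : ∃ k, orderOf x = 2 ^ k := by
    obtain ⟨k, hk⟩ := (IsPGroup.iff_orderOf.1 S.isPGroup') ⟨x, hx⟩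
    rw [Subgroup.orderOf_mk] at hk
    exact ⟨k, hk⟩
  have hxD : (⟨x, hxC⟩ : C) ∈ (D : Subgroup C) := by
    apply mem_sylow_of_central D
    · obtain ⟨k, hk⟩ := hxord
      exact ⟨k, by rw [Subgroup.orderOf_mk]; exact hk⟩
    · intro y
      exact Subtype.ext (hmC y)
  have hgS : ∀ a ∈ (D : Subgroup C), g * (a : G) * g⁻¹ ∈ (S : Subgroup G) := fun a ha =>
    H9.conj_smul_le_iff.1 hg a ⟨a, ha, rfl⟩
  set x' := g * x * g⁻¹ with hx'
  have hx'S : x' ∈ (S : Subgroup G) := hgS _ hxD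
  have hx'Z : x' ∉ zc (S : Subgroup G) := by
    intro h
    apply hxZ
    rw [← zc_inv hS hx'S] at h
    rw [← zc_inv hS hx]
    have h1 : x * x = g⁻¹ * (x' * x') * g := by rw [hx']; group
    rw [h1, h]; group
  -- the conjugate is the full centralizer
  have hfull : ∀ b ∈ (S : Subgroup G), b * x' = x' * b → ∃ a ∈ (D : Subgroup C), g * (a : G) * g⁻¹ = b := by
    set B : Subgroup G := ((S : Subgroup G) ⊓ Subgroup.centralizer ({x'} : Set G)).map
      (MulAut.conj g⁻¹).toMonoidHom with hB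
    have hBp : IsPGroup 2 B := (S.2.to_le inf_le_left).map _
    have hBC : B ≤ C := by
      rintro _ ⟨b, hb, rfl⟩
      have hb2 := Subgroup.mem_centralizer_singleton_iff.1 hb.2
      rw [hC, Subgroup.mem_centralizer_singleton_iff]
      show g⁻¹ * b * g⁻¹⁻¹ * x = x * (g⁻¹ * b * g⁻¹⁻¹)
      have e1 : x = g⁻¹ * x' * g := by rw [hx']; group
      calc g⁻¹ * b * g⁻¹⁻¹ * x = g⁻¹ * b * g⁻¹⁻¹ * (g⁻¹ * x' * g) := by rw [← e1]
        _ = g⁻¹ * (b * x') * g := by group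
        _ = g⁻¹ * (x' * b) * g := by rw [hb2]
        _ = (g⁻¹ * x' * g) * (g⁻¹ * b * g⁻¹⁻¹) := by group
        _ = _ := by rw [← e1]
    have hDB : (D : Subgroup C) ≤ B.subgroupOf C := by
      intro a ha
      refine ⟨g * a * g⁻¹, ⟨hgS a ha, ?_⟩, ?_⟩
      · show _ ∈ Subgroup.centralizer _
        rw [Subgroup.mem_centralizer_singleton_iff, hx']
        have h1 := hmC a
        calc g * (a : G) * g⁻¹ * (g * x * g⁻¹) = g * (a * x) * g⁻¹ := by group
          _ = g * (x * a) * g⁻¹ := by rw [h1]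
          _ = _ := by group
      · show g⁻¹ * (g * a * g⁻¹) * g⁻¹⁻¹ = (a : G)
        group
    have hDB' : B.subgroupOf C = (D : Subgroup C) :=
      D.3 (hBp.comap_of_injective C.subtype C.subtype_injective) hDB
    intro b hb hbx
    have h1 : g⁻¹ * b * g⁻¹⁻¹ ∈ B := ⟨b, ⟨hb, Subgroup.mem_centralizer_singleton_iff.2 hbx⟩, rfl⟩
    refine ⟨⟨g⁻¹ * b * g⁻¹⁻¹, hBC h1⟩, ?_, ?_⟩
    · rw [← hDB']
      exact h1
    · show g * (g⁻¹ * b * g⁻¹⁻¹) * g⁻¹ = b
      group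
  constructor
  · apply Rt.of_map ((MulAut.conj g).toMonoidHom.comp C.subtype) ((MulAut.conj g).injective.comp C.subtype_injective)
    have h1 : (D : Subgroup C).map ((MulAut.conj g).toMonoidHom.comp C.subtype) =
        (S : Subgroup G) ⊓ Subgroup.centralizer ({x'} : Set G) := by
      apply le_antisymm
      · rintro _ ⟨a, ha, rfl⟩
        refine Subgroup.mem_inf.2 ⟨hgS a ha, ?_⟩
        show g * (a : G) * g⁻¹ ∈ _
        rw [Subgroup.mem_centralizer_singleton_iff, hx']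
        have h1 := hmC a
        calc g * (a : G) * g⁻¹ * (g * x * g⁻¹) = g * (a * x) * g⁻¹ := by group
          _ = g * (x * a) * g⁻¹ := by rw [h1]
          _ = _ := by group
      · intro b hb
        obtain ⟨hb1, hb2⟩ := Subgroup.mem_inf.1 hb
        obtain ⟨a, ha, hab⟩ := hfull b hb1 (Subgroup.mem_centralizer_singleton_iff.1 hb2)
        exact ⟨a, ha, hab⟩
    rw [h1]
    exact rt_centralizer hS hx'S hx'Z
  · refine ⟨g, fun a ha h1 => ?_⟩
    rw [← zc_inv hS (hgS a ha)]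
    have h2 : (a : G) * a = 1 := congrArg Subtype.val h1
    calc g * (a : G) * g⁻¹ * (g * a * g⁻¹) = g * (a * a) * g⁻¹ := by group
      _ = 1 := by rw [h2]; group

theorem solvable_centralizer (S : Sylow 2 G) (hS : UT ↥(S : Subgroup G)) {x : G} (hx : x ∈ (S : Subgroup G))
    (hxZ : x ∉ zc (S : Subgroup G)) : Group.IsSolvable ↥(Subgroup.centralizer ({x} : Set G)) := by
  have : Fact (Nat.Prime 2) := ⟨Nat.prime_two⟩
  obtain ⟨D⟩ : Nonempty (Sylow 2 ↥(Subgroup.centralizer ({x} : Set G))) := inferInstance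
  exact rt_solvable _ _ le_rfl D (sylow_centralizer S hS hx hxZ rfl D).1

/-- no central involution -/
theorem se_no_central {Q : Type*} [Group Q] [Finite Q] {H : Subgroup Q} (hH : Cfsg.IsStronglyEmbedded H) {z : Q}
    (hz : orderOf z = 2) (hc : ∀ y : Q, y * z = z * y) : False := by
  obtain ⟨s, hs, hs2⟩ := StrEmb.exists_involution_mem hH
  obtain ⟨g, hg⟩ := isConj_iff.1 (StrEmb.isConj hH hs2 hz)
  have h1 : s = z := by
    have h2 : s = g⁻¹ * z * g := by rw [← hg]; group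
    rw [h2, mul_assoc, ← hc g]; group
  rw [h1] at hs
  apply hH.1
  rw [eq_top_iff]
  intro y _
  exact StrEmb.centralizer_le hH hz hs (Subgroup.mem_centralizer_singleton_iff.2 (hc y))

end Cent

end Cfsg.Agent.JY.U
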