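import Mathlib
import Cfsg.Agent.JY.U4
import Cfsg.Agent.Mdx.ZP1

/-! Centralizers in a quotient by a central 2-subgroup. -/

set_option autoImplicit false
set_option linter.all false

namespace Cfsg.Agent.JY.U

open Subgroup
open scoped Pointwise

universe u

variable {G : Type u} [Group G] (Z0 : Subgroup G) [hn : Z0.Normal]

/-- the preimage of the centralizer of the image -/
def Yx (x : G) : Subgroup G := (Subgroup.centralizer ({QuotientGroup.mk' Z0 x} : Set (G ⧸ Z0))).comap (QuotientGroup.mk' Z0)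

variable {Z0}

theorem mem_Yx {x g : G} : g ∈ Yx Z0 x ↔ g * x * g⁻¹ * x⁻¹ ∈ Z0 := by
  rw [Yx, Subgroup.mem_comap, Subgroup.mem_centralizer_singleton_iff, ← QuotientGroup.eq_one_iff]
  constructor
  · intro h
    have h1 : QuotientGroup.mk' Z0 (g * x * g⁻¹ * x⁻¹) = 1 := by
      rw [map_mul, map_mul, map_mul, h, map_inv, map_inv]
      group
    exact h1
  · intro h
    have h1 : QuotientGroup.mk' Z0 (g * x * g⁻¹ * x⁻¹) = 1 := h
    rw [map_mul, map_mul, map_mul, map_inv, map_inv] at h1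
    calc QuotientGroup.mk' Z0 g * QuotientGroup.mk' Z0 x
        = (QuotientGroup.mk' Z0 g * QuotientGroup.mk' Z0 x * (QuotientGroup.mk' Z0 g)⁻¹ *
          (QuotientGroup.mk' Z0 x)⁻¹) * (QuotientGroup.mk' Z0 x * QuotientGroup.mk' Z0 g) := by group
      _ = _ := by rw [h1, one_mul]

theorem cent_le_Yx (x : G) : Subgroup.centralizer ({x} : Set G) ≤ Yx Z0 x := by
  intro g hg
  rw [Subgroup.mem_centralizer_singleton_iff] at hg
  rw [mem_Yx, hg]
  have : x * g * g⁻¹ * x⁻¹ = 1 := by group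
  rw [this]
  exact one_mem _

variable (hZc : Z0 ≤ Subgroup.center G)
include hZc

theorem Yx_normalizer (x : G) : Yx Z0 x ≤ Subgroup.normalizer ((Subgroup.centralizer ({x} : Set G) : Subgroup G) : Set G) := by
  have key : ∀ g ∈ Yx Z0 x, ∀ c ∈ Subgroup.centralizer ({x} : Set G), g * c * g⁻¹ ∈ Subgroup.centralizer ({x} : Set G) := by
    intro g hg c hc
    have hz := mem_Yx.1 (inv_mem hg)
    set z := g⁻¹ * x * g⁻¹⁻¹ * x⁻¹ with hzd
    have hzc := Subgroup.mem_center_iff.1 (hZc hz)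
    rw [Subgroup.mem_centralizer_singleton_iff] at hc ⊢
    have e1 : g⁻¹ * x * g = z * x := by rw [hzd]; group
    calc g * c * g⁻¹ * x = g * (c * (g⁻¹ * x * g)) * g⁻¹ := by group
      _ = g * (c * (z * x)) * g⁻¹ := by rw [e1]
      _ = g * ((c * z) * x) * g⁻¹ := by group
      _ = g * (z * (c * x)) * g⁻¹ := by rw [hzc c]; group
      _ = g * (z * (x * c)) * g⁻¹ := by rw [hc]
      _ = g * ((z * x) * c) * g⁻¹ := by group
      _ = g * ((g⁻¹ * x * g) * c) * g⁻¹ := by rw [e1]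
      _ = x * (g * c * g⁻¹) := by group
  intro g hg
  rw [Subgroup.mem_normalizer_iff]
  intro c
  refine ⟨key g hg c, fun h => ?_⟩
  have h1 := key g⁻¹ (inv_mem hg) _ h
  have h2 : g⁻¹ * (g * c * g⁻¹) * g⁻¹⁻¹ = c := by group
  rwa [h2] at h1

theorem solvable_quot_cent {x : G} (h : Group.IsSolvable ↥(Subgroup.centralizer ({x} : Set G))) :
    Group.IsSolvable ↥(Subgroup.centralizer ({QuotientGroup.mk' Z0 x} : Set (G ⧸ Z0))) := by
  have hcomm : ∀ a b : Z0, a * b = b * a := fun a b =>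
    Subtype.ext ((Subgroup.mem_center_iff.1 (hZc b.2)) a)
  have hZs : Group.IsSolvable Z0 := Group.isSolvable_of_comm hcomm
  let θ : ↥(Yx Z0 x) →* Z0 :=
    { toFun := fun g => ⟨(g : G) * x * (g : G)⁻¹ * x⁻¹, mem_Yx.1 g.2⟩
      map_one' := by ext; simp
      map_mul' := fun g k => by
        ext
        show (g : G) * k * x * ((g : G) * k)⁻¹ * x⁻¹ = (g : G) * x * (g : G)⁻¹ * x⁻¹ * (k * x * (k : G)⁻¹ * x⁻¹)
        have h1 := Subgroup.mem_center_iff.1 (hZc (mem_Yx.1 k.2))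
        calc (g : G) * k * x * ((g : G) * k)⁻¹ * x⁻¹ = g * ((k : G) * x * (k : G)⁻¹ * x⁻¹) * (x * (g : G)⁻¹ * x⁻¹) := by group
          _ = ((k : G) * x * (k : G)⁻¹ * x⁻¹) * g * (x * (g : G)⁻¹ * x⁻¹) := by rw [h1 g]
          _ = ((k : G) * x * (k : G)⁻¹ * x⁻¹) * (g * x * (g : G)⁻¹ * x⁻¹) := by group
          _ = (g : G) * x * (g : G)⁻¹ * x⁻¹ * (k * x * (k : G)⁻¹ * x⁻¹) := by rw [← h1] }
  have hY : Group.IsSolvable ↥(Yx Z0 x) := by
    refine Group.isSolvable_of_ker_le_range (Subgroup.inclusion (cent_le_Yx (Z0 := Z0) x)) θ ?_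
    intro g hg
    rw [MonoidHom.mem_ker] at hg
    have h1 : (g : G) * x * (g : G)⁻¹ * x⁻¹ = 1 := congrArg Subtype.val hg
    refine ⟨⟨g, ?_⟩, rfl⟩
    rw [Subgroup.mem_centralizer_singleton_iff]
    calc (g : G) * x = ((g : G) * x * (g : G)⁻¹ * x⁻¹) * (x * g) := by group
      _ = x * g := by rw [h1, one_mul]
  let ψ : ↥(Yx Z0 x) →* ↥(Subgroup.centralizer ({QuotientGroup.mk' Z0 x} : Set (G ⧸ Z0))) :=
    { toFun := fun g => ⟨QuotientGroup.mk' Z0 g, g.2⟩
      map_one' := Subtype.ext (map_one (QuotientGroup.mk' Z0))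
      map_mul' := fun a b => Subtype.ext (map_mul (QuotientGroup.mk' Z0) (a : G) b) }
  refine Group.isSolvable_of_surjective (f := ψ) ?_
  rintro ⟨γ, hγ⟩
  obtain ⟨g, rfl⟩ := QuotientGroup.mk'_surjective _ γ
  exact ⟨⟨g, hγ⟩, rfl⟩

variable [Finite G]

/-- triviality of the odd core passes to the centralizer in `G` -/
theorem core_cent (hZ2 : IsPGroup 2 Z0) {x : G}
    (hO : Cfsg.pPrimeCore 2 ↥(Subgroup.centralizer ({QuotientGroup.mk' Z0 x} : Set (G ⧸ Z0))) = ⊥) :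
    Cfsg.pPrimeCore 2 ↥(Subgroup.centralizer ({x} : Set G)) = ⊥ := by
  have : Fact (Nat.Prime 2) := ⟨Nat.prime_two⟩
  set O : Subgroup G := SigO.Oq 2 (Subgroup.centralizer ({x} : Set G)) with hOd
  have hYO : Yx Z0 x ≤ Subgroup.normalizer (O : Set G) := (Yx_normalizer hZc x).trans (SigO.normalizer_le_Oq _)
  have hOC : O ≤ Subgroup.centralizer ({x} : Set G) := SigO.Oq_le _
  have hOodd : Odd (Nat.card O) := by
    rw [hOd, SigO.Oq, Subgroup.card_map_of_injective (Subgroup.subtype_injective _)]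
    exact odd_pPrimeCore
  set Cb := Subgroup.centralizer ({QuotientGroup.mk' Z0 x} : Set (G ⧸ Z0)) with hCb
  set K : Subgroup Cb := (O.map (QuotientGroup.mk' Z0)).subgroupOf Cb with hK
  have hKn : K.Normal := by
    constructor
    rintro ⟨_, hy⟩ ⟨o, ho, rfl⟩ ⟨γ, hγ⟩
    obtain ⟨g, rfl⟩ := QuotientGroup.mk'_surjective _ γ
    refine ⟨g * o * g⁻¹, (Subgroup.mem_normalizer_iff.1 (hYO hγ) o).1 ho, ?_⟩
    show QuotientGroup.mk' Z0 (g * o * g⁻¹) = QuotientGroup.mk' Z0 g * QuotientGroup.mk' Z0 o * (QuotientGroup.mk' Z0 g)⁻¹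
    rw [map_mul, map_mul, map_inv]
  have hOCb : O.map (QuotientGroup.mk' Z0) ≤ Cb := by
    rintro _ ⟨o, ho, rfl⟩
    exact cent_le_Yx (Z0 := Z0) x (hOC ho)
  have hKodd : Odd (Nat.card K) := by
    rw [hK, Nat.card_congr (Subgroup.subgroupOfEquivOfLe hOCb).toEquiv]
    exact hOodd.of_dvd_nat (Subgroup.card_map_dvd _ _)
  have hK1 : K ≤ Cfsg.pPrimeCore 2 Cb := Solv.le_pPrimeCore hKn (by
    rw [Nat.coprime_comm, Nat.coprime_two_left]; exact hKodd)
  rw [hO, le_bot_iff, hK, Subgroup.subgroupOf_eq_bot] at hK1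
  have hO1 : O = ⊥ := by
    rw [eq_bot_iff]
    intro o ho
    have h1 : QuotientGroup.mk' Z0 o = 1 := by
      have h2 := hK1.le_bot (Subgroup.mem_inf.2 ⟨⟨o, ho, rfl⟩, hOCb ⟨o, ho, rfl⟩⟩)
      exact h2
    exact eq_one_of_mem_odd hZ2 hOodd ((QuotientGroup.eq_one_iff o).1 h1) ho
  rw [hOd, SigO.Oq, Subgroup.map_eq_bot_iff_of_injective _ (Subgroup.subtype_injective _)] at hO1
  exact hO1

end Cfsg.Agent.JY.U
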