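import Mathlib
import Cfsg.Agent.JY.U5

/-! The main induction for groups with Sylow 2-subgroups of unitary type. -/

set_option autoImplicit false
set_option linter.all false

namespace Cfsg.Agent.JY.U

open Subgroup
open scoped Pointwise

universe u

/-- the conclusion for groups with trivial odd core -/
def MainConc (G : Type u) [Group G] [Finite G] : Prop :=
  ∀ S : Sylow 2 G, UT ↥(S : Subgroup G) → (S : Subgroup G).Normal ∨ ∃ H : Subgroup G, Cfsg.IsStronglyEmbedded H

section Tools

variable {G : Type u} [Group G] [Finite G]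

/-- quotient by an odd normal subgroup -/
theorem ut_quot (S : Sylow 2 G) (hS : UT ↥(S : Subgroup G)) (N : Subgroup G) [N.Normal] (hN : Odd (Nat.card N)) :
    UT ↥((S.mapSurjective (QuotientGroup.mk'_surjective N) : Sylow 2 (G ⧸ N)) : Subgroup (G ⧸ N)) := by
  have hinj : Function.Injective ((QuotientGroup.mk' N).comp (S : Subgroup G).subtype) := by
    rw [injective_iff_map_eq_one]
    rintro ⟨x, hx⟩ h1
    exact Subtype.ext (eq_one_of_mem_odd S.2 hN hx ((QuotientGroup.eq_one_iff x).1 h1))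
  refine UT.congr ((MonoidHom.ofInjective hinj).trans (MulEquiv.subgroupCongr ?_)) hS
  rw [Sylow.coe_mapSurjective, MonoidHom.range_comp, Subgroup.range_subtype]

theorem ut_subtype (S : Sylow 2 G) (hS : UT ↥(S : Subgroup G)) {C : Subgroup G} (hSC : (S : Subgroup G) ≤ C) :
    UT ↥((S.subtype hSC : Sylow 2 C) : Subgroup C) :=
  UT.congr (Subgroup.subgroupOfEquivOfLe hSC).symm hS

theorem orderOf_quot {Z0 : Subgroup G} [Z0.Normal] {x : G} (h1 : x ∉ Z0) (h2 : x * x ∈ Z0) :
    orderOf (QuotientGroup.mk' Z0 x) = 2 := by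
  have : Fact (Nat.Prime 2) := ⟨Nat.prime_two⟩
  apply orderOf_eq_prime
  · rw [← map_pow, pow_two]
    exact (QuotientGroup.eq_one_iff _).2 h2
  · intro h
    exact h1 ((QuotientGroup.eq_one_iff x).1 h)

/-- centralizers of the elements of `Z \ Z(G)` are solvable -/
theorem solvable_cent_Z (ih : ∀ (X : Type u) [Group X] [Finite X], Nat.card X < Nat.card G →
      Cfsg.pPrimeCore 2 X = ⊥ → MainConc X) (S : Sylow 2 G) (hS : UT ↥(S : Subgroup G)) {x : G}
    (hx : x ∈ zc (S : Subgroup G)) (hx1 : x ≠ 1) (hxc : x ∉ Subgroup.center G) :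
    Group.IsSolvable ↥(Subgroup.centralizer ({x} : Set G)) := by
  have : Fact (Nat.Prime 2) := ⟨Nat.prime_two⟩
  set C := Subgroup.centralizer ({x} : Set G) with hC
  have hCt : C ≠ ⊤ := by
    intro h
    apply hxc
    rw [Subgroup.mem_center_iff]
    intro g
    exact Subgroup.mem_centralizer_singleton_iff.1 (by rw [← hC, h]; trivial)
  have hSC : (S : Subgroup G) ≤ C := by
    intro s hs
    rw [hC, Subgroup.mem_centralizer_singleton_iff]
    exact (mem_zc.1 hx).2 s hs
  apply solvable_of_quot_core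
  set Q := C ⧸ Cfsg.pPrimeCore 2 C with hQ
  have hQc : Nat.card Q < Nat.card G := by
    have h1 := card_lt_of_ne_top hCt
    have h2 := (Cfsg.pPrimeCore 2 C).card_eq_card_quotient_mul_card_subgroup
    have h3 : 0 < Nat.card (Cfsg.pPrimeCore 2 C) := Nat.card_pos
    have h4 : Nat.card Q ≤ Nat.card C := by
      rw [h2]
      exact Nat.le_mul_of_pos_right _ h3
    omega
  have hxC : x ∈ C := hSC (zc_le _ hx)
  have hord : orderOf x = 2 := by
    apply orderOf_eq_prime _ hx1
    rw [pow_two]
    exact zc_mul_inv hS hx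
  rcases ih Q hQc (Solv.pPrimeCore_quotient_pPrimeCore 2) _
      (ut_quot (S.subtype hSC) (ut_subtype S hS hSC) (Cfsg.pPrimeCore 2 C) odd_pPrimeCore) with h | ⟨H, hH⟩
  · exact solvable_of_normal_sylow _ h
  · exfalso
    refine se_no_central hH (z := QuotientGroup.mk' (Cfsg.pPrimeCore 2 C) ⟨x, hxC⟩) ?_ ?_
    · apply orderOf_eq_prime
      · rw [← map_pow]
        have h1 : (⟨x, hxC⟩ : C) ^ 2 = 1 := Subtype.ext (by
          show x ^ 2 = 1
          rw [pow_two]; exact zc_mul_inv hS hx)
        rw [h1, map_one]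
      · intro h
        have h1 : (⟨x, hxC⟩ : C) ∈ Cfsg.pPrimeCore 2 C := (QuotientGroup.eq_one_iff _).1 h
        have h2 := eq_one_of_mem_odd (P := (S : Subgroup G).subgroupOf C) (S.2.comap_of_injective C.subtype C.subtype_injective)
          odd_pPrimeCore (show (⟨x, hxC⟩ : C) ∈ (S : Subgroup G).subgroupOf C from (mem_zc.1 hx).1) h1
        exact hx1 (congrArg Subtype.val h2)
    · intro y
      obtain ⟨c, rfl⟩ := QuotientGroup.mk'_surjective _ y
      rw [← map_mul, ← map_mul]
      congr 1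
      exact Subtype.ext (Subgroup.mem_centralizer_singleton_iff.1 c.2)

/-- centralizers of the elements of `Z \ Z(G)` with trivial core normalize `S` -/
theorem normal_cent_Z (ih : ∀ (X : Type u) [Group X] [Finite X], Nat.card X < Nat.card G →
      Cfsg.pPrimeCore 2 X = ⊥ → MainConc X) (S : Sylow 2 G) (hS : UT ↥(S : Subgroup G)) {x : G}
    (hx : x ∈ zc (S : Subgroup G)) (hx1 : x ≠ 1) (hxc : x ∉ Subgroup.center G)
    (hO : Cfsg.pPrimeCore 2 ↥(Subgroup.centralizer ({x} : Set G)) = ⊥) :
    Subgroup.normalizer ((Subgroup.centralizer ({x} : Set G) : Subgroup G) : Set G) ≤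
      Subgroup.normalizer ((S : Subgroup G) : Set G) := by
  have : Fact (Nat.Prime 2) := ⟨Nat.prime_two⟩
  have hCt : Subgroup.centralizer ({x} : Set G) ≠ ⊤ := by
    intro h
    apply hxc
    rw [Subgroup.mem_center_iff]
    intro g
    exact Subgroup.mem_centralizer_singleton_iff.1 (by rw [h]; trivial)
  have hSC : (S : Subgroup G) ≤ Subgroup.centralizer ({x} : Set G) := by
    intro s hs
    rw [Subgroup.mem_centralizer_singleton_iff]
    exact (mem_zc.1 hx).2 s hs
  have hxC := hSC (zc_le _ hx)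
  rcases ih _ (card_lt_of_ne_top hCt) hO (S.subtype hSC) (ut_subtype S hS hSC) with h | ⟨H, hH⟩
  · have h1 : ((S.subtype hSC : Sylow 2 _) : Subgroup ↥(Subgroup.centralizer ({x} : Set G))) = Cfsg.pCore 2 _ :=
      le_antisymm (Solv.le_pCore h (S.subtype hSC).2) (Solv.pCore_le_sylow _)
    have h2 : SigO.Op 2 (Subgroup.centralizer ({x} : Set G)) = (S : Subgroup G) := by
      rw [SigO.Op, ← h1, Sylow.coe_subtype, Subgroup.map_subgroupOf_eq_of_le hSC]
    have h3 := SigO.normalizer_le_Op (p := 2) (Subgroup.centralizer ({x} : Set G))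
    rwa [h2] at h3
  · exfalso
    refine se_no_central hH (z := ⟨x, hxC⟩) ?_ ?_
    · rw [Subgroup.orderOf_mk]
      apply orderOf_eq_prime _ hx1
      rw [pow_two]
      exact zc_mul_inv hS hx
    · intro y
      exact Subtype.ext (Subgroup.mem_centralizer_singleton_iff.1 y.2)

/-- centralizers of the elements of `S \ Z` with trivial core normalize `Z` -/
theorem normal_cent_S (S : Sylow 2 G) (hS : UT ↥(S : Subgroup G)) {x : G}
    (hx : x ∈ (S : Subgroup G)) (hxZ : x ∉ zc (S : Subgroup G))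
    (hO : Cfsg.pPrimeCore 2 ↥(Subgroup.centralizer ({x} : Set G)) = ⊥) :
    Subgroup.normalizer ((Subgroup.centralizer ({x} : Set G) : Subgroup G) : Set G) ≤
      Subgroup.normalizer (zc (S : Subgroup G) : Set G) := by
  have : Fact (Nat.Prime 2) := ⟨Nat.prime_two⟩
  obtain ⟨D⟩ : Nonempty (Sylow 2 ↥(Subgroup.centralizer ({x} : Set G))) := inferInstance
  obtain ⟨hRt, g, hg⟩ := sylow_centralizer S hS hx hxZ rfl D
  have h1 := normal_of_comm (solvable_centralizer S hS hx hxZ) hO D hRt.comm
  have h2 : SigO.Op 2 (Subgroup.centralizer ({x} : Set G)) =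
      (D : Subgroup ↥(Subgroup.centralizer ({x} : Set G))).map (Subgroup.subtype _) := by
    rw [SigO.Op, ← h1]
  have h3 := SigO.normalizer_le_Op (p := 2) (Subgroup.centralizer ({x} : Set G))
  rw [h2] at h3
  refine h3.trans ?_
  set D' : Subgroup G := (D : Subgroup ↥(Subgroup.centralizer ({x} : Set G))).map (Subgroup.subtype _) with hD'
  have hDn : (D : Subgroup ↥(Subgroup.centralizer ({x} : Set G))).Normal := by
    rw [h1]; infer_instance
  -- `Z ≤ D'`
  have hZD : zc (S : Subgroup G) ≤ D' := by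
    intro z hz
    have hzC : z ∈ Subgroup.centralizer ({x} : Set G) := by
      rw [Subgroup.mem_centralizer_singleton_iff]
      exact ((mem_zc.1 hz).2 x hx).symm
    have h4 : IsPGroup 2 ((zc (S : Subgroup G) ⊓ Subgroup.centralizer ({x} : Set G)).subgroupOf
        (Subgroup.centralizer ({x} : Set G))) :=
      ((S.2.to_le (zc_le _)).to_le inf_le_left).comap_of_injective _ (Subgroup.subtype_injective _)
    obtain ⟨D2, hD2⟩ := h4.exists_le_sylow
    have h5 : D2 = D := by
      obtain ⟨c, hc⟩ := MulAction.exists_smul_eq ↥(Subgroup.centralizer ({x} : Set G)) D D2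
      have h6 : c • D = D := Sylow.smul_eq_of_normal (h := hDn)
      rw [← hc, h6]
    have h7 : (⟨z, hzC⟩ : ↥(Subgroup.centralizer ({x} : Set G))) ∈
        (D : Subgroup ↥(Subgroup.centralizer ({x} : Set G))) := by
      rw [← h5]
      exact hD2 (Subgroup.mem_inf.2 ⟨hz, hzC⟩)
    exact ⟨_, h7, rfl⟩
  -- `Z` is the set of elements with `a * a = 1`
  have hA : ∀ a, a ∈ zc (S : Subgroup G) ↔ a ∈ D' ∧ a * a = 1 := by
    have hfin : ({a : G | a ∈ D' ∧ a * a = 1} : Set G).Finite := Set.toFinite _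
    have hsub : (zc (S : Subgroup G) : Set G) ⊆ {a : G | a ∈ D' ∧ a * a = 1} := fun a ha => ⟨hZD ha, zc_mul_inv hS ha⟩
    have hle : ({a : G | a ∈ D' ∧ a * a = 1} : Set G).ncard ≤ (zc (S : Subgroup G) : Set G).ncard := by
      apply Set.ncard_le_ncard_of_injOn (fun a => g * a * g⁻¹)
      · rintro a ⟨⟨b, hb, rfl⟩, ha⟩
        exact hg b hb (Subtype.ext ha)
      · intro a _ b _ hab
        exact mul_left_cancel (mul_right_cancel hab)
    have heq := Set.eq_of_subset_of_ncard_le hsub hle hfin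
    intro a
    have := Set.ext_iff.1 heq a
    exact this
  intro c hc
  rw [Subgroup.mem_normalizer_iff] at hc ⊢
  intro a
  rw [hA, hA, hc a]
  have h8 : a * a = 1 ↔ c * a * c⁻¹ * (c * a * c⁻¹) = 1 := by
    have e1 : c * a * c⁻¹ * (c * a * c⁻¹) = c * (a * a) * c⁻¹ := by group
    rw [e1]
    constructor
    · intro h; rw [h]; group
    · intro h
      have e2 : a * a = c⁻¹ * (c * (a * a) * c⁻¹) * c := by group
      rw [e2, h]; group
  rw [h8]

end Tools

end Cfsg.Agent.JY.U
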