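import Mathlib
import Cfsg.Agent.JY.U6

/-! The main theorem for groups with Sylow 2-subgroups of unitary type and trivial odd core. -/

set_option autoImplicit false
set_option linter.all false

namespace Cfsg.Agent.JY.U

open Subgroup
open scoped Pointwise

universe u

section W

variable {G : Type u} [Group G] {S Z0 : Subgroup G} {u : G}

/-- the elements of `C_S(u)` with square in `Z0` -/
def W1 (h : Rt (S ⊓ Subgroup.centralizer ({u} : Set G))) (Z0 : Subgroup G) : Subgroup G where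
  carrier := {w | w ∈ S ⊓ Subgroup.centralizer ({u} : Set G) ∧ w * w ∈ Z0}
  one_mem' := ⟨one_mem _, by rw [one_mul]; exact one_mem _⟩
  mul_mem' := by
    rintro a b ⟨ha, ha2⟩ ⟨hb, hb2⟩
    refine ⟨mul_mem ha hb, ?_⟩
    have e : a * b * (a * b) = (a * a) * (b * b) := by
      calc a * b * (a * b) = a * (b * a) * b := by group
        _ = a * (a * b) * b := by rw [h.comm b hb a ha]
        _ = _ := by group
    rw [e]
    exact mul_mem ha2 hb2
  inv_mem' := by
    rintro a ⟨ha, ha2⟩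
    refine ⟨inv_mem ha, ?_⟩
    have e : a⁻¹ * a⁻¹ = (a * a)⁻¹ := by group
    rw [e]
    exact inv_mem ha2

theorem mem_W1 {h : Rt (S ⊓ Subgroup.centralizer ({u} : Set G))} {w : G} :
    w ∈ W1 h Z0 ↔ w ∈ S ⊓ Subgroup.centralizer ({u} : Set G) ∧ w * w ∈ Z0 := Iff.rfl

variable (hS : UT ↥S) (hu : u ∈ S) (huZ : u ∉ zc S) (hZ0 : Z0 ≤ zc S)
include hS hu huZ hZ0

theorem zc_le_W1 (h : Rt (S ⊓ Subgroup.centralizer ({u} : Set G))) : zc S ≤ W1 h Z0 := by
  intro z hz
  refine ⟨Subgroup.mem_inf.2 ⟨zc_le _ hz, ?_⟩, ?_⟩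
  · rw [Subgroup.mem_centralizer_singleton_iff]
    exact ((mem_zc.1 hz).2 u hu).symm
  · rw [zc_mul_inv hS hz]; exact one_mem _

theorem W1_normal (h : Rt (S ⊓ Subgroup.centralizer ({u} : Set G))) :
    S ≤ Subgroup.normalizer (W1 h Z0 : Set G) := by
  have key : ∀ s ∈ S, ∀ w ∈ W1 h Z0, s * w * s⁻¹ ∈ W1 h Z0 := by
    intro s hs w hw
    have hwS : w ∈ S := (Subgroup.mem_inf.1 hw.1).1
    have h1 := zc_der hS hs hwS
    have e : s * w * s⁻¹ = (s * w * s⁻¹ * w⁻¹) * w := by group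
    rw [e]
    exact mul_mem (zc_le_W1 hS hu huZ hZ0 h h1) hw
  intro s hs
  rw [Subgroup.mem_normalizer_iff]
  intro w
  refine ⟨key s hs w, fun hw => ?_⟩
  have h1 := key s⁻¹ (inv_mem hs) _ hw
  have e : s⁻¹ * (s * w * s⁻¹) * s⁻¹⁻¹ = w := by group
  rwa [e] at h1

theorem card_W1 [Finite G] (h : Rt (S ⊓ Subgroup.centralizer ({u} : Set G))) [hn : Z0.Normal] :
    Nat.card ((W1 h Z0).map (QuotientGroup.mk' Z0)) = Nat.card (zc S) := by
  -- the squaring map
  let f : ↥(W1 h Z0) →* ↥Z0 :=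
    { toFun := fun w => ⟨(w : G) * w, w.2.2⟩
      map_one' := by ext; simp
      map_mul' := fun a b => by
        ext
        show (a : G) * b * (a * b) = a * a * (b * b)
        calc (a : G) * b * (a * b) = a * (b * a) * b := by group
          _ = a * (a * b) * b := by rw [h.comm b b.2.1 a a.2.1]
          _ = _ := by group }
  have hsurj : Function.Surjective f := by
    rintro ⟨c, hc⟩
    obtain ⟨y, hy, h1, h2⟩ := zc_root hS hu huZ (hZ0 hc)
    refine ⟨⟨y, ⟨Subgroup.mem_inf.2 ⟨hy, Subgroup.mem_centralizer_singleton_iff.2 h1⟩, ?_⟩⟩, ?_⟩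
    · rw [h2]; exact hc
    · exact Subtype.ext h2
  have hker : Nat.card f.ker = Nat.card (zc S) := by
    apply Nat.card_congr
    exact
      { toFun := fun w => ⟨w.1.1, (zc_inv hS (Subgroup.mem_inf.1 w.1.2.1).1).1 (congrArg Subtype.val w.2)⟩
        invFun := fun z => ⟨⟨z.1, zc_le_W1 hS hu huZ hZ0 h z.2⟩, Subtype.ext (zc_mul_inv hS z.2)⟩
        left_inv := fun w => rfl
        right_inv := fun z => rfl }
  have h1 : Nat.card f.ker * Nat.card Z0 = Nat.card (W1 h Z0) := by
    rw [← Subgroup.card_mul_index f.ker, Subgroup.index_ker, MonoidHom.range_eq_top.2 hsurj, Subgroup.card_top]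
  have h2 : Nat.card Z0 * Z0.relIndex (W1 h Z0) = Nat.card (W1 h Z0) := by
    rw [← Subgroup.relIndex_bot_left Z0, ← Subgroup.relIndex_bot_left (W1 h Z0),
      Subgroup.relIndex_mul_relIndex _ _ _ bot_le (hZ0.trans (zc_le_W1 hS hu huZ hZ0 h))]
  have h3 : Z0.relIndex (W1 h Z0) = Nat.card ((W1 h Z0).map (QuotientGroup.mk' Z0)) := by
    rw [← Subgroup.relIndex_ker, QuotientGroup.ker_mk']
  rw [hker] at h1
  rw [h3] at h2
  have h4 : 0 < Nat.card Z0 := Nat.card_pos
  have h5 : Nat.card Z0 * Nat.card ((W1 h Z0).map (QuotientGroup.mk' Z0)) = Nat.card Z0 * Nat.card (zc S) := by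
    rw [h2, ← h1, mul_comm]
  exact Nat.eq_of_mul_eq_mul_left h4 h5

theorem elem_W1 (h : Rt (S ⊓ Subgroup.centralizer ({u} : Set G))) [hn : Z0.Normal] :
    Cfsg.IsElementaryAbelian 2 ((W1 h Z0).map (QuotientGroup.mk' Z0)) := by
  refine ⟨⟨⟨?_⟩⟩, ?_⟩
  · rintro ⟨_, a, ha, rfl⟩ ⟨_, b, hb, rfl⟩
    apply Subtype.ext
    show QuotientGroup.mk' Z0 a * QuotientGroup.mk' Z0 b = QuotientGroup.mk' Z0 b * QuotientGroup.mk' Z0 a
    rw [← map_mul, ← map_mul, h.comm a ha.1 b hb.1]
  · rintro _ ⟨a, ha, rfl⟩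
    rw [← map_pow, pow_two]
    exact (QuotientGroup.eq_one_iff _).2 ha.2

end W

section More

variable {G : Type u} [Group G] [Finite G]

/-- one class of involutions in the quotient: equal squares -/
theorem sq_eq {Z0 : Subgroup G} [hn : Z0.Normal] (hZc : Z0 ≤ Subgroup.center G) (hZ2 : ∀ z ∈ Z0, z * z = 1)
    {H : Subgroup (G ⧸ Z0)} (hH : Cfsg.IsStronglyEmbedded H) {x y : G} (hx : x ∉ Z0) (hx2 : x * x ∈ Z0)
    (hy : y ∉ Z0) (hy2 : y * y ∈ Z0) : x * x = y * y := by
  obtain ⟨γ, hγ⟩ := isConj_iff.1 (StrEmb.isConj hH (orderOf_quot hx hx2) (orderOf_quot hy hy2))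
  obtain ⟨g, rfl⟩ := QuotientGroup.mk'_surjective _ γ
  have h1 : QuotientGroup.mk' Z0 (g * x * g⁻¹) = QuotientGroup.mk' Z0 y := by
    rw [map_mul, map_mul, map_inv]; exact hγ
  have h2 : y⁻¹ * (g * x * g⁻¹) ∈ Z0 := QuotientGroup.eq.1 h1.symm
  set z := y⁻¹ * (g * x * g⁻¹) with hz
  have hzc := Subgroup.mem_center_iff.1 (hZc h2)
  have hxc := Subgroup.mem_center_iff.1 (hZc hx2)
  calc x * x = g * (x * x) * g⁻¹ := by rw [hxc g]; group
    _ = (g * x * g⁻¹) * (g * x * g⁻¹) := by group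
    _ = (y * z) * (y * z) := by rw [hz]; group
    _ = y * (z * y) * z := by group
    _ = y * (y * z) * z := by rw [hzc y]
    _ = y * y * (z * z) := by group
    _ = y * y := by rw [hZ2 z h2, mul_one]

theorem cent_le_normalizer_of_comm (S : Sylow 2 G) (hcomm : ∀ a ∈ (S : Subgroup G), ∀ b ∈ (S : Subgroup G), a * b = b * a)
    {t : G} (ht : t ∈ (S : Subgroup G)) (hsol : Group.IsSolvable ↥(Subgroup.centralizer ({t} : Set G)))
    (hO : Cfsg.pPrimeCore 2 ↥(Subgroup.centralizer ({t} : Set G)) = ⊥) :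
    Subgroup.centralizer ({t} : Set G) ≤ Subgroup.normalizer ((S : Subgroup G) : Set G) := by
  have hEC : (S : Subgroup G) ≤ Subgroup.centralizer ({t} : Set G) := by
    intro a ha
    rw [Subgroup.mem_centralizer_singleton_iff]
    exact hcomm a ha t ht
  have h2 := normal_of_comm hsol hO (S.subtype hEC) (by
    intro a ha b hb
    exact Subtype.ext (hcomm a ha b hb))
  have h3 : SigO.Op 2 (Subgroup.centralizer ({t} : Set G)) = (S : Subgroup G) := by
    rw [SigO.Op, ← h2, Sylow.coe_subtype, Subgroup.map_subgroupOf_eq_of_le hEC]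
  have h4 := SigO.normalizer_le_Op (p := 2) (Subgroup.centralizer ({t} : Set G))
  rw [h3] at h4
  exact Subgroup.le_normalizer.trans h4

theorem le_sylow_of_normalizes (S : Sylow 2 G) {P : Subgroup G} (hP : IsPGroup 2 P)
    (h : P ≤ Subgroup.normalizer ((S : Subgroup G) : Set G)) : P ≤ (S : Subgroup G) := by
  have : Fact (Nat.Prime 2) := ⟨Nat.prime_two⟩
  have h1 : IsPGroup 2 (P ⊔ (S : Subgroup G) : Subgroup G) := hP.to_sup_of_normal_right' S.2 h
  have h2 := S.3 h1 le_sup_right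
  rw [← h2]
  exact le_sup_left

theorem mainConc (n : ℕ) : ∀ (G : Type u) [Group G] [Finite G], Nat.card G ≤ n → Cfsg.pPrimeCore 2 G = ⊥ →
    MainConc G := by
  induction n with
  | zero =>
    intro X _ _ h
    have := Nat.card_pos (α := X)
    omega
  | succ n ih₀ =>
    intro G _ _ hG hO S hS
    have ih : ∀ (X : Type u) [Group X] [Finite X], Nat.card X < Nat.card G →
      Cfsg.pPrimeCore 2 X = ⊥ → MainConc X := fun X _ _ hX hXO => ih₀ X (by omega) hXO
    have : Fact (Nat.Prime 2) := ⟨Nat.prime_two⟩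
    by_contra hcon
    push Not at hcon
    obtain ⟨hSn, hSE⟩ := hcon
    set Z : Subgroup G := zc (S : Subgroup G) with hZ
    set Z0 : Subgroup G := Z ⊓ Subgroup.center G with hZ0
    have hZ0Z : Z0 ≤ Z := inf_le_left
    have hZc : Z0 ≤ Subgroup.center G := inf_le_right
    have hZS : Z ≤ (S : Subgroup G) := zc_le _
    have hZ0S : Z0 ≤ (S : Subgroup G) := hZ0Z.trans hZS
    have hZ2 : IsPGroup 2 Z0 := S.2.to_le hZ0S
    have hn : Z0.Normal := by
      constructor
      intro z hz g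
      have h1 := Subgroup.mem_center_iff.1 (hZc hz) g
      rw [h1, mul_inv_cancel_right]
      exact hz
    have hsq1 : ∀ z ∈ Z, z * z = 1 := fun z hz => zc_mul_inv hS hz
    have hΓO : Cfsg.pPrimeCore 2 (G ⧸ Z0) = ⊥ := Mdx.ZP.core_quot_central hO hZc
    set Sb : Sylow 2 (G ⧸ Z0) := S.mapSurjective (QuotientGroup.mk'_surjective Z0) with hSb
    have hSbm : (Sb : Subgroup (G ⧸ Z0)) = (S : Subgroup G).map (QuotientGroup.mk' Z0) := Sylow.coe_mapSurjective _ _
    have hmk : ∀ x : G, QuotientGroup.mk' Z0 x ∈ (Sb : Subgroup (G ⧸ Z0)) ↔ x ∈ (S : Subgroup G) := by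
      intro x
      rw [hSbm]
      constructor
      · rintro ⟨s, hs, h⟩
        have h1 : s⁻¹ * x ∈ Z0 := QuotientGroup.eq.1 h
        have h2 : x = s * (s⁻¹ * x) := by group
        rw [h2]
        exact mul_mem hs (hZ0S h1)
      · intro h
        exact ⟨x, h, rfl⟩
    have hinv : ∀ t ∈ (Sb : Subgroup (G ⧸ Z0)), orderOf t = 2 →
        ∃ x ∈ (S : Subgroup G), QuotientGroup.mk' Z0 x = t ∧ x ∉ Z0 ∧ x * x ∈ Z0 := by
      intro t ht ht2
      obtain ⟨x, rfl⟩ := QuotientGroup.mk'_surjective _ t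
      refine ⟨x, (hmk x).1 ht, rfl, ?_, ?_⟩
      · intro h
        have h1 : QuotientGroup.mk' Z0 x = 1 := (QuotientGroup.eq_one_iff x).2 h
        rw [h1, orderOf_one] at ht2
        omega
      · apply (QuotientGroup.eq_one_iff (x * x)).1
        have h1 : (QuotientGroup.mk' Z0 x) ^ 2 = 1 := by rw [← ht2]; exact pow_orderOf_eq_one _
        rw [pow_two, ← map_mul] at h1
        exact h1
    have hZx : ∀ x ∈ Z, x ∉ Z0 → x ≠ 1 ∧ x ∉ Subgroup.center G := by
      intro x hx hx0
      refine ⟨?_, fun h => hx0 (Subgroup.mem_inf.2 ⟨hx, h⟩)⟩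
      rintro rfl
      exact hx0 (one_mem _)
    have hsol : ∀ t ∈ (Sb : Subgroup (G ⧸ Z0)), orderOf t = 2 →
        Group.IsSolvable ↥(Subgroup.centralizer ({t} : Set (G ⧸ Z0))) := by
      intro t ht ht2
      obtain ⟨x, hx, rfl, hx0, hx2⟩ := hinv t ht ht2
      apply solvable_quot_cent hZc
      by_cases hxZ : x ∈ Z
      · obtain ⟨h1, h2⟩ := hZx x hxZ hx0
        exact solvable_cent_Z ih S hS hxZ h1 h2
      · exact solvable_centralizer S hS hx hxZ
    have hcc := centConstr_of_sylow Sb hsol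
    obtain ⟨u, huS, huZ⟩ := zc_nc hS
    have hRt := rt_centralizer hS huS huZ
    have hVS : (W1 hRt Z0).map (QuotientGroup.mk' Z0) ≤ (Sb : Subgroup (G ⧸ Z0)) := by
      rintro _ ⟨w, hw, rfl⟩
      exact (hmk w).2 (Subgroup.mem_inf.1 hw.1).1
    have hV8 : 8 ≤ Nat.card ((W1 hRt Z0).map (QuotientGroup.mk' Z0)) := by
      rw [card_W1 hS huS huZ hZ0Z hRt]
      exact zc_card hS
    have hSV : (Sb : Subgroup (G ⧸ Z0)) ≤ Subgroup.normalizer
        (((W1 hRt Z0).map (QuotientGroup.mk' Z0) : Subgroup (G ⧸ Z0)) : Set (G ⧸ Z0)) := by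
      rw [hSbm]
      exact (Subgroup.map_mono (W1_normal hS huS huZ hZ0Z hRt)).trans (Subgroup.le_normalizer_map _)
    have hcore : ∀ t : G ⧸ Z0, orderOf t = 2 → Cfsg.pPrimeCore 2 ↥(Subgroup.centralizer ({t} : Set (G ⧸ Z0))) = ⊥ :=
      fun t ht => core_bot hcc hΓO Sb _ hVS (elem_W1 hS huS huZ hZ0Z hRt) hV8 hSV ht
    have hcoreG : ∀ x : G, x ∉ Z0 → x * x ∈ Z0 → Cfsg.pPrimeCore 2 ↥(Subgroup.centralizer ({x} : Set G)) = ⊥ :=
      fun x h1 h2 => core_cent hZc hZ2 (hcore _ (orderOf_quot h1 h2))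
    have hYZ : ∀ x ∈ Z, x ∉ Z0 → Yx Z0 x ≤ Subgroup.normalizer ((S : Subgroup G) : Set G) := by
      intro x hx hx0
      obtain ⟨h1, h2⟩ := hZx x hx hx0
      exact (Yx_normalizer hZc x).trans (normal_cent_Z ih S hS hx h1 h2
        (hcoreG x hx0 (by rw [hsq1 x hx]; exact one_mem _)))
    have hYS : ∀ x ∈ (S : Subgroup G), x ∉ Z → x * x ∈ Z0 → Yx Z0 x ≤ Subgroup.normalizer (Z : Set G) := by
      intro x hx hxZ hx2
      exact (Yx_normalizer hZc x).trans (normal_cent_S S hS hx hxZ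
        (hcoreG x (fun h => hxZ (hZ0Z h)) hx2))
    have hZ8 := zc_card hS
    have hSne : (S : Subgroup G) ≠ ⊥ := by
      intro h
      rw [← hZ] at hZ8
      have h1 : Z = ⊥ := by rw [eq_bot_iff, ← h]; exact hZS
      rw [h1, Subgroup.card_bot] at hZ8
      omega
    have hSbne : (Sb : Subgroup (G ⧸ Z0)) ≠ ⊥ := by
      intro h
      rw [h, le_bot_iff] at hVS
      rw [hVS, Subgroup.card_bot] at hV8
      omega
    have hroot : ∀ c ∈ Z, ∃ y ∈ (S : Subgroup G), y * y = c := by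
      intro c hc
      obtain ⟨y, hy, -, h⟩ := zc_root hS huS huZ hc
      exact ⟨y, hy, h⟩
    have hNq : ∀ g : G, QuotientGroup.mk' Z0 g ∈ Subgroup.normalizer ((Sb : Subgroup (G ⧸ Z0)) : Set (G ⧸ Z0)) →
        g ∈ Subgroup.normalizer ((S : Subgroup G) : Set G) := by
      intro g hg
      rw [Subgroup.mem_normalizer_iff] at hg ⊢
      intro x
      have h1 := hg (QuotientGroup.mk' Z0 x)
      rw [hmk x, ← map_inv, ← map_mul, ← map_mul, hmk] at h1
      exact h1
    by_cases hcase : Z ≤ Subgroup.center G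
    · -- `Z` is central
      have hZ0e : Z0 = Z := inf_eq_left.2 hcase
      have hcomm : ∀ a ∈ (Sb : Subgroup (G ⧸ Z0)), ∀ b ∈ (Sb : Subgroup (G ⧸ Z0)), a * b = b * a := by
        intro a ha b hb
        obtain ⟨x, rfl⟩ := QuotientGroup.mk'_surjective _ a
        obtain ⟨y, rfl⟩ := QuotientGroup.mk'_surjective _ b
        have h1 : x * y * x⁻¹ * y⁻¹ ∈ Z0 := by
          rw [hZ0e]
          exact zc_der hS ((hmk x).1 ha) ((hmk y).1 hb)
        have h2 : QuotientGroup.mk' Z0 (x * y * x⁻¹ * y⁻¹) = 1 := (QuotientGroup.eq_one_iff _).2 h1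
        rw [map_mul, map_mul, map_mul, map_inv, map_inv] at h2
        calc QuotientGroup.mk' Z0 x * QuotientGroup.mk' Z0 y
            = (QuotientGroup.mk' Z0 x * QuotientGroup.mk' Z0 y * (QuotientGroup.mk' Z0 x)⁻¹ *
              (QuotientGroup.mk' Z0 y)⁻¹) * (QuotientGroup.mk' Z0 y * QuotientGroup.mk' Z0 x) := by group
          _ = _ := by rw [h2, one_mul]
      rcases se_or_top Sb le_rfl (fun t ht ht2 => cent_le_normalizer_of_comm Sb hcomm ht (hsol t ht ht2) (hcore t ht2))
          hSbne with h | h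
      · apply hSn
        rw [← Subgroup.normalizer_eq_top_iff, eq_top_iff]
        intro g _
        apply hNq
        rw [h]; trivial
      · -- two elements with different squares
        obtain ⟨c1, hc1, c2, hc2, h1, h2, h12⟩ : ∃ c1 ∈ Z, ∃ c2 ∈ Z, c1 ≠ 1 ∧ c2 ≠ 1 ∧ c1 ≠ c2 := by
          have h3 : 2 < (Z : Set G).ncard := by
            have h9 : (Z : Set G).ncard = Nat.card (zc (S : Subgroup G)) := rfl
            rw [h9]
            omega
          obtain ⟨a, ha, b, hb, c, hc, hab, hac, hbc⟩ := (Set.two_lt_ncard_iff (Set.toFinite _)).1 h3 |>.elim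
            fun a h => h.elim fun b h => h.elim fun c h => (⟨a, h.1, b, h.2.1, c, h.2.2.1, h.2.2.2.1, h.2.2.2.2.1,
              h.2.2.2.2.2⟩ : ∃ a ∈ (Z : Set G), ∃ b ∈ (Z : Set G), ∃ c ∈ (Z : Set G), a ≠ b ∧ a ≠ c ∧ b ≠ c)
          by_cases ha1 : a = 1
          · exact ⟨b, hb, c, hc, fun h => hab (by rw [ha1, h]), fun h => hac (by rw [ha1, h]), hbc⟩
          · by_cases hb1 : b = 1
            · exact ⟨a, ha, c, hc, ha1, fun h => hbc (by rw [hb1, h]), hac⟩
            · exact ⟨a, ha, b, hb, ha1, hb1, hab⟩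
        obtain ⟨y1, hy1, h3⟩ := hroot c1 hc1
        obtain ⟨y2, hy2, h4⟩ := hroot c2 hc2
        have h5 : y1 ∉ Z0 := fun h => h1 (by rw [← h3]; exact hsq1 _ (hZ0Z h))
        have h6 : y2 ∉ Z0 := fun h => h2 (by rw [← h4]; exact hsq1 _ (hZ0Z h))
        apply h12
        rw [← h3, ← h4]
        exact sq_eq hZc (fun z hz => hsq1 z (hZ0Z hz)) h h5 (by rw [h3, hZ0e]; exact hc1) h6 (by rw [h4, hZ0e]; exact hc2)
    · -- `Z` is not central
      obtain ⟨z, hzZ, hzc⟩ := SetLike.not_le_iff_exists.1 hcase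
      have hz0 : z ∉ Z0 := fun h => hzc (hZc h)
      have hNSZ : Subgroup.normalizer ((S : Subgroup G) : Set G) ≤ Subgroup.normalizer (Z : Set G) := normalizer_le_zc
      have hM : Subgroup.normalizer (Z : Set G) = ⊤ := by
        by_cases hZ01 : Z0 = ⊥
        · rcases se_or_top S hNSZ (by
            intro t ht ht2
            have h1 : t * t = 1 := by rw [← pow_two, ← ht2]; exact pow_orderOf_eq_one t
            have h2 : t ∈ Z := (zc_inv hS ht).1 h1
            have h3 : t ∉ Z0 := by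
              rw [hZ01, Subgroup.mem_bot]
              rintro rfl
              rw [orderOf_one] at ht2
              omega
            exact ((cent_le_Yx (Z0 := Z0) t).trans (hYZ t h2 h3)).trans hNSZ) hSne with h | h
          · exact h
          · exact absurd h (hSE _)
        · have hZM : Z0 ≤ Subgroup.normalizer (Z : Set G) := by
            intro c hc
            rw [Subgroup.mem_normalizer_iff]
            intro x
            have h1 := Subgroup.mem_center_iff.1 (hZc hc) x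
            rw [← h1, mul_inv_cancel_right]
          rcases se_or_top Sb (M := (Subgroup.normalizer (Z : Set G)).map (QuotientGroup.mk' Z0)) (by
            intro γ hγ
            obtain ⟨g, rfl⟩ := QuotientGroup.mk'_surjective _ γ
            exact ⟨g, hNSZ (hNq g hγ), rfl⟩) (by
            intro t ht ht2 γ hγ
            obtain ⟨x, hx, rfl, hx0, hx2⟩ := hinv t ht ht2
            obtain ⟨g, rfl⟩ := QuotientGroup.mk'_surjective _ γ
            refine ⟨g, ?_, rfl⟩
            by_cases hxZ : x ∈ Z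
            · exact hNSZ (hYZ x hxZ hx0 hγ)
            · exact hYS x hx hxZ hx2 hγ) hSbne with h | h
          · rw [eq_top_iff]
            intro g _
            have h1 : QuotientGroup.mk' Z0 g ∈ (Subgroup.normalizer (Z : Set G)).map (QuotientGroup.mk' Z0) := by
              rw [h]; trivial
            obtain ⟨m, hm, hmg⟩ := h1
            have h2 : m⁻¹ * g ∈ Z0 := QuotientGroup.eq.1 hmg
            have h3 : g = m * (m⁻¹ * g) := by group
            rw [h3]
            exact mul_mem hm (hZM h2)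
          · exfalso
            obtain ⟨c, hc, hc1⟩ : ∃ c, c ∈ Z0 ∧ c ≠ 1 := by
              by_contra h9
              push Not at h9
              exact hZ01 ((Subgroup.eq_bot_iff_forall _).2 h9)
            obtain ⟨y, hy, h3⟩ := hroot c (hZ0Z hc)
            have h5 : y ∉ Z0 := fun h => hc1 (by rw [← h3]; exact hsq1 _ (hZ0Z h))
            have h6 := sq_eq hZc (fun z hz => hsq1 z (hZ0Z hz)) h hz0 (by rw [hsq1 z hzZ]; exact one_mem _) h5
              (by rw [h3]; exact hc)
            rw [hsq1 z hzZ, h3] at h6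
            exact hc1 h6.symm
      -- conclude
      apply hSn
      have hCz : Subgroup.centralizer (Z : Set G) ≤ Subgroup.normalizer ((S : Subgroup G) : Set G) := by
        refine le_trans ?_ ((cent_le_Yx (Z0 := Z0) z).trans (hYZ z hzZ hz0))
        intro g hg
        rw [Subgroup.mem_centralizer_singleton_iff]
        exact (Subgroup.mem_centralizer_iff.1 hg z hzZ).symm
      have hconj : ∀ g : G, ∀ s ∈ (S : Subgroup G), g * s * g⁻¹ ∈ (S : Subgroup G) := by
        intro g
        have hP : (S : Subgroup G).map (MulAut.conj g).toMonoidHom ≤ Subgroup.normalizer ((S : Subgroup G) : Set G) := by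
          rintro _ ⟨s, hs, rfl⟩
          apply hCz
          rw [Subgroup.mem_centralizer_iff]
          intro y hy
          show y * (g * s * g⁻¹) = g * s * g⁻¹ * y
          have h1 : g⁻¹ ∈ Subgroup.normalizer (Z : Set G) := by rw [hM]; trivial
          have h2 : g⁻¹ * y * g⁻¹⁻¹ ∈ Z := (Subgroup.mem_normalizer_iff.1 h1 y).1 hy
          have h3 := (mem_zc.1 h2).2 s hs
          calc y * (g * s * g⁻¹) = g * (g⁻¹ * y * g⁻¹⁻¹ * s) * g⁻¹ := by group
            _ = g * (s * (g⁻¹ * y * g⁻¹⁻¹)) * g⁻¹ := by rw [h3]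
            _ = _ := by group
        have h4 := le_sylow_of_normalizes S (S.2.map _) hP
        intro s hs
        exact h4 ⟨s, hs, rfl⟩
      exact ⟨fun s hs g => hconj g s hs⟩

end More

end Cfsg.Agent.JY.U
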