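import Mathlib
import Cfsg.Agent.JY.U7
import Cfsg.Agent.ClassBase.RelHom
import Cfsg.Agent.H30.PLenMore

/-! Groups with Sylow 2-subgroups of the type of `PSU₃(2ⁿ)`, `n ≥ 3` (Collins). -/

set_option autoImplicit false
set_option linter.all false

namespace Cfsg.Agent.JY.U

open Subgroup Matrix Cfsg

universe u v

theorem su_key {F F' : Type*} [Field F] [Field F'] (n q : ℕ) (e : F ≃+* F') (g : Matrix.SpecialLinearGroup (Fin n) F)
    (hg : g ∈ SU n F q) : Cfsg.Agent.ClassBase.slCongr e g ∈ SU n F' q := by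
  intro u v
  have h1 := hg (fun i => e.symm (u i)) (fun i => e.symm (v i))
  have h2 : ∀ w : Fin n → F', (slToMat n F' (Cfsg.Agent.ClassBase.slCongr e g)) *ᵥ w =
      fun i => e (((slToMat n F g) *ᵥ (fun i => e.symm (w i))) i) := by
    intro w
    funext i
    change ∑ j, e (g i j) * w j = e (∑ j, g i j * e.symm (w j))
    rw [map_sum]
    refine Finset.sum_congr rfl fun j _ => ?_
    rw [map_mul, e.apply_symm_apply]
  rw [h2, h2]
  have h3 := congrArg e h1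
  rw [hermForm, hermForm, map_sum, map_sum] at h3
  simp only [map_mul, map_pow, RingEquiv.apply_symm_apply] at h3
  exact h3

/-- Transport of `SU` along a ring isomorphism. -/
noncomputable def suCongr {F F' : Type*} [Field F] [Field F'] (n q : ℕ) (e : F ≃+* F') : SU n F q ≃* SU n F' q where
  toFun := fun g => ⟨Cfsg.Agent.ClassBase.slCongr e g, su_key n q e g g.2⟩
  invFun := fun g => ⟨Cfsg.Agent.ClassBase.slCongr e.symm g, su_key n q e.symm g g.2⟩
  left_inv := fun g => Subtype.ext ((Cfsg.Agent.ClassBase.slCongr e).symm_apply_apply _)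
  right_inv := fun g => Subtype.ext ((Cfsg.Agent.ClassBase.slCongr e).apply_symm_apply _)
  map_mul' := fun g h => Subtype.ext (map_mul _ _ _)

noncomputable def psuCongr {F F' : Type*} [Field F] [Field F'] (n q : ℕ) (e : F ≃+* F') : PSU n F q ≃* PSU n F' q :=
  Cfsg.Agent.ClassBase.quotCenterCongr (suCongr n q e)

/-- **Collins**: Sylow 2-subgroups of the type of `PSU₃(2ⁿ)` -/
theorem collins {G : Type u} [Group G] [Finite G]
    (n : ℕ) (hn : 3 ≤ n) {F : Type v} [Field F] [Fintype F] (hF : Fintype.card F = 4 ^ n)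
    (S : Sylow 2 G) (P : Sylow 2 (Cfsg.PSU 3 F (2 ^ n)))
    (hS : Nonempty (↥(S : Subgroup G) ≃* ↥(P : Subgroup (Cfsg.PSU 3 F (2 ^ n))))) :
    (Group.IsSolvable G ∧ Cfsg.PLengthLE 2 1 G) ∨
      ∃ N : Subgroup (G ⧸ Cfsg.oddCore G), N.Normal ∧ Odd N.index ∧ Nonempty (↥N ≃* Cfsg.PSU 3 F (2 ^ n)) := by
  classical
  have : Fact (Nat.Prime 2) := ⟨Nat.prime_two⟩
  have hF2 : Fintype.card F = (2 ^ n) ^ 2 := by rw [hF, ← pow_mul, mul_comm n 2, pow_mul]; norm_num
  obtain ⟨e⟩ := hS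
  have hUT : UT ↥(S : Subgroup G) := (ut_of_psu hn hF2 P).congr e.symm
  set SQ : Sylow 2 (G ⧸ Cfsg.pPrimeCore 2 G) := S.mapSurjective (QuotientGroup.mk'_surjective (Cfsg.pPrimeCore 2 G)) with hSQ
  have hUQ : UT ↥(SQ : Subgroup (G ⧸ Cfsg.pPrimeCore 2 G)) := ut_quot S hUT (Cfsg.pPrimeCore 2 G) odd_pPrimeCore
  have hOQ : Cfsg.pPrimeCore 2 (G ⧸ Cfsg.pPrimeCore 2 G) = ⊥ := Solv.pPrimeCore_quotient_pPrimeCore 2
  rcases mainConc _ (G ⧸ Cfsg.pPrimeCore 2 G) le_rfl hOQ SQ hUQ with h | ⟨H, hH⟩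
  · left
    refine ⟨solvable_of_quot_core (solvable_of_normal_sylow SQ h), ?_⟩
    apply H30.pLengthLE_one_of_index
    have h1 : (Cfsg.pPrimePCore 2 G).index = (SQ : Subgroup (G ⧸ Cfsg.pPrimeCore 2 G)).index := by
      have h2 : (SQ : Subgroup (G ⧸ Cfsg.pPrimeCore 2 G)) = Cfsg.pCore 2 (G ⧸ Cfsg.pPrimeCore 2 G) :=
        le_antisymm (Solv.le_pCore h SQ.2) (Solv.pCore_le_sylow _)
      rw [h2, Cfsg.pPrimePCore, Subgroup.index_comap_of_surjective _ (QuotientGroup.mk'_surjective _)]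
    rw [h1, Nat.coprime_comm, Nat.Prime.coprime_iff_not_dvd Nat.prime_two]
    exact SQ.not_dvd_index
  · right
    -- two commuting involutions
    have h2 : ∃ a ∈ (SQ : Subgroup (G ⧸ Cfsg.pPrimeCore 2 G)), ∃ b ∈ (SQ : Subgroup (G ⧸ Cfsg.pPrimeCore 2 G)),
        orderOf a = 2 ∧ orderOf b = 2 ∧ a ≠ b ∧ a * b = b * a := by
      have h3 : 2 < (zc (SQ : Subgroup (G ⧸ Cfsg.pPrimeCore 2 G)) : Set (G ⧸ Cfsg.pPrimeCore 2 G)).ncard := by
        have h9 : (zc (SQ : Subgroup (G ⧸ Cfsg.pPrimeCore 2 G)) : Set (G ⧸ Cfsg.pPrimeCore 2 G)).ncard =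
          Nat.card (zc (SQ : Subgroup (G ⧸ Cfsg.pPrimeCore 2 G))) := rfl
        have h8 := zc_card hUQ
        rw [h9]
        omega
      have hord : ∀ a ∈ zc (SQ : Subgroup (G ⧸ Cfsg.pPrimeCore 2 G)), a ≠ 1 → orderOf a = 2 := by
        intro a ha ha1
        apply orderOf_eq_prime _ ha1
        rw [pow_two]; exact zc_mul_inv hUQ ha
      obtain ⟨a, b, c, ha, hb, hc, hab, hac, hbc⟩ := (Set.two_lt_ncard_iff (Set.toFinite _)).1 h3
      have key : ∀ a ∈ zc (SQ : Subgroup (G ⧸ Cfsg.pPrimeCore 2 G)), ∀ b ∈ zc (SQ : Subgroup (G ⧸ Cfsg.pPrimeCore 2 G)),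
          a ≠ 1 → b ≠ 1 → a ≠ b → ∃ a ∈ (SQ : Subgroup (G ⧸ Cfsg.pPrimeCore 2 G)), ∃ b ∈ (SQ : Subgroup (G ⧸ Cfsg.pPrimeCore 2 G)),
          orderOf a = 2 ∧ orderOf b = 2 ∧ a ≠ b ∧ a * b = b * a := by
        intro a ha b hb ha1 hb1 hab
        exact ⟨a, zc_le _ ha, b, zc_le _ hb, hord a ha ha1, hord b hb hb1, hab, (mem_zc.1 hb).2 a (zc_le _ ha)⟩
      by_cases ha1 : a = 1
      · exact key b hb c hc (fun h => hab (by rw [ha1, h])) (fun h => hac (by rw [ha1, h])) hbc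
      · by_cases hb1 : b = 1
        · exact key a ha c hc ha1 (fun h => hbc (by rw [hb1, h])) hac
        · exact key a ha b hb ha1 hb1 hab
    obtain ⟨L, hL, hodd, hin, T, ⟨f⟩⟩ := se_sylow hH SQ h2
    -- the orders
    have hUTT : UT ↥(T : Subgroup L) := hUQ.congr f
    have hSQe : Nonempty (↥(S : Subgroup G) ≃* ↥(SQ : Subgroup (G ⧸ Cfsg.pPrimeCore 2 G))) := by
      have hinj : Function.Injective ((QuotientGroup.mk' (Cfsg.pPrimeCore 2 G)).comp (S : Subgroup G).subtype) := by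
        rw [injective_iff_map_eq_one]
        rintro ⟨x, hx⟩ h1
        exact Subtype.ext (eq_one_of_mem_odd S.2 odd_pPrimeCore hx ((QuotientGroup.eq_one_iff x).1 h1))
      exact ⟨(MonoidHom.ofInjective hinj).trans (MulEquiv.subgroupCongr (by
        rw [hSQ, Sylow.coe_mapSurjective, MonoidHom.range_comp, Subgroup.range_subtype]))⟩
    obtain ⟨f0⟩ := hSQe
    obtain ⟨hP3, hPc, -⟩ := S1141.result (by omega) hF2 P
    have g : ↥(P : Subgroup (Cfsg.PSU 3 F (2 ^ n))) ≃* ↥(T : Subgroup L) := (e.symm.trans f0).trans f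
    have hT3 : Nat.card T = (2 ^ n) ^ 3 := by rw [← hP3]; exact (Nat.card_congr g.toEquiv).symm
    have hTc : Nat.card (Subgroup.center ↥(T : Subgroup L)) = 2 ^ n := by
      rw [← hPc]; exact (card_center_congr g).symm
    have h2n : 2 ≤ 2 ^ n := by
      calc 2 = 2 ^ 1 := by norm_num
        _ ≤ 2 ^ n := Nat.pow_le_pow_right (by norm_num) (by omega)
    rcases inList_sylow hin T with h1 | ⟨q, hq, h1, h3⟩ | ⟨F', i1, i2, k, hk, hc', ⟨φ⟩, h1, h3⟩
    · exfalso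
      obtain ⟨x, hx⟩ := hUTT.nc
      exact hx ((hUTT.inv x).1 (Subtype.ext (h1 x x.2)))
    · exfalso
      rw [hTc] at h3
      rw [hT3, ← h3] at h1
      have h4 : (2 ^ n) ^ 2 < (2 ^ n) ^ 3 := Nat.pow_lt_pow_right (by omega) (by norm_num)
      omega
    · have hkn : 2 ^ k = 2 ^ n := by rw [← h3, hTc]
      have hkn' : k = n := Nat.pow_right_injective le_rfl hkn
      subst hkn'
      let ρ : F' ≃+* F := FiniteField.ringEquivOfCardEq (hc'.trans hF2.symm)
      have φ2 : L ≃* Cfsg.PSU 3 F (2 ^ k) := φ.trans (psuCongr 3 (2 ^ k) ρ)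
      -- pull back to `Q`
      set mkQ := QuotientGroup.mk' (Cfsg.pPrimeCore 2 (G ⧸ Cfsg.pPrimeCore 2 G)) with hmkQ
      have hsurj : Function.Surjective mkQ := QuotientGroup.mk'_surjective _
      have hinj : Function.Injective mkQ := by
        rw [← MonoidHom.ker_eq_bot_iff, hmkQ, QuotientGroup.ker_mk', hOQ]
      refine ⟨L.comap mkQ, inferInstance, ?_, ⟨?_⟩⟩
      · rw [Subgroup.index_comap_of_surjective _ hsurj]
        exact hodd
      · have e1 : ↥(L.comap mkQ) ≃* ↥((L.comap mkQ).map mkQ) := (L.comap mkQ).equivMapOfInjective mkQ hinj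
        have e2 : (L.comap mkQ).map mkQ = L := Subgroup.map_comap_eq_self_of_surjective hsurj L
        exact (e1.trans (MulEquiv.subgroupCongr e2)).trans φ2

end Cfsg.Agent.JY.U
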