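import Cfsg.Agent.H33.PairCount
import Cfsg.Agent.H33.CycStruct

/-!
# The principal `3`-block of a group whose Sylow `3`-subgroup has order `3` and is inverted
-/

set_option autoImplicit false
set_option linter.style.haveILetI false
set_option linter.unusedSectionVars false

namespace Cfsg.Agent.JY.V1

open scoped ComplexConjugate
open Cfsg Cfsg.Agent.CharBase Cfsg.Agent.Blk

universe u

theorem int_value3 {G : Type u} [Group G] [Finite G] {χ : G → ℂ} (hχ : IsCharacter G χ) {w : G}
    (h3 : orderOf w = 3) (hr : conj (χ w) = χ w) : ∃ c : ℤ, χ w = c := by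
  obtain ⟨n, ρ, rfl⟩ := hχ
  obtain ⟨s, -, hs, hsum⟩ := exists_roots_of_isCharacter ρ w
  rw [h3] at hs
  set ω : ℂ := ⟨-1/2, Real.sqrt 3 / 2⟩ with hω
  have hs3 : Real.sqrt 3 * Real.sqrt 3 = 3 := Real.mul_self_sqrt (by norm_num)
  have hω2 : ω ^ 2 + ω + 1 = 0 := by
    apply Complex.ext
    · simp [hω, pow_two]
      nlinarith [hs3]
    · simp [hω, pow_two]
      ring
  have key : ∀ s : Multiset ℂ, (∀ x ∈ s, x ^ 3 = 1) →
      ∃ m k : ℤ, s.sum = m + k * ω := by
    intro s
    induction s using Multiset.induction_on with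
    | empty => intro _; exact ⟨0, 0, by simp⟩
    | cons a s ih =>
      intro h
      obtain ⟨m, k, hmk⟩ := ih (fun x hx => h x (Multiset.mem_cons_of_mem hx))
      rw [Multiset.sum_cons, hmk]
      have ha := h a (Multiset.mem_cons_self a s)
      have h1 : (a - 1) * ((a - ω) * (a + 1 + ω)) = 0 := by
        linear_combination ha - (a - 1) * hω2
      rcases mul_eq_zero.1 h1 with h2 | h2
      · exact ⟨m + 1, k, by push_cast; linear_combination h2⟩
      · rcases mul_eq_zero.1 h2 with h3 | h3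
        · exact ⟨m, k + 1, by push_cast; linear_combination h3⟩
        · exact ⟨m - 1, k - 1, by push_cast; linear_combination h3⟩
  obtain ⟨m, k, hmk⟩ := key s hs
  rw [hsum, hmk] at hr ⊢
  refine ⟨m, ?_⟩
  have h1 := congrArg Complex.im hr
  simp [hω] at h1
  have h4 : Real.sqrt 3 ≠ 0 := by positivity
  have h2 : (k : ℝ) * Real.sqrt 3 = 0 := by linarith
  have h3 : (k : ℝ) = 0 := by
    rcases mul_eq_zero.1 h2 with h | h
    · exact h
    · exact absurd h h4
  have h5 : k = 0 := by exact_mod_cast h3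
  rw [h5]; simp

section
variable {G : Type u} [Group G] [Finite G] {p : ℕ} [hp : Fact p.Prime] {M : Ideal AlgInt}

/-- characters of the principal block are constant on the `p`-section of `w` if `C(w)` is
`p`-nilpotent -/
theorem const_on (hM : IsPModular p M) {w z a : G} (hw : ∃ k, orderOf w = p ^ k)
    (hC : ∃ k, (Cfsg.pPrimeCore p (Subgroup.centralizer ({w} : Set G))).index = p ^ k)
    (hz : IsPPart p z a) (h : IsConj a w) {χ : IrrCharacter G} (hχ : χ ∈ principalBlock M G) :
    (χ : G → ℂ) z = (χ : G → ℂ) w := by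
  obtain ⟨c, hc⟩ := isConj_iff.1 h
  obtain ⟨y, hy, hcom, ha, hyr⟩ := hz
  set u := c * y * c⁻¹ with hu
  have hzu : c * z * c⁻¹ = w * u := by rw [← hy, ← hc, hu]; group
  have huw : u * w = w * u := by
    rw [hu, ← hc]
    calc c * y * c⁻¹ * (c * a * c⁻¹) = c * (y * a) * c⁻¹ := by group
      _ = c * (a * y) * c⁻¹ := by rw [hcom.eq]
      _ = _ := by group
  have hur : ¬ p ∣ orderOf u := by
    have : orderOf u = orderOf y := by
      rw [hu]
      exact orderOf_injective (MulAut.conj c).toMonoidHom (MulAut.conj c).injective y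
    rwa [this]
  have hucore : u ∈ centralizerPPrimeCore p w := by
    obtain ⟨k, hk⟩ := hC
    have huC : u ∈ Subgroup.centralizer ({w} : Set G) := Subgroup.mem_centralizer_singleton_iff.2 huw
    refine ⟨⟨u, huC⟩, ?_, rfl⟩
    apply H4.mem_of_regular_of_index hk
    rwa [Subgroup.orderOf_mk]
  rw [← irr_isClassFunction χ z c, hzu, S0942.result p M hM w hw u hucore χ hχ]

end

/-- the principal block: three characters -/
structure Tri3 (M : Ideal AlgInt) (X : Type u) [Group X] [Finite X] (φ : Fin 3 → IrrCharacter X)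
    (ε : Fin 3 → ℤ) : Prop where
  inj : Function.Injective φ
  phi0 : φ 0 = oneIrr X
  eps0 : ε 0 = 1
  sg : ∀ i, ε i = 1 ∨ ε i = -1
  sum : ∀ h : X, ∑ i, (ε i : ℂ) * (φ i : X → ℂ) h = if 3 ∣ orderOf h then 3 else 0
  val : ∀ i (h : X), 3 ∣ orderOf h → (ε i : ℂ) * (φ i : X → ℂ) h = 1
  blk : ∀ χ : IrrCharacter X, χ ∈ principalBlock M X ↔ ∃ i, χ = φ i

/-- every element of order divisible by 3 has 3-part conjugate to `x` -/
theorem conj_of_dvd {X : Type u} [Group X] [Finite X] (Q : Sylow 3 X)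
    (hQ : Nat.card (Q : Subgroup X) = 3) {x e : X} (hx : x ∈ (Q : Subgroup X)) (hx1 : x ≠ 1)
    (he : e * x * e⁻¹ = x⁻¹) {h : X} (hh : 3 ∣ orderOf h) :
    ∃ a, IsPPart 3 h a ∧ IsConj a x := by
  haveI : Fact (Nat.Prime 3) := ⟨Nat.prime_three⟩
  obtain ⟨a, c, hac, hca, ⟨k, hk⟩, hc, ha1, hc1⟩ := BlkInd.exists_decomp Nat.prime_three h
  have hpp : IsPPart 3 h a := ⟨c, hac, hca.symm, ⟨k, hk⟩, hc⟩
  refine ⟨a, hpp, ?_⟩
  have ha : a ≠ 1 := by
    rintro rfl
    rw [one_mul] at hac
    rw [hac] at hc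
    exact hc hh
  -- a in a conjugate of Q
  have hpa : IsPGroup 3 (Subgroup.zpowers a) := by
    rw [IsPGroup.iff_card]
    exact ⟨k, by rw [Nat.card_zpowers, hk]⟩
  obtain ⟨R, hR⟩ := hpa.exists_le_sylow
  obtain ⟨g, hg⟩ := MulAction.exists_smul_eq X R Q
  have h1 : g * a * g⁻¹ ∈ (Q : Subgroup X) := by
    rw [← hg]
    rw [Sylow.coe_subgroup_smul]
    have : a ∈ (R : Subgroup X) := hR (Subgroup.mem_zpowers a)
    exact Subgroup.smul_mem_pointwise_smul _ (MulAut.conj g) _ this
  -- elements of Q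
  have h2 : Subgroup.zpowers x = (Q : Subgroup X) := by
    apply Subgroup.eq_of_le_of_card_ge (Subgroup.zpowers_le.2 hx)
    rw [hQ, Nat.card_zpowers]
    have h3 : orderOf x ∣ 3 := by
      have := orderOf_dvd_natCard (⟨x, hx⟩ : (Q : Subgroup X))
      rwa [hQ, Subgroup.orderOf_mk] at this
    rcases (Nat.dvd_prime Nat.prime_three).1 h3 with h4 | h4
    · exact absurd (orderOf_eq_one_iff.1 h4) hx1
    · exact h4.ge
  have hx3 : orderOf x = 3 := by rw [← Nat.card_zpowers, h2, hQ]
  rw [← h2] at h1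
  obtain ⟨j, hj⟩ := Subgroup.mem_zpowers_iff.1 h1
  have hne : g * a * g⁻¹ ≠ 1 := by
    intro h
    apply ha
    have : a = g⁻¹ * 1 * g := by rw [← h]; group
    rw [this]; group
  have hx3' : x ^ 3 = 1 := by rw [← hx3]; exact pow_orderOf_eq_one x
  have h5 : g * a * g⁻¹ = x ∨ g * a * g⁻¹ = x⁻¹ := by
    rw [← hj]
    have h6 : x ^ j = x ^ (j % 3) := by
      conv_lhs => rw [← Int.emod_add_mul_ediv j 3]
      rw [zpow_add, zpow_mul]
      have : x ^ (3 : ℤ) = 1 := by exact_mod_cast hx3'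
      rw [this, one_zpow, mul_one]
    have h7 : j % 3 = 0 ∨ j % 3 = 1 ∨ j % 3 = 2 := by omega
    rcases h7 with h7 | h7 | h7
    · exfalso
      apply hne
      rw [← hj, h6, h7, zpow_zero]
    · left; rw [h6, h7, zpow_one]
    · right
      rw [h6, h7, eq_inv_iff_mul_eq_one]
      have : x ^ (2 : ℤ) = x ^ 2 := by norm_cast
      rw [this, ← pow_succ]
      exact hx3'
  rcases h5 with h5 | h5
  · exact isConj_iff.2 ⟨g, h5⟩
  · refine isConj_iff.2 ⟨e * g, ?_⟩
    calc e * g * a * (e * g)⁻¹ = e * (g * a * g⁻¹) * e⁻¹ := by group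
      _ = (e * x * e⁻¹)⁻¹ := by rw [h5]; group
      _ = x := by rw [he, inv_inv]

theorem tri3 {X : Type u} [Group X] [Finite X] {M : Ideal AlgInt} (hM : IsPModular 3 M)
    (Q : Sylow 3 X) (hQ : Nat.card (Q : Subgroup X) = 3) {x e : X} (hx : x ∈ (Q : Subgroup X))
    (hx1 : x ≠ 1) (he : e * x * e⁻¹ = x⁻¹) : ∃ φ ε, Tri3 M X φ ε := by
  classical
  haveI : Fact (Nat.Prime 3) := ⟨Nat.prime_three⟩
  haveI := hM.2.1.isPrime
  haveI := Fintype.ofFinite X
  haveI := Fintype.ofFinite (IrrCharacter X)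
  haveI : Fact (Nat.card (Q : Subgroup X)).Prime := ⟨by rw [hQ]; exact Nat.prime_three⟩
  have hQc : IsCyclic (Q : Subgroup X) := isCyclic_of_prime_card (p := 3) hQ
  have hx3 : orderOf x = 3 := by
    have h3 : orderOf x ∣ 3 := by
      have := orderOf_dvd_natCard (⟨x, hx⟩ : (Q : Subgroup X))
      rwa [hQ, Subgroup.orderOf_mk] at this
    rcases (Nat.dvd_prime Nat.prime_three).1 h3 with h4 | h4
    · exact absurd (orderOf_eq_one_iff.1 h4) hx1
    · exact h4
  have hxp : ∃ k, orderOf x = 3 ^ k := ⟨1, by rw [hx3, pow_one]⟩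
  have hC := H33.core_of_cyclic Q hQc hx hx1
  have hconst : ∀ χ ∈ principalBlock M X, ∀ h : X, 3 ∣ orderOf h → (χ : X → ℂ) h = (χ : X → ℂ) x := by
    intro χ hχ h hh
    obtain ⟨a, ha1, ha2⟩ := conj_of_dvd Q hQ hx hx1 he hh
    exact const_on hM hxp hC ha1 ha2 hχ
  -- values
  have hreal : ∀ χ : IrrCharacter X, conj ((χ : X → ℂ) x) = (χ : X → ℂ) x := by
    intro χ
    rw [← isCharacter_inv (irr_isCharacter χ) x, ← he, irr_isClassFunction χ x e]
  have hint : ∀ χ : IrrCharacter X, ∃ c : ℤ, (χ : X → ℂ) x = c := fun χ =>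
    int_value3 (irr_isCharacter χ) hx3 (hreal χ)
  choose n hn using hint
  -- card of the centralizer
  have hcardX : (Nat.card X).factorization 3 = 1 := by
    have h1 := Sylow.card_eq_multiplicity Q
    rw [hQ] at h1
    have h2 : 3 ^ 1 = 3 ^ (Nat.card X).factorization 3 := by rw [pow_one]; exact h1
    exact (Nat.pow_right_injective (le_refl 2 |>.trans (by norm_num)) h2).symm
  have hQC : (Q : Subgroup X) ≤ Subgroup.centralizer ({x} : Set X) := by
    intro z hz
    rw [Subgroup.mem_centralizer_singleton_iff]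
    exact H33.comm_of_cyclic hQc z hz x hx
  have hcardC : (Nat.card (Subgroup.centralizer ({x} : Set X))).factorization 3 = 1 := by
    have h1 : Nat.card (Subgroup.centralizer ({x} : Set X)) ∣ Nat.card X :=
      Subgroup.card_subgroup_dvd_card _
    have h2 : 3 ∣ Nat.card (Subgroup.centralizer ({x} : Set X)) := by
      rw [← hQ]; exact Subgroup.card_dvd_of_le hQC
    have h3 := (Nat.factorization_le_iff_dvd (Nat.card_pos.ne') (Nat.card_pos.ne')).2 h1 3
    have h4 := Nat.Prime.factorization_pos_of_dvd Nat.prime_three (Nat.card_pos.ne') h2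
    omega
  have hind : ¬ 3 ∣ (Subgroup.centralizer ({x} : Set X)).index := by
    intro h
    have h1 := Subgroup.card_mul_index (Subgroup.centralizer ({x} : Set X))
    have h2 : 3 * 3 ∣ Nat.card X := by
      rw [← h1]
      refine mul_dvd_mul ?_ h
      rw [← hQ]; exact Subgroup.card_dvd_of_le hQC
    have h3 : 3 ^ 2 ∣ Nat.card X := by simpa using h2
    have h4 := (Nat.Prime.pow_dvd_iff_le_factorization Nat.prime_three (Nat.card_pos.ne')).1 h3
    omega
  -- nonvanishing
  have hnz : ∀ χ ∈ principalBlock M X, n χ ≠ 0 := by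
    intro χ hχ h0
    have h1 : MemLocalIdeal M (centralChar ((oneIrr X : IrrCharacter X) : X → ℂ) x -
        centralChar (χ : X → ℂ) x) := hχ x
    have h2 : centralChar (χ : X → ℂ) x = 0 := by
      unfold centralChar
      rw [hn χ, h0]; simp
    have h3 : centralChar ((oneIrr X : IrrCharacter X) : X → ℂ) x =
        ((Subgroup.centralizer ({x} : Set X)).index : ℂ) := by
      unfold centralChar
      rw [oneIrr_apply, oneIrr_apply]; simp
    rw [h2, h3, sub_zero, mli_natCast_iff hM] at h1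
    exact hind h1
  -- the sum of squares
  set S : Finset (IrrCharacter X) := Finset.univ.filter (fun χ => χ ∈ principalBlock M X) with hS
  have hmemS : ∀ χ, χ ∈ S ↔ χ ∈ principalBlock M X := fun χ => by simp [hS]
  have hbeta : ∀ z : X, H33.beta M x z = ∑ χ ∈ S, (n χ : ℂ) * (χ : X → ℂ) z := by
    intro z
    unfold H33.beta
    rw [finsum_mem_eq_sum_ite, hS, Finset.sum_filter]
    refine Finset.sum_congr rfl fun χ _ => ?_
    split_ifs
    · rw [hreal, hn]; ring
    · rfl
  have hsq : ∑ χ ∈ S, (n χ) ^ 2 = 3 := by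
    have h1 := H33.beta_one hM hxp hx1 hC
    rw [hbeta, hcardC] at h1
    have h2 : ((∑ χ ∈ S, (n χ) ^ 2 : ℤ) : ℂ) = ((3 : ℤ) : ℂ) := by
      push_cast
      rw [show (3 : ℂ) = ((3 ^ 1 : ℕ) : ℂ) by norm_num, ← h1]
      refine Finset.sum_congr rfl fun χ _ => ?_
      rw [hn]; ring
    exact_mod_cast h2
  have hle : ∀ χ ∈ S, (n χ) ^ 2 ≤ 3 := by
    intro χ hχ
    rw [← hsq]
    exact Finset.single_le_sum (f := fun χ => (n χ) ^ 2) (fun i _ => sq_nonneg _) hχ
  have hone : ∀ χ ∈ S, (n χ) ^ 2 = 1 := by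
    intro χ hχ
    have h1 := hle χ hχ
    have h2 := hnz χ ((hmemS χ).1 hχ)
    have h3 : n χ ≤ 1 := by nlinarith
    have h4 : -1 ≤ n χ := by nlinarith
    have h5 : n χ = 1 ∨ n χ = -1 := by omega
    rcases h5 with h5 | h5 <;> rw [h5] <;> norm_num
  have hcard : S.card = 3 := by
    rw [Finset.sum_congr rfl hone] at hsq
    simp at hsq
    exact_mod_cast hsq
  have h1S : oneIrr X ∈ S := (hmemS _).2 (oneIrr_mem_principalBlock (G := X) (M := M))
  obtain ⟨a, b, hab, hSe⟩ := Finset.card_eq_two.1 (show (S.erase (oneIrr X)).card = 2 by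
    rw [Finset.card_erase_of_mem h1S, hcard])
  have haS : a ∈ S.erase (oneIrr X) := by rw [hSe]; simp
  have hbS : b ∈ S.erase (oneIrr X) := by rw [hSe]; simp
  have ha1 := Finset.mem_erase.1 haS
  have hb1 := Finset.mem_erase.1 hbS
  have hSS : S = {oneIrr X, a, b} := by
    rw [← Finset.insert_erase h1S, hSe]
  have hn1 : n (oneIrr X) = 1 := by
    have := hn (oneIrr X)
    rw [oneIrr_apply] at this
    exact_mod_cast this.symm
  have hmemφ : ∀ i : Fin 3, (![oneIrr X, a, b] : Fin 3 → IrrCharacter X) i ∈ S := by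
    intro i
    fin_cases i
    · exact h1S
    · exact ha1.2
    · exact hb1.2
  have hεφ : ∀ i : Fin 3, (![1, n a, n b] : Fin 3 → ℤ) i =
      n ((![oneIrr X, a, b] : Fin 3 → IrrCharacter X) i) := by
    intro i
    fin_cases i
    · simp [hn1]
    · simp
    · simp
  have hval : ∀ i (h : X), 3 ∣ orderOf h → (((![1, n a, n b] : Fin 3 → ℤ) i : ℤ) : ℂ) *
      ((![oneIrr X, a, b] : Fin 3 → IrrCharacter X) i : X → ℂ) h = 1 := by
    intro i h hh
    rw [hεφ, hconst _ ((hmemS _).1 (hmemφ i)) h hh, hn]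
    have := hone _ (hmemφ i)
    have h2 : ((n ((![oneIrr X, a, b] : Fin 3 → IrrCharacter X) i) ^ 2 : ℤ) : ℂ) = 1 := by
      rw [this]; norm_num
    push_cast at h2
    rw [← h2]; ring
  refine ⟨![oneIrr X, a, b], ![1, n a, n b], ⟨?_, rfl, rfl, ?_, ?_, hval, ?_⟩⟩
  · intro i j hij
    fin_cases i <;> fin_cases j <;> simp at hij ⊢
    · exact ha1.1 hij.symm
    · exact hb1.1 hij.symm
    · exact ha1.1 hij
    · exact hab hij
    · exact hb1.1 hij
    · exact hab hij.symm
  · intro i
    rw [hεφ]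
    have := hone _ (hmemφ i)
    have h7 := this
    have h8 : (n ((![oneIrr X, a, b] : Fin 3 → IrrCharacter X) i) - 1) * (n ((![oneIrr X, a, b] : Fin 3 → IrrCharacter X) i) + 1) = 0 := by linear_combination h7
    rcases mul_eq_zero.1 h8 with h9 | h9
    · exact Or.inl (by linarith)
    · exact Or.inr (by linarith)
  · intro h
    by_cases hh : 3 ∣ orderOf h
    · rw [if_pos hh, Finset.sum_congr rfl fun i _ => hval i h hh]
      simp
    · rw [if_neg hh]
      have h2 : IsPPart 3 h 1 := ⟨h, one_mul h, Commute.one_left h, ⟨0, by simp⟩, hh⟩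
      have h3 : ¬ IsConj (1 : X) x := by
        intro h4
        exact hx1 (isConj_one_right.1 h4)
      have h4 := H33.beta_zero hM hxp h2 h3
      rw [hbeta, hSS, Finset.sum_insert, Finset.sum_insert, Finset.sum_singleton] at h4
      · rw [Fin.sum_univ_three, ← h4, hn1]
        simp
        ring
      · simpa using hab
      · simp only [Finset.mem_insert, Finset.mem_singleton, not_or]
        exact ⟨Ne.symm ha1.1, Ne.symm hb1.1⟩
  · intro χ
    rw [← hmemS, hSS]
    constructor
    · intro h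
      simp only [Finset.mem_insert, Finset.mem_singleton] at h
      rcases h with h | h | h
      · exact ⟨0, h⟩
      · exact ⟨1, h⟩
      · exact ⟨2, h⟩
    · rintro ⟨i, rfl⟩
      rw [← hSS]
      exact hmemφ i

end Cfsg.Agent.JY.V1
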