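import Cfsg.Agent.JY.V1A
import Cfsg.Agent.H4.K3Def
import Cfsg.Agent.S0075
import Cfsg.Agent.H20.Residual

/-!
# Local structure in the configuration `V4Sit`
-/

set_option autoImplicit false
set_option linter.style.haveILetI false
set_option linter.unusedSectionVars false

namespace Cfsg.Agent.JY.V1

open scoped ComplexConjugate
open Cfsg Cfsg.Agent.CharBase Cfsg.Agent.Blk
open Cfsg.Agent.H4.K3

universe u

variable {G : Type u} [Group G] [Finite G] {P : Sylow 3 G} {k₁ k₂ e₁ e₂ : G}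

theorem symm (S : V4Sit P k₁ k₂ e₁ e₂) : V4Sit P k₂ k₁ e₂ e₁ where
  m₁ := S.m₂
  m₂ := S.m₁
  o₁ := S.o₂
  o₂ := S.o₁
  comm := S.comm.symm
  gen := by
    intro x hx
    obtain ⟨i, j, h⟩ := S.gen x hx
    have hc : Commute k₁ k₂ := S.comm
    exact ⟨j, i, by rw [h]; exact (hc.pow_pow i j).eq⟩
  card := S.card
  a₁ := S.b₂
  a₂ := S.b₁
  b₁ := S.a₂
  b₂ := S.a₁
  nrm := fun n hn => ⟨(S.nrm n hn).2, (S.nrm n hn).1⟩

section
variable (S : V4Sit P k₁ k₂ e₁ e₂)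
include S

theorem p1 : k₁ ^ 3 = 1 := by rw [← S.o₁]; exact pow_orderOf_eq_one _
theorem p2 : k₂ ^ 3 = 1 := by rw [← S.o₂]; exact pow_orderOf_eq_one _

theorem ne1 : k₁ ≠ 1 := by
  rintro rfl
  have := S.o₁
  rw [orderOf_one] at this
  omega

theorem ne2 : k₂ ≠ 1 := ne1 (symm S)

theorem eq_one_of_sq {a : G} (h3 : a ^ 3 = 1) (h2 : a⁻¹ = a) : a = 1 := by
  have h4 : a * a = 1 := by
    nth_rewrite 1 [← h2]
    exact inv_mul_cancel a
  have : a ^ 3 = a * a * a := by rw [pow_succ, pow_two]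
  rw [h3, h4, one_mul] at this
  exact this.symm

/-- an element fixed by conjugation with `e₁` and inverted... -/
theorem pow1_of_mem {j : ℕ} (h : k₁ ^ j ∈ Subgroup.zpowers k₂) : k₁ ^ j = 1 := by
  obtain ⟨i, hi⟩ := Subgroup.mem_zpowers_iff.1 h
  have h1 : e₁ * k₁ ^ j * e₁⁻¹ = (k₁ ^ j)⁻¹ := by
    rw [← conj_pow, S.a₁, inv_pow]
  have h2 : e₁ * k₁ ^ j * e₁⁻¹ = k₁ ^ j := by
    rw [← hi, ← conj_zpow, S.a₂]
  apply eq_one_of_sq S
  · rw [← pow_mul, mul_comm, pow_mul, p1 S, one_pow]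
  · rw [← h1, h2]

theorem comm_all {x y : G} (hx : x ∈ (P : Subgroup G)) (hy : y ∈ (P : Subgroup G)) :
    x * y = y * x := by
  obtain ⟨i, j, rfl⟩ := S.gen x hx
  obtain ⟨i', j', rfl⟩ := S.gen y hy
  have hc : Commute k₁ k₂ := S.comm
  have h1 : Commute (k₁ ^ i * k₂ ^ j) (k₁ ^ i' * k₂ ^ j') := by
    apply Commute.mul_left
    · exact ((Commute.refl k₁).pow_pow i i').mul_right (hc.pow_pow i j')
    · exact (hc.symm.pow_pow j i').mul_right ((Commute.refl k₂).pow_pow j j')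
  exact h1.eq

theorem abel : IsMulCommutative (P : Subgroup G) :=
  ⟨⟨fun x y => Subtype.ext (comm_all S x.2 y.2)⟩⟩

/-- fusion is controlled -/
theorem conj_val {a b c : G} (ha : a ∈ (P : Subgroup G)) (hb : b ∈ (P : Subgroup G))
    (h : c * a * c⁻¹ = b) :
    ∃ n ∈ Subgroup.normalizer ((P : Subgroup G) : Set G), n * a * n⁻¹ = b := by
  haveI := abel S
  have h1 : (c⁻¹)⁻¹ * a * c⁻¹ ∈ (P : Subgroup G) := by rw [inv_inv, h]; exact hb
  obtain ⟨n, hn, h2⟩ := Sylow.conj_eq_normalizer_conj_of_mem P a c⁻¹ ha h1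
  rw [inv_inv, h] at h2
  refine ⟨n⁻¹, inv_mem hn, ?_⟩
  rw [inv_inv]; exact h2.symm

theorem mem12 : k₁ * k₂ ∈ (P : Subgroup G) := mul_mem S.m₁ S.m₂

theorem not12 : ¬ IsConj k₁ k₂ := by
  intro h
  obtain ⟨c, hc⟩ := isConj_iff.1 h
  obtain ⟨n, hn, h1⟩ := conj_val S S.m₁ S.m₂ hc
  have h2 : e₂ * k₂ * e₂⁻¹ = k₂ := by
    rcases (S.nrm n hn).1 with h3 | h3
    · rw [← h1, h3, S.b₁]
    · rw [← h1, h3]
      calc e₂ * k₁⁻¹ * e₂⁻¹ = (e₂ * k₁ * e₂⁻¹)⁻¹ := by group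
        _ = k₁⁻¹ := by rw [S.b₁]
  exact ne2 S (eq_one_of_sq S (p2 S) (by rw [← S.b₂, h2]))

theorem not1 : ¬ IsConj k₁ (k₁ * k₂) := by
  intro h
  obtain ⟨c, hc⟩ := isConj_iff.1 h
  obtain ⟨n, hn, h1⟩ := conj_val S S.m₁ (mem12 S) hc
  rcases (S.nrm n hn).1 with h3 | h3
  · rw [h1] at h3
    exact ne2 S (mul_eq_left.1 h3)
  · rw [h1] at h3
    -- k₁ k₂ = k₁⁻¹, so k₂ = k₁ (as k₁⁻² = k₁)
    have h4 : k₂ = k₁⁻¹ * k₁⁻¹ := by
      calc k₂ = k₁⁻¹ * (k₁ * k₂) := by group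
        _ = k₁⁻¹ * k₁⁻¹ := by rw [h3]
    have h5 : e₂ * k₂ * e₂⁻¹ = k₂ := by
      rw [h4]
      calc e₂ * (k₁⁻¹ * k₁⁻¹) * e₂⁻¹ = (e₂ * k₁ * e₂⁻¹)⁻¹ * (e₂ * k₁ * e₂⁻¹)⁻¹ := by group
        _ = k₁⁻¹ * k₁⁻¹ := by rw [S.b₁]
    exact ne2 S (eq_one_of_sq S (p2 S) (by rw [← S.b₂, h5]))

theorem not_conj : ¬ IsConj k₁ k₂ ∧ ¬ IsConj k₁ (k₁ * k₂) ∧ ¬ IsConj k₂ (k₁ * k₂) :=
  ⟨not12 S, not1 S, by rw [S.comm]; exact not1 (symm S)⟩

theorem ord12 : orderOf (k₁ * k₂) = 3 := by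
  have hc : Commute k₁ k₂ := S.comm
  haveI : Fact (Nat.Prime 3) := ⟨Nat.prime_three⟩
  refine orderOf_eq_prime ?_ ?_
  · rw [hc.mul_pow, p1 S, p2 S, one_mul]
  · intro h
    have h1 : k₁ = k₂⁻¹ := eq_inv_of_mul_eq_one_left h
    have h2 : k₁ ^ 1 ∈ Subgroup.zpowers k₂ := by
      rw [pow_one, h1]
      exact inv_mem (Subgroup.mem_zpowers k₂)
    have h3 := pow1_of_mem S h2
    rw [pow_one] at h3
    exact ne1 S h3

theorem le_cent {w : G} (hw : w ∈ (P : Subgroup G)) :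
    (P : Subgroup G) ≤ Subgroup.centralizer ({w} : Set G) := by
  intro z hz
  rw [Subgroup.mem_centralizer_singleton_iff]
  exact comm_all S hz hw

/-- the normalizer of `P` inside an overgroup -/
theorem mem_norm_of {K : Subgroup G} (hPK : (P : Subgroup G) ≤ K) {g : K}
    (hg : g ∈ Subgroup.normalizer (((P.subtype hPK : Sylow 3 K) : Subgroup K) : Set K)) :
    (g : G) ∈ Subgroup.normalizer ((P : Subgroup G) : Set G) := by
  have hQc : ((P.subtype hPK : Sylow 3 K) : Subgroup K) = (P : Subgroup G).subgroupOf K := rfl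
  rw [Subgroup.mem_normalizer_iff]
  intro z
  constructor
  · intro hz
    have h2 : (⟨z, hPK hz⟩ : K) ∈ ((P.subtype hPK : Sylow 3 K) : Subgroup K) := by
      rw [hQc, Subgroup.mem_subgroupOf]; exact hz
    have h3 := ((Subgroup.mem_normalizer_iff.1 hg) _).1 h2
    rw [hQc, Subgroup.mem_subgroupOf] at h3
    exact h3
  · intro hz
    have hzK : z ∈ K := by
      have h2 := K.mul_mem (K.mul_mem (K.inv_mem g.2) (hPK hz)) g.2
      have : (g : G)⁻¹ * (g * z * (g : G)⁻¹) * g = z := by group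
      rwa [this] at h2
    have h2 : g * (⟨z, hzK⟩ : K) * g⁻¹ ∈ ((P.subtype hPK : Sylow 3 K) : Subgroup K) := by
      rw [hQc, Subgroup.mem_subgroupOf]; exact hz
    have h3 := ((Subgroup.mem_normalizer_iff.1 hg) _).2 h2
    rw [hQc, Subgroup.mem_subgroupOf] at h3
    exact h3

theorem core12 : ∃ k, (pPrimeCore 3 (Subgroup.centralizer ({k₁ * k₂} : Set G))).index = 3 ^ k := by
  haveI : Fact (Nat.Prime 3) := ⟨Nat.prime_three⟩
  set K := Subgroup.centralizer ({k₁ * k₂} : Set G) with hK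
  have hPK : (P : Subgroup G) ≤ K := le_cent S (mem12 S)
  have hnpc : Cfsg.HasNormalPComplement 3 K := by
    refine Transfer.hasNPC_of_normalizer_le_centralizer (P.subtype hPK) ?_
    intro g hg
    have h1 := mem_norm_of S hPK hg
    have h2 : (g : G) * (k₁ * k₂) * (g : G)⁻¹ = k₁ * k₂ := by
      rw [mul_inv_eq_iff_eq_mul]
      exact Subgroup.mem_centralizer_singleton_iff.1 g.2
    have h3 : (g : G) * k₁ * (g : G)⁻¹ = k₁ ∧ (g : G) * k₂ * (g : G)⁻¹ = k₂ := by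
      have h4 : ((g : G) * k₁ * (g : G)⁻¹) * ((g : G) * k₂ * (g : G)⁻¹) = k₁ * k₂ := by
        rw [← h2]; group
      obtain ⟨h5, h6⟩ := S.nrm _ h1
      rcases h5 with h5 | h5
      · rw [h5] at h4
        exact ⟨h5, mul_left_cancel h4⟩
      · rcases h6 with h6 | h6
        · rw [h6] at h4
          exact ⟨mul_right_cancel h4, h6⟩
        · exfalso
          rw [h5, h6] at h4
          -- (k₁k₂)⁻¹ = k₁k₂
          have h7 : (k₁ * k₂)⁻¹ = k₁ * k₂ := by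
            rw [mul_inv_rev]
            have hc : Commute k₁ k₂ := S.comm
            rw [hc.symm.inv_inv.eq]
            exact h4
          have h8 := eq_one_of_sq S (by rw [← ord12 S]; exact pow_orderOf_eq_one _) h7
          have h9 := ord12 S
          rw [h8, orderOf_one] at h9
          omega
    rw [Subgroup.mem_centralizer_iff]
    intro z hz
    apply Subtype.ext
    have hz' : (z : G) ∈ (P : Subgroup G) := hz
    obtain ⟨i, j, hij⟩ := S.gen _ hz'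
    have c1 : Commute (g : G) k₁ := mul_inv_eq_iff_eq_mul.1 h3.1
    have c2 : Commute (g : G) k₂ := mul_inv_eq_iff_eq_mul.1 h3.2
    have c3 : Commute (g : G) (z : G) := by
      rw [hij]
      exact (c1.pow_right i).mul_right (c2.pow_right j)
    exact c3.eq.symm
  obtain ⟨N, hN, hcop, k, hk⟩ := Transfer.hasNPC_iff_exists.1 hnpc
  have hle : N ≤ Cfsg.pPrimeCore 3 K := Solv.le_pPrimeCore hN hcop
  have h1 := Subgroup.index_dvd_of_le hle
  rw [hk] at h1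
  obtain ⟨j, -, hj⟩ := (Nat.dvd_prime_pow Nat.prime_three).1 h1
  exact ⟨j, hj⟩

theorem card_fact {w : G} (hw : w ∈ (P : Subgroup G)) :
    (Nat.card (Subgroup.centralizer ({w} : Set G))).factorization 3 = 2 := by
  haveI : Fact (Nat.Prime 3) := ⟨Nat.prime_three⟩
  have h1 := Sylow.card_eq_multiplicity (P.subtype (le_cent S hw))
  have h2 : Nat.card ((P.subtype (le_cent S hw) : Sylow 3 _) : Subgroup (Subgroup.centralizer ({w} : Set G))) = 9 := by
    rw [← S.card]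
    exact Nat.card_congr (Subgroup.subgroupOfEquivOfLe (le_cent S hw)).toEquiv
  rw [h2] at h1
  have h3 : 3 ^ 2 = 3 ^ (Nat.card (Subgroup.centralizer ({w} : Set G))).factorization 3 := by
    rw [← h1]; norm_num
  exact (Nat.pow_right_injective (by norm_num : 2 ≤ 3) h3).symm

theorem card12 : 3 ^ (Nat.card (Subgroup.centralizer ({k₁ * k₂} : Set G))).factorization 3 = 9 := by
  rw [card_fact S (mem12 S)]; norm_num

end

end Cfsg.Agent.JY.V1
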