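import Cfsg.Agent.JY.V1B

/-!
# `C_G(k₁) = ⟨k₁⟩ × K` in the configuration `V4Sit`
-/

set_option autoImplicit false
set_option linter.style.haveILetI false
set_option linter.unusedSectionVars false

namespace Cfsg.Agent.JY.V1

open scoped ComplexConjugate
open Cfsg Cfsg.Agent.CharBase Cfsg.Agent.Blk
open Cfsg.Agent.H4.K3

universe u

variable {G : Type u} [Group G] [Finite G] {P : Sylow 3 G} {k₁ k₂ e₁ e₂ : G}

/-- the centralizer -/
abbrev CC (k₁ : G) : Subgroup G := Subgroup.centralizer ({k₁} : Set G)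

/-- the complement -/
noncomputable def RR (k₁ : G) : Subgroup (CC k₁) := pResidual 3 (CC k₁)

/-- the complement in `G` -/
noncomputable def KK (k₁ : G) : Subgroup G := (RR k₁).map (CC k₁).subtype

theorem KK_le : KK k₁ ≤ CC k₁ := by
  rintro _ ⟨x, -, rfl⟩
  exact x.2

theorem mem_KK {h : G} (hh : h ∈ CC k₁) : h ∈ KK k₁ ↔ (⟨h, hh⟩ : CC k₁) ∈ RR k₁ := by
  constructor
  · rintro ⟨x, hx, rfl⟩
    exact hx
  · intro h1
    exact ⟨_, h1, rfl⟩

theorem mem_CC {h : G} : h ∈ CC k₁ ↔ h * k₁ = k₁ * h := Subgroup.mem_centralizer_singleton_iff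

section
variable (S : V4Sit P k₁ k₂ e₁ e₂)
include S

theorem P_le : (P : Subgroup G) ≤ CC k₁ := le_cent S S.m₁

/-- the Sylow subgroup of the centralizer -/
noncomputable abbrev TT (S : V4Sit P k₁ k₂ e₁ e₂) : Sylow 3 (CC k₁) := P.subtype (P_le S)

theorem mem_TT {h : CC k₁} : h ∈ ((TT S : Sylow 3 (CC k₁)) : Subgroup (CC k₁)) ↔
    (h : G) ∈ (P : Subgroup G) := Iff.rfl

/-- focal subgroup -/
theorem TT_inf : ((TT S : Sylow 3 (CC k₁)) : Subgroup (CC k₁)) ⊓ RR k₁ =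
    Subgroup.zpowers (⟨k₂, P_le S S.m₂⟩ : CC k₁) := by
  haveI : Fact (Nat.Prime 3) := ⟨Nat.prime_three⟩
  have hT : IsMulCommutative ((TT S : Sylow 3 (CC k₁)) : Subgroup (CC k₁)) :=
    ⟨⟨fun x y => Subtype.ext (Subtype.ext (comm_all S x.2 y.2))⟩⟩
  have h1 := Cfsg.Agent.S0075.result (TT S) hT
  change ((TT S : Sylow 3 (CC k₁)) : Subgroup (CC k₁)) ⊓ pResidual 3 (CC k₁) = _
  rw [h1]
  apply le_antisymm
  · rw [Subgroup.commutator_le]
    intro t ht n hn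
    have hn' := mem_norm_of S (P_le S) hn
    have ht' : (t : G) ∈ (P : Subgroup G) := ht
    obtain ⟨i, j, hij⟩ := S.gen _ ht'
    have hn1 : (n : G) * k₁ * (n : G)⁻¹ = k₁ := by
      rw [mul_inv_eq_iff_eq_mul]
      exact mem_CC.1 n.2
    have hc : Commute k₁ k₂ := S.comm
    have key : ∃ m : ℤ, k₂ ^ m = (t : G) * n * (t : G)⁻¹ * (n : G)⁻¹ := by
      have e : (t : G) * n * (t : G)⁻¹ * (n : G)⁻¹ =
          t * ((n : G) * t * (n : G)⁻¹)⁻¹ := by group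
      have e2 : (n : G) * (k₁ ^ i * k₂ ^ j) * (n : G)⁻¹ =
          ((n : G) * k₁ * (n : G)⁻¹) ^ i * ((n : G) * k₂ * (n : G)⁻¹) ^ j := by
        rw [conj_pow, conj_pow]; group
      rw [e, hij, e2, hn1]
      rcases (S.nrm _ hn').2 with h3 | h3
      · refine ⟨0, ?_⟩
        rw [h3]; simp
      · refine ⟨(j : ℤ) + j, ?_⟩
        rw [h3, mul_inv_rev, inv_pow, inv_inv]
        have h4 : Commute (k₂ ^ j) (k₁ ^ i) := (hc.pow_pow i j).symm
        calc k₂ ^ ((j : ℤ) + j) = k₂ ^ j * k₂ ^ j := by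
              rw [zpow_add, zpow_natCast]
          _ = k₁ ^ i * (k₂ ^ j * k₂ ^ j) * (k₁ ^ i)⁻¹ := by
              rw [(h4.mul_left h4).symm.eq, mul_inv_cancel_right]
          _ = _ := by group
    obtain ⟨m, hm⟩ := key
    rw [Subgroup.mem_zpowers_iff]
    refine ⟨m, Subtype.ext ?_⟩
    rw [Subgroup.coe_zpow]
    exact hm
  · rw [Subgroup.zpowers_le]
    -- k₂ = ([k₂, e₂])⁻¹... [k₂,e₂] = k₂²
    have he2C : e₂ ∈ CC k₁ := by
      rw [mem_CC, ← mul_inv_eq_iff_eq_mul]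
      exact S.b₁
    have he2N : (⟨e₂, he2C⟩ : CC k₁) ∈
        Subgroup.normalizer (((TT S : Sylow 3 (CC k₁)) : Subgroup (CC k₁)) : Set (CC k₁)) := by
      rw [Subgroup.mem_normalizer_iff]
      have hc2 : ∀ z ∈ (P : Subgroup G), e₂ * z * e₂⁻¹ ∈ (P : Subgroup G) := by
        intro z hz
        obtain ⟨i, j, rfl⟩ := S.gen z hz
        have e2 : e₂ * (k₁ ^ i * k₂ ^ j) * e₂⁻¹ = (e₂ * k₁ * e₂⁻¹) ^ i * (e₂ * k₂ * e₂⁻¹) ^ j := by
          rw [conj_pow, conj_pow]; group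
        rw [e2, S.b₁, S.b₂]
        exact mul_mem (pow_mem S.m₁ _) (pow_mem (inv_mem S.m₂) _)
      have hc3 : ∀ z ∈ (P : Subgroup G), e₂⁻¹ * z * e₂ ∈ (P : Subgroup G) := by
        intro z hz
        obtain ⟨i, j, rfl⟩ := S.gen z hz
        have h1 : e₂⁻¹ * k₁ * e₂ = k₁ := by
          calc e₂⁻¹ * k₁ * e₂ = e₂⁻¹ * (e₂ * k₁ * e₂⁻¹) * e₂ := by rw [S.b₁]
            _ = k₁ := by group
        have h2 : e₂⁻¹ * k₂ * e₂ = k₂⁻¹ := by
          have h3 : e₂ * k₂⁻¹ * e₂⁻¹ = k₂ := by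
            calc e₂ * k₂⁻¹ * e₂⁻¹ = (e₂ * k₂ * e₂⁻¹)⁻¹ := by group
              _ = k₂ := by rw [S.b₂, inv_inv]
          calc e₂⁻¹ * k₂ * e₂ = e₂⁻¹ * (e₂ * k₂⁻¹ * e₂⁻¹) * e₂ := by rw [h3]
            _ = k₂⁻¹ := by group
        have e2 : e₂⁻¹ * (k₁ ^ i * k₂ ^ j) * e₂ = (e₂⁻¹ * k₁ * e₂) ^ i * (e₂⁻¹ * k₂ * e₂) ^ j := by
          have h5 : ∀ (x : G) (n : ℕ), (e₂⁻¹ * x * e₂) ^ n = e₂⁻¹ * x ^ n * e₂ := by
            intro x n
            have := conj_pow (a := e₂⁻¹) (b := x) (i := n)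
            rwa [inv_inv] at this
          rw [h5, h5]; group
        rw [e2, h1, h2]
        exact mul_mem (pow_mem S.m₁ _) (pow_mem (inv_mem S.m₂) _)
      intro z
      constructor
      · intro hz
        exact hc2 _ hz
      · intro hz
        have := hc3 _ (show e₂ * (z : G) * e₂⁻¹ ∈ (P : Subgroup G) from hz)
        have h6 : e₂⁻¹ * (e₂ * (z : G) * e₂⁻¹) * e₂ = z := by group
        rw [h6] at this
        exact this
    have h7 : (⟨k₂, P_le S S.m₂⟩ : CC k₁) * (⟨e₂, he2C⟩ : CC k₁) * (⟨k₂, P_le S S.m₂⟩ : CC k₁)⁻¹ *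
        (⟨e₂, he2C⟩ : CC k₁)⁻¹ ∈
        ⁅((TT S : Sylow 3 (CC k₁)) : Subgroup (CC k₁)),
          Subgroup.normalizer (((TT S : Sylow 3 (CC k₁)) : Subgroup (CC k₁)) : Set (CC k₁))⁆ :=
      Subgroup.commutator_mem_commutator S.m₂ he2N
    have h8 : (⟨k₂, P_le S S.m₂⟩ : CC k₁) =
        ((⟨k₂, P_le S S.m₂⟩ : CC k₁) * (⟨e₂, he2C⟩ : CC k₁) * (⟨k₂, P_le S S.m₂⟩ : CC k₁)⁻¹ *
        (⟨e₂, he2C⟩ : CC k₁)⁻¹)⁻¹ := by
      apply Subtype.ext
      change k₂ = (k₂ * e₂ * k₂⁻¹ * e₂⁻¹)⁻¹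
      have h9 : k₂ * e₂ * k₂⁻¹ * e₂⁻¹ = k₂ * (e₂ * k₂ * e₂⁻¹)⁻¹ := by group
      rw [h9, S.b₂, inv_inv]
      have h10 := p2 S
      rw [pow_succ, pow_two] at h10
      exact eq_inv_of_mul_eq_one_right h10
    rw [h8]
    exact inv_mem h7

theorem RR_normal : (RR k₁).Normal := H20.pResidual_normal 3

theorem k2_mem_RR : (⟨k₂, P_le S S.m₂⟩ : CC k₁) ∈ RR k₁ := by
  have h := Subgroup.mem_zpowers (⟨k₂, P_le S S.m₂⟩ : CC k₁)
  rw [← TT_inf S] at h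
  exact h.2

theorem k2_mem : k₂ ∈ KK k₁ := (mem_KK (P_le S S.m₂)).2 (k2_mem_RR S)

theorem index_RR : (RR k₁).index = 3 := by
  haveI : Fact (Nat.Prime 3) := ⟨Nat.prime_three⟩
  haveI := RR_normal S
  -- the index is a power of 3
  obtain ⟨k, hk⟩ := IsPGroup.iff_card.mp
    (H20.quotient_pResidual_isPGroup (p := 3) (G := CC k₁) (RR k₁) (le_refl _))
  rw [← Subgroup.index_eq_card] at hk
  have hR3 : (RR k₁).index = 3 ^ k := hk
  set T : Subgroup (CC k₁) := ((TT S : Sylow 3 (CC k₁)) : Subgroup (CC k₁)) with hT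
  have hTop : T ⊔ RR k₁ = ⊤ := by
    rw [← Subgroup.index_eq_one]
    have h1 : (T ⊔ RR k₁).index ∣ 3 ^ k := by
      rw [← hR3]; exact Subgroup.index_dvd_of_le le_sup_right
    have h2 : (T ⊔ RR k₁).index ∣ T.index := Subgroup.index_dvd_of_le le_sup_left
    have h3 : ¬ 3 ∣ T.index := (TT S).not_dvd_index
    have h4 : Nat.Coprime (3 ^ k) T.index :=
      Nat.Coprime.pow_left k ((Nat.Prime.coprime_iff_not_dvd Nat.prime_three).2 h3)
    exact Nat.eq_one_of_dvd_coprimes h4 h1 h2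
  have h5 : (RR k₁).index = (RR k₁).relIndex T := by
    rw [← Subgroup.relIndex_top_right, ← hTop, Subgroup.relIndex_sup_right]
  have hcT : Nat.card T = 9 := by
    rw [← S.card]
    exact Nat.card_congr (Subgroup.subgroupOfEquivOfLe (P_le S)).toEquiv
  have h6 := Subgroup.card_mul_index ((RR k₁).subgroupOf T)
  have h7 : Nat.card ((RR k₁).subgroupOf T) = 3 := by
    have h8 : Nat.card ((RR k₁).subgroupOf T) = Nat.card (T ⊓ RR k₁ : Subgroup (CC k₁)) := by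
      rw [inf_comm]
      have e := Subgroup.equivMapOfInjective ((RR k₁).subgroupOf T) T.subtype
        (Subgroup.subtype_injective _)
      rw [Nat.card_congr e.toEquiv, Subgroup.subgroupOf_map_subtype]
    rw [h8, TT_inf S, Nat.card_zpowers, Subgroup.orderOf_mk, S.o₂]
  rw [h7, hcT] at h6
  rw [h5]
  unfold Subgroup.relIndex
  omega

end

end Cfsg.Agent.JY.V1
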